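import Groth.Agent.Lib.LocAcyc.Divide
import Groth.Agent.Lib.LocProp.FibreSmooth
import Groth.Agent.Lib.SepField.Smooth
import Groth.Agent.Lib.FibreFlat.UnivRegular
import Groth.Agent.Lib.SepPts.SmoothDense
import Mathlib.RingTheory.Nilpotent.GeometricallyReduced
import Mathlib.RingTheory.LocalProperties.Reduced

/-!
# Dividing almost idempotents: flat finitely presented algebras with separable fibres
-/

universe u

namespace GrothLib.LocAcyc

open TensorProduct

set_option backward.isDefEq.respectTransparency.types false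

/-- The local ring at a minimal prime of a geometrically reduced algebra is formally smooth. -/
theorem isSmoothAt_of_mem_minimalPrimes {k F : Type u} [Field k] [CommRing F] [Algebra k F]
    [Algebra.IsGeometricallyReduced k F] (P : Ideal F) [P.IsPrime] (hP : P ∈ minimalPrimes F) :
    Algebra.IsSmoothAt k P := by
  haveI : _root_.IsReduced F := Algebra.isReduced_of_isGeometricallyReduced k
  let L := Localization.AtPrime P
  haveI : _root_.IsReduced L := inferInstanceAs (_root_.IsReduced (Localization P.primeCompl))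
  have hLf : IsField L := by
    haveI : Ring.KrullDimLE 0 L := by
      rw [Ring.krullDimLE_zero_iff]
      intro Q hQ
      have h : Q.comap (algebraMap F L) = P := by
        have hle : Q.comap (algebraMap F L) ≤ P :=
          ((IsLocalization.AtPrime.orderIsoOfPrime L P) ⟨Q, hQ⟩).2.2
        exact le_antisymm hle (hP.2 ⟨Ideal.IsPrime.comap _, bot_le⟩ hle)
      have : Q = IsLocalRing.maximalIdeal L := by
        rw [← IsLocalization.map_comap P.primeCompl L Q]
        exact (congrArg (Ideal.map (algebraMap F L)) h).trans (Localization.AtPrime.map_eq_maximalIdeal)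
      exact this ▸ IsLocalRing.maximalIdeal.isMaximal L
    exact Ring.KrullDimLE.isField_of_isReduced
  letI : Field L := hLf.toField
  haveI hgr : Algebra.IsGeometricallyReduced k L := by
    rw [Algebra.isGeometricallyReduced_field_iff]
    haveI : _root_.IsReduced (AlgebraicClosure k ⊗[k] F) :=
      (Algebra.isGeometricallyReduced_field_iff k F).1 inferInstance
    let M := P.primeCompl.map (Algebra.TensorProduct.includeRight (R := k) (A := AlgebraicClosure k) (B := F))
    let e := IsLocalization.tensorProductEquivOfMapIncludeRight k (AlgebraicClosure k) P.primeCompl L (Localization M)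
    exact isReduced_of_injective e e.injective
  exact GrothLib.SepField.formallySmooth_iff_isGeometricallyReduced.mpr hgr

variable {A E : Type u} [CommRing A] [IsDomain A] [IsIntegrallyClosed A] [CommRing E] [Algebra A E]
  [Algebra.FinitePresentation A E] [Module.Flat A E]

/-- At a smooth point, divisibility holds locally. -/
theorem exists_notMem_mul_mem {t : A} {b : E} (h : b * b = algebraMap A E t * b) (q : Ideal E) [q.IsPrime]
    [Algebra.IsSmoothAt A q] : ∃ s ∉ q, s * b ∈ Ideal.span {algebraMap A E t} := by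
  obtain ⟨g, hg, hstd⟩ := Algebra.IsSmoothAt.exists_notMem_isStandardSmooth A q
  have hf : (algebraMap A (Localization.Away g)).IsStandardSmooth :=
    RingHom.isStandardSmooth_algebraMap.2 hstd
  obtain ⟨n, φ, -, hφ⟩ := hf.exists_etale_mvPolynomial
  letI : Algebra (MvPolynomial (Fin n) A) (Localization.Away g) := φ.toAlgebra
  haveI : Algebra.Etale (MvPolynomial (Fin n) A) (Localization.Away g) := hφ
  haveI : IsIntegrallyClosed (MvPolynomial (Fin n) A) := SpecDense.isIntegrallyClosed_mvPolynomial_fin n
  let q' := q.map (algebraMap E (Localization.Away g))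
  have hd : Disjoint (↑(Submonoid.powers g) : Set E) ↑q := (Ideal.disjoint_powers_iff_notMem_of_isPrime g).2 hg
  haveI : q'.IsPrime := IsLocalization.isPrime_of_isPrime_disjoint (Submonoid.powers g) _ q ‹_› hd
  have hq' : q'.comap (algebraMap E (Localization.Away g)) = q :=
    IsLocalization.comap_map_of_isPrime_disjoint (Submonoid.powers g) (Localization.Away g) ‹_› hd
  let T := algebraMap A E t
  have key : ∀ z : E, (∃ s ∉ q', s * algebraMap E (Localization.Away g) z = 0) → ∃ s ∉ q, s * z = 0 := by
    rintro z ⟨s, hs, hsz⟩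
    obtain ⟨⟨s₀, m⟩, hm⟩ := IsLocalization.surj (Submonoid.powers g) s
    have h1 : algebraMap E (Localization.Away g) (s₀ * z) = algebraMap E (Localization.Away g) 0 := by
      rw [map_mul, map_zero, ← hm, mul_right_comm, hsz, zero_mul]
    obtain ⟨v, hv⟩ := (IsLocalization.eq_iff_exists (Submonoid.powers g) _).1 h1
    refine ⟨v * s₀, Ideal.IsPrime.mul_notMem ‹_› (Set.disjoint_left.1 hd v.2) ?_, by
      rw [mul_assoc, hv, mul_zero]⟩
    intro hs₀
    rw [← hq', Ideal.mem_comap, ← hm] at hs₀
    exact hs ((Ideal.IsPrime.mem_or_mem ‹q'.IsPrime› hs₀).resolve_right fun h2 => by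
      have h3 : (m : E) ∈ q := hq' ▸ h2
      exact Set.disjoint_left.1 hd m.2 h3)
  rcases (Hensel.isNormalDomain_localization_of_etale (MvPolynomial (Fin n) A) q').1
      (algebraMap E (Localization.Away g) b) (algebraMap E (Localization.Away g) (b - T))
      (by rw [← map_mul, mul_sub, h, mul_comm, sub_self, map_zero]) with h1 | h1
  · obtain ⟨s, hs, hsb⟩ := key b h1
    exact ⟨s, hs, by rw [hsb]; exact Submodule.zero_mem _⟩
  · obtain ⟨s, hs, hsb⟩ := key _ h1
    rw [mul_sub, sub_eq_zero] at hsb
    exact ⟨s, hs, by rw [hsb]; exact Ideal.mul_mem_left _ s (Ideal.mem_span_singleton_self T)⟩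

/-- A solution of `b * b = t * b` in a flat finitely presented algebra with separable fibres over a normal domain. -/
theorem mem_span_of_flat_fp (hred : ∀ (K : Type u) [Field K] [Algebra A K], _root_.IsReduced (K ⊗[A] E))
    (t : A) (b : E) (h : b * b = algebraMap A E t * b) : b ∈ Ideal.span {algebraMap A E t} := by
  classical
  let T := algebraMap A E t
  by_contra hb
  let J : Ideal E := (Ideal.span {T}).colon (Ideal.span {b})
  have hJmem : ∀ s : E, s ∈ J ↔ s * b ∈ Ideal.span {T} := fun s => by
    refine ⟨fun hs => Submodule.mem_colon.1 hs b (Ideal.mem_span_singleton_self b), fun hs => ?_⟩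
    refine Submodule.mem_colon.2 fun p hp => ?_
    obtain ⟨c, rfl⟩ := Ideal.mem_span_singleton'.1 hp
    rw [smul_eq_mul, mul_left_comm]
    exact Ideal.mul_mem_left _ c hs
  obtain ⟨𝔓, h𝔓, hJ𝔓⟩ := Ideal.exists_le_maximal J fun hJ => hb (by
    simpa using (hJmem 1).1 (hJ ▸ Submodule.mem_top))
  let Q := 𝔓.comap (algebraMap A E)
  haveI : Q.IsPrime := Ideal.IsPrime.comap _
  let F := Q.ResidueField ⊗[A] E
  haveI : IsNoetherianRing F := Algebra.FiniteType.isNoetherianRing Q.ResidueField _
  haveI : _root_.IsReduced F := hred Q.ResidueField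
  haveI : Algebra.IsGeometricallyReduced Q.ResidueField F := by
    rw [Algebra.isGeometricallyReduced_field_iff]
    haveI := hred (AlgebraicClosure Q.ResidueField)
    exact isReduced_of_injective
      (Algebra.TensorProduct.cancelBaseChange A Q.ResidueField Q.ResidueField (AlgebraicClosure Q.ResidueField) E)
      (Algebra.TensorProduct.cancelBaseChange A Q.ResidueField Q.ResidueField (AlgebraicClosure Q.ResidueField) E).injective
  let ι : E →ₐ[A] F := Algebra.TensorProduct.includeRight
  have hnot : ∀ q₀ ∈ minimalPrimes F, ∃ g ∈ J, ι g ∉ q₀ := by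
    intro q₀ hq₀
    haveI : q₀.IsPrime := hq₀.1.1
    haveI : (q₀.comap ι).IsPrime := Ideal.IsPrime.comap _
    haveI : Algebra.IsSmoothAt A (q₀.comap ι) :=
      LocProp.isSmoothAt_of_flat_of_fibre Q q₀ (isSmoothAt_of_mem_minimalPrimes q₀ hq₀)
        (Module.Flat.trans A E (Localization.AtPrime (q₀.comap ι)))
    obtain ⟨s, hs, hsb⟩ := exists_notMem_mul_mem h (q₀.comap ι)
    exact ⟨s, (hJmem s).2 hsb, hs⟩
  letI : Algebra E F := ι.toRingHom.toAlgebra
  obtain ⟨s, hs, hreg⟩ := FibreFlat.exists_regular_of_torsion (B := E) (B' := F) (N := F) J fun z hz => by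
    refine IsReduced.eq_zero z (mem_nilradical.1 ?_)
    rw [nilradical, ← Ideal.sInf_minimalPrimes (I := (0 : Ideal F))]
    refine Submodule.mem_sInf.2 fun q₀ hq₀ => ?_
    obtain ⟨g, hg, hgq⟩ := hnot q₀ hq₀
    have hp : Ideal.IsPrime (q₀ : Ideal F) := hq₀.1.1
    exact (hp.mem_or_mem (show ι g * z ∈ q₀ from
      (show ι g * z = 0 from hz g hg) ▸ Submodule.zero_mem _)).resolve_left hgq
  have hcomm : ∀ (g : E) (z : E ⊗[A] Q.ResidueField), TensorProduct.comm A E Q.ResidueField (g • z) =
      ι g * TensorProduct.comm A E Q.ResidueField z := fun g z => by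
    induction z with
    | zero => rw [smul_zero, map_zero, mul_zero]
    | tmul e κ =>
      rw [TensorProduct.smul_tmul', TensorProduct.comm_tmul, TensorProduct.comm_tmul]
      show κ ⊗ₜ[A] (g * e) = ((1 : Q.ResidueField) ⊗ₜ[A] g) * (κ ⊗ₜ[A] e)
      rw [Algebra.TensorProduct.tmul_mul_tmul, one_mul]
    | add x y hx hy => rw [smul_add, map_add, hx, hy, map_add, mul_add]
  have hflat : Module.Flat A (LocalizedModule 𝔓.primeCompl E) := FlatModel.flat_localizedModule _
  have hu := FibreFlat.univ_regular (A := A) (B := E) (M := E) (K := Q.ResidueField) 𝔓 hflat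
    (Ideal.ker_algebraMap_residueField Q) s (fun z hz => by
      refine ⟨1, fun h1 => h𝔓.ne_top ((Ideal.eq_top_iff_one _).2 h1), ?_⟩
      rw [one_smul]
      refine (TensorProduct.comm A E Q.ResidueField).injective ((hreg _ ?_).trans (map_zero _).symm)
      show ι s * _ = 0
      rw [← hcomm, hz, map_zero]) (A ⧸ Ideal.span {t})
  have hquot : ∀ e : E, e ⊗ₜ[A] (1 : A ⧸ Ideal.span {t}) = 0 ↔ e ∈ Ideal.span {T} := fun e => by
    have h1 : e ∈ (Ideal.span {t} • (⊤ : Submodule A E)) ↔ e ∈ Ideal.span {T} := by
      rw [Ideal.smul_top_eq_map, Submodule.restrictScalars_mem, Ideal.map_span, Set.image_singleton]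
    rw [← h1, ← Flatness.one_tmul_eq_zero_iff, ← (TensorProduct.comm A E (A ⧸ Ideal.span {t})).map_eq_zero_iff,
      TensorProduct.comm_tmul]
  obtain ⟨r, hr, hrz⟩ := hu (b ⊗ₜ 1) (by
    rw [TensorProduct.smul_tmul', smul_eq_mul]
    exact (hquot _).2 ((hJmem s).1 hs))
  rw [TensorProduct.smul_tmul', smul_eq_mul, hquot] at hrz
  exact hr (hJ𝔓 ((hJmem r).2 hrz))

end GrothLib.LocAcyc
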