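import Groth.Agent.Lib.LocAcyc.KrullDivide
import Groth.Agent.Lib.N2.MoriNagata
import Groth.Agent.Lib.Hensel.Reduced
import Mathlib.RingTheory.Smooth.NoetherianDescent
import Mathlib.RingTheory.RingHom.Etale

/-!
# Dividing almost idempotents: flat algebras with separable fibres over Noetherian rings
-/

universe u

namespace GrothLib.LocAcyc

open TensorProduct

set_option backward.isDefEq.respectTransparency.types false

/-- Base change of an etale algebra over any ring. -/
theorem etale_map' (A₀ P E T : Type u) [CommRing A₀] [CommRing P] [CommRing E] [CommRing T] [Algebra A₀ P]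
    [Algebra A₀ E] [Algebra A₀ T] [Algebra P E] [IsScalarTower A₀ P E] [Algebra.Etale P E] :
    (Algebra.TensorProduct.map (IsScalarTower.toAlgHom A₀ P E) (AlgHom.id A₀ T)).toRingHom.Etale := by
  let ε : (P ⊗[A₀] T) ⊗[P] E →+* E ⊗[A₀] T :=
    RingHom.comp (Algebra.TensorProduct.cancelBaseChange A₀ P E E T).toAlgHom.toRingHom
      (Algebra.TensorProduct.comm P (P ⊗[A₀] T) E).toAlgHom.toRingHom
  have hε : Function.Bijective ε :=
    (Algebra.TensorProduct.cancelBaseChange A₀ P E E T).bijective.comp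
      (Algebra.TensorProduct.comm P (P ⊗[A₀] T) E).bijective
  have h1 : (algebraMap (P ⊗[A₀] T) ((P ⊗[A₀] T) ⊗[P] E)).Etale := RingHom.etale_algebraMap.2 inferInstance
  have h2 : (Algebra.TensorProduct.map (IsScalarTower.toAlgHom A₀ P E) (AlgHom.id A₀ T)).toRingHom =
      ε.comp (algebraMap (P ⊗[A₀] T) ((P ⊗[A₀] T) ⊗[P] E)) := by
    refine RingHom.ext fun z => ?_
    induction z using TensorProduct.induction_on with
    | zero => simp
    | tmul r a =>
      show algebraMap P E r ⊗ₜ[A₀] a =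
        Algebra.TensorProduct.cancelBaseChange A₀ P E E T ((1 : E) ⊗ₜ[P] (r ⊗ₜ[A₀] a))
      rw [Algebra.TensorProduct.cancelBaseChange_tmul, Algebra.smul_def, mul_one]
    | add x y hx hy => rw [map_add, map_add, hx, hy]
  rw [h2]
  exact RingHom.Etale.respectsIso.1 _ (RingEquiv.ofBijective ε hε) h1

/-- Reducedness of fibres passes to etale algebras. -/
theorem isReduced_tensor_of_etale (A₀ P E K : Type u) [CommRing A₀] [CommRing P] [CommRing E] [CommRing K]
    [Algebra A₀ P] [Algebra A₀ E] [Algebra A₀ K] [Algebra P E] [IsScalarTower A₀ P E] [Algebra.Etale P E]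
    [_root_.IsReduced (K ⊗[A₀] P)] : _root_.IsReduced (K ⊗[A₀] E) := by
  haveI : _root_.IsReduced (P ⊗[A₀] K) :=
    isReduced_of_injective (Algebra.TensorProduct.comm A₀ P K) (Algebra.TensorProduct.comm A₀ P K).injective
  letI : Algebra (P ⊗[A₀] K) (E ⊗[A₀] K) :=
    (Algebra.TensorProduct.map (IsScalarTower.toAlgHom A₀ P E) (AlgHom.id A₀ K)).toRingHom.toAlgebra
  haveI : Algebra.Etale (P ⊗[A₀] K) (E ⊗[A₀] K) := etale_map' A₀ P E K
  haveI := Hensel.isReduced_of_etale (P ⊗[A₀] K) (E ⊗[A₀] K)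
  exact isReduced_of_injective (Algebra.TensorProduct.comm A₀ K E) (Algebra.TensorProduct.comm A₀ K E).injective

/-- The integral closure of a noetherian local subdomain of a normal domain is a Krull subdomain. -/
theorem exists_family_of_hom {R A L : Type u} [CommRing R] [CommRing A] [IsDomain A] [IsIntegrallyClosed A]
    [Algebra R A] [CommRing L] [IsDomain L] [IsNoetherianRing L] [IsLocalRing L] [Algebra R L]
    (lA : L →ₐ[R] A) (hlinj : Function.Injective lA) :
    ∃ B : Subalgebra R A, lA.range ≤ B ∧ ∃ ι : Type u, Nonempty (Krull.Family B ι) := by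
  obtain ⟨ι, ⟨F⟩⟩ := MoriNagata.nonempty_family (A := L)
  let lF : FractionRing L →+* FractionRing A :=
    IsFractionRing.lift (g := (algebraMap A (FractionRing A)).comp lA.toRingHom)
      ((IsFractionRing.injective A (FractionRing A)).comp hlinj)
  have hlF : ∀ l, lF (algebraMap L (FractionRing L) l) = algebraMap A (FractionRing A) (lA l) := fun l =>
    IsFractionRing.lift_algebraMap _ l
  let B₀ := integralClosure L (FractionRing L)
  have hmem : ∀ z : B₀, lF z ∈ (algebraMap A (FractionRing A)).range := fun z => by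
    refine IsIntegrallyClosed.algebraMap_eq_of_integral ?_
    obtain ⟨p, hp, hz⟩ := z.2
    refine ⟨p.map lA.toRingHom, hp.map _, ?_⟩
    rw [Polynomial.eval₂_map, show (algebraMap A (FractionRing A)).comp lA.toRingHom =
      lF.comp (algebraMap L (FractionRing L)) from RingHom.ext fun l => (hlF l).symm, ← Polynomial.hom_eval₂, hz,
      map_zero]
  let eA : A ≃+* (algebraMap A (FractionRing A)).range :=
    RingEquiv.ofBijective (algebraMap A (FractionRing A)).rangeRestrict
      ⟨fun a a' h => IsFractionRing.injective A (FractionRing A) (congrArg Subtype.val h),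
        (algebraMap A (FractionRing A)).rangeRestrict_surjective⟩
  let j : B₀ →+* A := eA.symm.toRingHom.comp
    ((lF.comp B₀.val.toRingHom).codRestrict (algebraMap A (FractionRing A)).range hmem)
  have hj : ∀ z : B₀, algebraMap A (FractionRing A) (j z) = lF z := fun z =>
    congrArg Subtype.val (eA.apply_symm_apply ⟨lF z, hmem z⟩)
  have hjinj : Function.Injective j := fun a b h =>
    Subtype.ext (lF.injective (by rw [← hj a, ← hj b, h]))
  have hjL : ∀ l : L, j (algebraMap L B₀ l) = lA l := fun l =>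
    IsFractionRing.injective A (FractionRing A) ((hj _).trans (hlF l))
  have hone : j 1 = 1 := map_one j
  let B : Subalgebra R A :=
    { carrier := Set.range (fun z : B₀ => j z)
      mul_mem' := fun {x y} hx hy => by
        obtain ⟨a, ha⟩ := hx
        obtain ⟨b, hb⟩ := hy
        exact ⟨a * b, (map_mul j a b).trans (congrArg₂ (· * ·) ha hb)⟩
      one_mem' := ⟨1, hone⟩
      add_mem' := fun {x y} hx hy => by
        obtain ⟨a, ha⟩ := hx
        obtain ⟨b, hb⟩ := hy
        exact ⟨a + b, (map_add j a b).trans (congrArg₂ (· + ·) ha hb)⟩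
      zero_mem' := ⟨0, map_zero j⟩
      algebraMap_mem' := fun r => ⟨algebraMap L B₀ (algebraMap R L r), (hjL _).trans (lA.commutes r)⟩ }
  have hmemB : ∀ z : B₀, j z ∈ B := fun z => ⟨z, rfl⟩
  have hqb : Function.Bijective (j.codRestrict B hmemB) := by
    refine ⟨fun a b h => hjinj (congrArg Subtype.val h), fun x => ?_⟩
    obtain ⟨z, hz⟩ := x.2
    exact ⟨z, Subtype.ext hz⟩
  let q : B₀ ≃+* B := RingEquiv.ofBijective (j.codRestrict B hmemB) hqb
  refine ⟨B, fun x hx => hx.elim fun l hl => ⟨algebraMap L B₀ l, (hjL l).trans hl⟩, ι, ⟨{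
    val := fun i x => F.val i (q.symm x)
    val_mul := fun i x y => by rw [map_mul, F.val_mul]
    val_ne_top := fun i x hx => F.val_ne_top i _ fun h => hx (q.symm.injective (h.trans (map_zero q.symm).symm))
    finite := fun b hb => F.finite _ fun h => hb (q.symm.injective (h.trans (map_zero q.symm).symm))
    dvd := fun a b hb h => by
      have h1 := F.dvd _ _ (fun h0 => hb (q.symm.injective (h0.trans (map_zero q.symm).symm))) h
      simpa using map_dvd q h1 }⟩⟩

/-- A finitely generated subalgebra of a normal local domain lies in a Krull subdomain. -/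
theorem exists_subalgebra_family {R A : Type u} [CommRing R] [IsNoetherianRing R] [CommRing A] [IsDomain A]
    [IsIntegrallyClosed A] [IsLocalRing A] [Algebra R A] (A₁ : Subalgebra R A) (h₁ : A₁.FG) :
    ∃ B : Subalgebra R A, A₁ ≤ B ∧ ∃ ι : Type u, Nonempty (Krull.Family B ι) := by
  haveI : Algebra.FiniteType R A₁ := (Subalgebra.fg_iff_finiteType A₁).1 h₁
  haveI : IsNoetherianRing A₁ := Algebra.FiniteType.isNoetherianRing R A₁
  let m := (IsLocalRing.maximalIdeal A).comap A₁.val.toRingHom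
  haveI : m.IsPrime := Ideal.IsPrime.comap _
  haveI : IsDomain (Localization.AtPrime m) :=
    IsLocalization.isDomain_localization m.primeCompl_le_nonZeroDivisors
  haveI : IsNoetherianRing (Localization.AtPrime m) :=
    IsLocalization.isNoetherianRing m.primeCompl (Localization.AtPrime m) inferInstance
  let lA : Localization.AtPrime m →ₐ[R] A := IsLocalization.liftAlgHom (M := m.primeCompl) (f := A₁.val)
    fun s => IsLocalRing.notMem_maximalIdeal.1 s.2
  have hlA : ∀ a : A₁, lA (algebraMap A₁ (Localization.AtPrime m) a) = a := fun a => IsLocalization.lift_eq _ a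
  have hlinj : Function.Injective lA := by
    show Function.Injective (IsLocalization.lift (M := m.primeCompl) (S := Localization.AtPrime m) _)
    rw [IsLocalization.lift_injective_iff]
    intro x y
    exact ⟨fun h => congrArg A₁.val (IsLocalization.injective (Localization.AtPrime m)
        m.primeCompl_le_nonZeroDivisors h),
      fun h => congrArg _ (Subtype.val_injective h)⟩
  obtain ⟨B, hB, h⟩ := exists_family_of_hom lA hlinj
  exact ⟨B, fun a ha => hB ⟨_, hlA ⟨a, ha⟩⟩, h⟩

/-- The divisibility over a Krull domain. -/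
theorem mem_span_of_etale_family {R B C E : Type u} [CommRing R] [CommRing B] [IsDomain B] [CommRing C]
    [Algebra R B] [Algebra R C] [Module.Flat R C]
    (hC : ∀ (K : Type u) [Field K] [Algebra R K], _root_.IsReduced (K ⊗[R] C))
    [CommRing E] [Algebra (B ⊗[R] C) E] [Algebra.Etale (B ⊗[R] C) E] {ι : Type u} (F : Krull.Family B ι)
    {t : B} (ht : t ≠ 0) {b : E} (h : b * b = algebraMap (B ⊗[R] C) E (t ⊗ₜ 1) * b) :
    b ∈ Ideal.span {algebraMap (B ⊗[R] C) E (t ⊗ₜ 1)} := by
  letI : Algebra B E := ((algebraMap (B ⊗[R] C) E).comp Algebra.TensorProduct.includeLeftRingHom).toAlgebra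
  haveI : IsScalarTower B (B ⊗[R] C) E := IsScalarTower.of_algebraMap_eq fun _ => rfl
  haveI : Module.Flat B E := Module.Flat.trans B (B ⊗[R] C) E
  have hred : ∀ (K : Type u) [Field K] [Algebra B K], _root_.IsReduced (K ⊗[B] E) := by
    intro K _ _
    letI : Algebra R K := ((algebraMap B K).comp (algebraMap R B)).toAlgebra
    haveI : IsScalarTower R B K := IsScalarTower.of_algebraMap_eq fun _ => rfl
    haveI := hC K
    haveI : _root_.IsReduced (K ⊗[B] (B ⊗[R] C)) :=
      isReduced_of_injective (Algebra.TensorProduct.cancelBaseChange R B B K C)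
        (Algebra.TensorProduct.cancelBaseChange R B B K C).injective
    exact isReduced_tensor_of_etale B (B ⊗[R] C) E K
  have h1 := mem_span_of_family F hred ht ((h.trans (Algebra.smul_def t b).symm : b * b = t • b))
  rwa [Ideal.map_span, Set.image_singleton] at h1

/-- A descent lemma for elements of a tensor product. -/
theorem exists_subalgebra_tensor' {R A C : Type u} [CommRing R] [CommRing A] [CommRing C] [Algebra R A]
    [Algebra R C] (s : Finset (A ⊗[R] C)) :
    ∃ A₁ : Subalgebra R A, A₁.FG ∧ ∀ B : Subalgebra R A, A₁ ≤ B →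
      (↑s : Set (A ⊗[R] C)) ⊆ Set.range (Algebra.TensorProduct.map B.val (AlgHom.id R C)) := by
  classical
  have key : ∀ z : A ⊗[R] C, ∃ s₀ : Finset A, ∀ B : Subalgebra R A, ↑s₀ ⊆ (B : Set A) →
      z ∈ (Algebra.TensorProduct.map B.val (AlgHom.id R C)).range := fun z => by
    induction z with
    | zero => exact ⟨∅, fun _ _ => Subalgebra.zero_mem _⟩
    | tmul a c => exact ⟨{a}, fun B h => ⟨(⟨a, h (by simp)⟩ : B) ⊗ₜ c, rfl⟩⟩
    | add x y hx hy =>
      obtain ⟨s₁, h₁⟩ := hx
      obtain ⟨s₂, h₂⟩ := hy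
      exact ⟨s₁ ∪ s₂, fun B h => Subalgebra.add_mem _
        (h₁ B ((Finset.coe_subset.2 Finset.subset_union_left).trans h))
        (h₂ B ((Finset.coe_subset.2 Finset.subset_union_right).trans h))⟩
  choose f hf using key
  refine ⟨Algebra.adjoin R ↑(s.biUnion f), ⟨s.biUnion f, rfl⟩, fun B hB z hz => hf z B ?_⟩
  exact ((Finset.coe_subset.2 (Finset.subset_biUnion_of_mem f hz)).trans Algebra.subset_adjoin).trans hB

/-- A solution of `b * b = t * b` in an etale algebra over the base change of a flat algebra with separable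
fibres over a Noetherian ring to a normal local domain. -/
theorem mem_span_of_noetherian {R A C : Type u} [CommRing R] [IsNoetherianRing R] [CommRing C] [Algebra R C]
    [Module.Flat R C] (hC : ∀ (K : Type u) [Field K] [Algebra R K], _root_.IsReduced (K ⊗[R] C))
    [CommRing A] [IsDomain A] [IsIntegrallyClosed A] [IsLocalRing A] [Algebra R A]
    {E : Type u} [CommRing E] [Algebra (A ⊗[R] C) E] [Algebra.Etale (A ⊗[R] C) E]
    (t : A) (ht : t ≠ 0) (b : E) (h : b * b = algebraMap (A ⊗[R] C) E (t ⊗ₜ 1) * b) :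
    b ∈ Ideal.span {algebraMap (A ⊗[R] C) E (t ⊗ₜ 1)} := by
  classical
  obtain ⟨P₀, E₀, _, _, hP₀, hE₀, ⟨e⟩⟩ := Algebra.Etale.exists_subalgebra_fg R (A ⊗[R] C) E
  obtain ⟨s₀, hs₀⟩ := hP₀
  have key : ∀ w : (A ⊗[R] C) ⊗[P₀] E₀, ∃ s : Finset (A ⊗[R] C), ∀ B : Subalgebra R A,
      ↑s ⊆ Set.range (Algebra.TensorProduct.map B.val (AlgHom.id R C)) →
      ∀ (_ : Algebra P₀ (B ⊗[R] C)) (j : B ⊗[R] C →ₐ[P₀] A ⊗[R] C),
        ⇑j = ⇑(Algebra.TensorProduct.map B.val (AlgHom.id R C)) →
        w ∈ (Algebra.TensorProduct.map j (AlgHom.id P₀ E₀)).range := fun w => by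
    induction w with
    | zero => exact ⟨∅, fun _ _ _ _ _ => Subalgebra.zero_mem _⟩
    | tmul p x =>
      refine ⟨{p}, fun B h _ j hj => ?_⟩
      obtain ⟨p₀, hp⟩ := h (Finset.mem_singleton_self p)
      exact ⟨p₀ ⊗ₜ x, show j p₀ ⊗ₜ x = _ by rw [hj, hp]⟩
    | add x y hx hy =>
      obtain ⟨s₁, h₁⟩ := hx
      obtain ⟨s₂, h₂⟩ := hy
      exact ⟨s₁ ∪ s₂, fun B h _ j hj => Subalgebra.add_mem _
        (h₁ B ((Finset.coe_subset.2 Finset.subset_union_left).trans h) _ j hj)
        (h₂ B ((Finset.coe_subset.2 Finset.subset_union_right).trans h) _ j hj)⟩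
  obtain ⟨s₁, hs₁⟩ := key (e b)
  obtain ⟨A₁, hA₁, hs⟩ := exists_subalgebra_tensor' (s₀ ∪ s₁)
  obtain ⟨B, hB, ι', ⟨F⟩⟩ := exists_subalgebra_family (A₁ ⊔ Algebra.adjoin R {t}) (hA₁.sup ⟨{t}, by simp⟩)
  have hsB := hs B (le_sup_left.trans hB)
  let tB : B := ⟨t, hB ((le_sup_right : Algebra.adjoin R {t} ≤ _) (Algebra.subset_adjoin rfl))⟩
  let J : B ⊗[R] C →ₐ[R] A ⊗[R] C := Algebra.TensorProduct.map B.val (AlgHom.id R C)
  have hJ : Function.Injective J := Module.Flat.rTensor_preserves_injective_linearMap (M := C)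
    B.val.toLinearMap Subtype.val_injective
  have hP₀' : P₀ ≤ J.range := by
    rw [← hs₀, Algebra.adjoin_le_iff]
    exact (Finset.coe_subset.2 Finset.subset_union_left).trans hsB
  let J' := AlgEquiv.ofInjective J hJ
  letI : Algebra P₀ (B ⊗[R] C) := (J'.symm.toAlgHom.comp (Subalgebra.inclusion hP₀')).toRingHom.toAlgebra
  have hJP : ∀ p : P₀, J (algebraMap P₀ (B ⊗[R] C) p) = p := fun p =>
    congrArg Subtype.val (J'.apply_symm_apply (Subalgebra.inclusion hP₀' p))
  let j : B ⊗[R] C →ₐ[P₀] A ⊗[R] C := { J.toRingHom with commutes' := hJP }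
  obtain ⟨b₀, hb₀⟩ := hs₁ B ((Finset.coe_subset.2 Finset.subset_union_right).trans hsB) _ j rfl
  let ι : (B ⊗[R] C) ⊗[P₀] E₀ →ₐ[P₀] (A ⊗[R] C) ⊗[P₀] E₀ := Algebra.TensorProduct.map j (AlgHom.id P₀ E₀)
  have hι : Function.Injective ι :=
    Module.Flat.rTensor_preserves_injective_linearMap (M := E₀) j.toLinearMap hJ
  let T₀ : (B ⊗[R] C) ⊗[P₀] E₀ := (tB ⊗ₜ[R] (1 : C)) ⊗ₜ[P₀] (1 : E₀)
  have hιT : ι T₀ = e (algebraMap (A ⊗[R] C) E (t ⊗ₜ 1)) := by
    rw [e.commutes]
    rfl
  have hb₀' : ι b₀ = e b := hb₀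
  have h₀ : b₀ * b₀ = T₀ * b₀ :=
    hι (by rw [map_mul, map_mul, hιT, hb₀', ← map_mul, ← map_mul, h])
  have h1 : b₀ ∈ Ideal.span {T₀} :=
    mem_span_of_etale_family (R := R) (B := B) (C := C) (E := (B ⊗[R] C) ⊗[P₀] E₀) hC F (t := tB)
      (fun h0 => ht (congrArg Subtype.val h0)) h₀
  obtain ⟨c, hc⟩ := Ideal.mem_span_singleton'.1 h1
  refine Ideal.mem_span_singleton'.2 ⟨e.symm (ι c), e.injective ?_⟩
  rw [map_mul, e.apply_symm_apply, ← hιT, ← map_mul, ← hb₀', ← hc]

end GrothLib.LocAcyc
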