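import Groth.Agent.Lib.LocAcyc.Charts
import Groth.Agent.Lib.LocAcyc.FlatDivide
import Groth.Agent.Lib.LocAcyc.NoethDivide

/-!
# Flat morphisms with separable fibres are universally locally zero-acyclic
-/

universe u

open CategoryTheory CategoryTheory.Limits AlgebraicGeometry Opposite IsLocalRing
open GrothLib.EtSec
open scoped TensorProduct

set_option backward.isDefEq.respectTransparency.types false

noncomputable section

namespace GrothLib.LocAcyc

/-- Affine charts of a morphism with reduced fibres have reduced fibres. -/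
theorem isReduced_fibre_chart {X Y : Scheme.{u}} (g : X ⟶ Y)
    (hsep : ∀ (K : Type u) [Field K] (k : Spec (CommRingCat.of K) ⟶ Y), AlgebraicGeometry.IsReduced (pullback g k))
    {V : Y.Opens} (hV : IsAffineOpen V) {U : X.Opens} (hU : IsAffineOpen U) (hUV : U ≤ g ⁻¹ᵁ V)
    [Algebra Γ(Y, V) Γ(X, U)] (hc : algebraMap Γ(Y, V) Γ(X, U) = (g.appLE V U hUV).hom)
    (K : Type u) [Field K] [Algebra Γ(Y, V) K] : _root_.IsReduced (K ⊗[Γ(Y, V)] Γ(X, U)) := by
  let k : Spec (CommRingCat.of K) ⟶ Y := Spec.map (CommRingCat.ofHom (algebraMap Γ(Y, V) K)) ≫ hV.fromSpec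
  have sq := (isPullback_SpecMap_of_isPushout _ _ _ _
    (CommRingCat.isPushout_tensorProduct Γ(Y, V) K Γ(X, U))).flip
  have hf : Spec.map (CommRingCat.ofHom (algebraMap Γ(Y, V) Γ(X, U))) ≫ hV.fromSpec = hU.fromSpec ≫ g := by
    rw [hc]
    exact IsAffineOpen.SpecMap_appLE_fromSpec g hV hU hUV
  obtain ⟨j, hj, -, -⟩ := exists_openImmersion_chart sq (IsPullback.of_hasPullback g k) hU.fromSpec hV.fromSpec hf rfl
  haveI := hsep K k
  haveI : AlgebraicGeometry.IsReduced (Spec (CommRingCat.of (K ⊗[Γ(Y, V)] Γ(X, U)))) := isReduced_of_isOpenImmersion j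
  exact (affine_isReduced_iff (CommRingCat.of (K ⊗[Γ(Y, V)] Γ(X, U)))).1 inferInstance

/-- The base change of a flat algebra to a domain has no torsion. -/
theorem isSMulRegular_tmul_one {R A C : Type u} [CommRing R] [CommRing A] [IsDomain A] [Algebra R A] [CommRing C]
    [Algebra R C] [Module.Flat R C] {t : A} (ht : t ≠ 0) : IsSMulRegular (A ⊗[R] C) (t ⊗ₜ[R] (1 : C)) :=
  (show IsSMulRegular A t from fun _ _ h => mul_left_cancel₀ ht h).of_flat (S := A ⊗[R] C)

/-- Base changes of flat finitely presented algebras with separable fibres to normal domains are divisible. -/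
theorem divisible_of_finitePresentation {R C A : Type u} [CommRing R] [CommRing C] [Algebra R C]
    [Module.Flat R C] [Algebra.FinitePresentation R C]
    (hC : ∀ (K : Type u) [Field K] [Algebra R K], _root_.IsReduced (K ⊗[R] C))
    [CommRing A] [IsDomain A] [IsIntegrallyClosed A] [Algebra R A] :
    Divisible (Algebra.TensorProduct.includeLeftRingHom : A →+* A ⊗[R] C) := fun t ht =>
  ⟨isSMulRegular_tmul_one ht, fun E _ _ _ b hb => by
    letI : Algebra A E := ((algebraMap (A ⊗[R] C) E).comp Algebra.TensorProduct.includeLeftRingHom).toAlgebra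
    haveI : IsScalarTower A (A ⊗[R] C) E := IsScalarTower.of_algebraMap_eq fun _ => rfl
    haveI : Module.Flat A E := Module.Flat.trans A (A ⊗[R] C) E
    haveI : Algebra.FinitePresentation A E := Algebra.FinitePresentation.trans A (A ⊗[R] C) E
    refine mem_span_of_flat_fp (fun K _ _ => ?_) t b hb
    letI : Algebra R K := ((algebraMap A K).comp (algebraMap R A)).toAlgebra
    haveI : IsScalarTower R A K := IsScalarTower.of_algebraMap_eq fun _ => rfl
    haveI := hC K
    haveI : _root_.IsReduced (K ⊗[A] (A ⊗[R] C)) :=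
      isReduced_of_injective (Algebra.TensorProduct.cancelBaseChange R A A K C)
        (Algebra.TensorProduct.cancelBaseChange R A A K C).injective
    exact isReduced_tensor_of_etale A (A ⊗[R] C) E K⟩

/-- Base changes of flat algebras with separable fibres over Noetherian rings to normal domains are divisible. -/
theorem divisible_of_noetherian {R C A : Type u} [CommRing R] [IsNoetherianRing R] [CommRing C] [Algebra R C]
    [Module.Flat R C] (hC : ∀ (K : Type u) [Field K] [Algebra R K], _root_.IsReduced (K ⊗[R] C))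
    [CommRing A] [IsDomain A] [IsIntegrallyClosed A] [IsLocalRing A] [Algebra R A] :
    Divisible (Algebra.TensorProduct.includeLeftRingHom : A →+* A ⊗[R] C) := fun t ht =>
  ⟨isSMulRegular_tmul_one ht, fun _ _ _ _ b hb => mem_span_of_noetherian hC t ht b hb⟩

/-- Flat morphisms with separable fibres have divisible charts, in the Noetherian and finitely presented cases. -/
theorem hasDivisibleCharts_of_flat {X Y : Scheme.{u}} (g : X ⟶ Y) [Flat g]
    (hsep : ∀ (K : Type u) [Field K] (k : Spec (CommRingCat.of K) ⟶ Y), AlgebraicGeometry.IsReduced (pullback g k))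
    (h : IsLocallyNoetherian Y ∨ LocallyOfFinitePresentation g) : HasDivisibleCharts g := by
  intro x
  obtain ⟨_, ⟨V, hV, rfl⟩, hyV, -⟩ :=
    Y.isBasis_affineOpens.exists_subset_of_mem_open (Set.mem_univ (g.base x)) isOpen_univ
  obtain ⟨_, ⟨U, hU, rfl⟩, hxU, hUV⟩ := X.isBasis_affineOpens.exists_subset_of_mem_open
    (show x ∈ g ⁻¹ᵁ V from hyV) (g ⁻¹ᵁ V).2
  refine ⟨V, hV, U, hU, hUV, hxU, fun A _ _ _ _ F _ _ _ _ φ => ?_⟩
  letI : Algebra Γ(Y, V) A := φ.toAlgebra
  letI : Algebra Γ(Y, V) Γ(X, U) := (g.appLE V U hUV).hom.toAlgebra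
  haveI : Module.Flat Γ(Y, V) Γ(X, U) := Flat.flat_appLE g hV hU hUV
  have hC : ∀ (K : Type u) [Field K] [Algebra Γ(Y, V) K], _root_.IsReduced (K ⊗[Γ(Y, V)] Γ(X, U)) :=
    fun K _ _ => isReduced_fibre_chart g hsep hV hU hUV rfl K
  refine ⟨A ⊗[Γ(Y, V)] Γ(X, U), inferInstance,
    (Algebra.TensorProduct.includeRight (R := Γ(Y, V)) (A := A) (B := Γ(X, U))).toRingHom,
    Algebra.TensorProduct.includeLeftRingHom,
    (isPullback_SpecMap_of_isPushout _ _ _ _ (CommRingCat.isPushout_tensorProduct Γ(Y, V) A Γ(X, U))).flip, ?_⟩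
  rcases h with h | h
  · haveI : IsNoetherianRing Γ(Y, V) := IsLocallyNoetherian.component_noetherian ⟨V, hV⟩
    exact (divisible_of_noetherian hC).nil
  · haveI : Algebra.FinitePresentation Γ(Y, V) Γ(X, U) :=
      g.finitePresentation_appLE hV hU hUV
    exact (divisible_of_finitePresentation hC).nil

/-- Flat morphisms with separable fibres are universally locally zero-acyclic, in the Noetherian and finitely
presented cases. -/
theorem isULocZeroAcyclic_of_flat {X Y : Scheme.{u}} (g : X ⟶ Y) [Flat g]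
    (hsep : ∀ (K : Type u) [Field K] (k : Spec (CommRingCat.of K) ⟶ Y), AlgebraicGeometry.IsReduced (pullback g k))
    (h : IsLocallyNoetherian Y ∨ LocallyOfFinitePresentation g) : EtAcyc.IsULocZeroAcyclic g :=
  isULocZeroAcyclic_of_charts (uGen_of_flat g) (hasDivisibleCharts_of_flat g hsep h)

end GrothLib.LocAcyc
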