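import Groth.Agent.Lib.LocAcyc.Divide
import Groth.Agent.Lib.N2.KrullFamily
import Mathlib.RingTheory.LocalRing.ResidueField.Ideal

/-!
# Dividing almost idempotents over Krull domains

For a flat algebra with reduced fibres over a domain with a finite-character family of valuations,
a solution of `b * b = t * b` is divisible by `t`.
-/

universe u v

namespace GrothLib.LocAcyc

open TensorProduct

set_option backward.isDefEq.respectTransparency.types false

variable {B E : Type u} [CommRing B] [IsDomain B] [CommRing E] [Algebra B E] [Module.Flat B E]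

/-- An element vanishing in the fibre at `P` lies in `P • E`. -/
theorem mem_smul_top_of_fiber_eq_zero (P : Ideal B) [P.IsPrime] (β : E)
    (h : (1 : P.ResidueField) ⊗ₜ[B] β = 0) : β ∈ P • (⊤ : Submodule B E) := by
  let f : B →ₗ[B] P.ResidueField := Algebra.linearMap B P.ResidueField
  have h1 : f.rTensor E ((1 : B) ⊗ₜ[B] β) = 0 := by simpa [f] using h
  obtain ⟨z, hz⟩ := (Module.Flat.rTensor_exact E (LinearMap.exact_subtype_ker_map f) _).1 h1
  have key : ∀ w : (LinearMap.ker f) ⊗[B] E,
      TensorProduct.lid B E ((LinearMap.ker f).subtype.rTensor E w) ∈ P • (⊤ : Submodule B E) := fun w => by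
    induction w with
    | zero => simp
    | tmul p e =>
      rw [LinearMap.rTensor_tmul, TensorProduct.lid_tmul]
      refine Submodule.smul_mem_smul ?_ Submodule.mem_top
      exact Ideal.algebraMap_residueField_eq_zero.1 (LinearMap.mem_ker.1 p.2)
    | add x y hx hy => rw [map_add, map_add]; exact Submodule.add_mem _ hx hy
  simpa [hz] using key z

/-- An element of a prime with a uniformizer is divisible by it up to units at the prime. -/
theorem exists_smul_mem_of_isUniformizer {P : Ideal B} [P.IsPrime] {c : B}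
    (hc : Krull.IsUniformizer P c) {β : E} (hβ : β ∈ P • (⊤ : Submodule B E)) :
    ∃ v ∉ P, ∃ β' : E, v • β = c • β' := by
  refine Submodule.smul_induction_on hβ (fun z hz e _ => ?_) fun x y hx hy => ?_
  · by_cases hz0 : z = 0
    · exact ⟨1, fun h => ‹P.IsPrime›.ne_top ((Ideal.eq_top_iff_one P).2 h), 0,
        by rw [hz0, zero_smul, smul_zero, smul_zero]⟩
    obtain ⟨n, u, w, hu, hw, he⟩ := hc.2.2 z hz0
    cases n with
    | zero =>
      rw [pow_zero, one_mul] at he
      exact absurd (he ▸ P.mul_mem_left u hz) hw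
    | succ n =>
      exact ⟨u, hu, (c ^ n * w) • e, by rw [smul_smul, smul_smul, he, pow_succ', mul_assoc]⟩
  · obtain ⟨v, hv, a, ha⟩ := hx
    obtain ⟨v', hv', a', ha'⟩ := hy
    refine ⟨v * v', Ideal.IsPrime.mul_notMem ‹_› hv hv', v' • a + v • a', ?_⟩
    rw [smul_add, smul_add, mul_smul, smul_comm v v' x, ha, mul_smul, ha', smul_comm c v' a, smul_comm c v a']

/-- Multiplication by a nonzero element is injective on a flat algebra over a domain. -/
theorem smul_eq_zero_of_flat {a : B} (ha : a ≠ 0) {z : E} (hz : a • z = 0) : z = 0 := by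
  have h : IsSMulRegular B a := fun x y hxy => mul_left_cancel₀ ha hxy
  exact (h.of_flat (S := E)) ((Algebra.smul_def a z).symm.trans (hz.trans (smul_zero _).symm))

/-- The local statement at a prime with a uniformizer. -/
theorem exists_notMem_smul_mem {P : Ideal B} [P.IsPrime] {c : B} (hc : Krull.IsUniformizer P c)
    (hred : _root_.IsReduced (P.ResidueField ⊗[B] E)) {t : B} (ht : t ≠ 0) {b : E}
    (h : b * b = t • b) : ∃ s ∉ P, ∃ e : E, s • b = t • e := by
  obtain ⟨n, u, w, hu, hw, he⟩ := hc.2.2 t ht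
  have key : ∀ k ≤ n, ∃ s ∉ P, ∃ β : E, s • b = c ^ k • β := by
    intro k
    induction k with
    | zero => exact fun _ => ⟨1, fun hm => ‹P.IsPrime›.ne_top ((Ideal.eq_top_iff_one P).2 hm), b, by simp⟩
    | succ k ih =>
      intro hk
      obtain ⟨s, hs, β, hβ⟩ := ih (Nat.le_of_succ_le hk)
      obtain ⟨m, hm⟩ : ∃ m, n = k + (m + 1) := ⟨n - k - 1, by omega⟩
      have h1 : (c ^ k * c ^ k) • (u • (β * β) - (s * w * c ^ (m + 1)) • β) = 0 := by
        have h2 : (c ^ k • β) * (c ^ k • β) = (s * t) • (c ^ k • β) := by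
          rw [← hβ, smul_mul_smul_comm, h, smul_smul, smul_smul]
          congr 1
          ring
        have h3 : u • ((c ^ k • β) * (c ^ k • β)) = u • ((s * t) • (c ^ k • β)) := congrArg (u • ·) h2
        rw [smul_mul_smul_comm, smul_smul, smul_smul, smul_smul] at h3
        rw [smul_sub, smul_smul, smul_smul, sub_eq_zero, mul_comm _ u, h3]
        congr 1
        rw [show u * (s * t) = s * (u * t) by ring, he, hm]
        ring
      have h4 := sub_eq_zero.1 (smul_eq_zero_of_flat (mul_ne_zero (pow_ne_zero _ hc.2.1) (pow_ne_zero _ hc.2.1)) h1)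
      have h5 : (1 : P.ResidueField) ⊗ₜ[B] β = 0 := by
        have hu' : IsUnit (algebraMap B P.ResidueField u) :=
          isUnit_iff_ne_zero.2 fun h0 => hu (Ideal.algebraMap_residueField_eq_zero.1 h0)
        have h6 : (algebraMap B P.ResidueField u) ⊗ₜ[B] (β * β) = 0 := by
          rw [Algebra.algebraMap_eq_smul_one, smul_tmul, h4, ← smul_tmul, ← Algebra.algebraMap_eq_smul_one,
            Ideal.algebraMap_residueField_eq_zero.2 (P.mul_mem_left _ (Ideal.pow_mem_of_mem P hc.1 _ m.succ_pos)),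
            zero_tmul]
        refine hred.eq_zero _ ⟨2, ?_⟩
        obtain ⟨r, hr⟩ := hu'.exists_left_inv
        rw [pow_two, Algebra.TensorProduct.tmul_mul_tmul, one_mul,
          show (1 : P.ResidueField) ⊗ₜ[B] (β * β) = (r ⊗ₜ[B] (1 : E)) * (algebraMap B P.ResidueField u ⊗ₜ[B] (β * β)) by
            rw [Algebra.TensorProduct.tmul_mul_tmul, hr, one_mul], h6, mul_zero]
      obtain ⟨v, hv, β', hβ'⟩ := exists_smul_mem_of_isUniformizer hc (mem_smul_top_of_fiber_eq_zero P β h5)
      refine ⟨v * s, Ideal.IsPrime.mul_notMem ‹_› hv hs, β', ?_⟩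
      rw [mul_smul, hβ, smul_comm, hβ', smul_smul, pow_succ]
  obtain ⟨s, hs, β, hβ⟩ := key n le_rfl
  refine ⟨w * s, Ideal.IsPrime.mul_notMem ‹_› hw hs, u • β, ?_⟩
  rw [mul_smul, hβ, smul_smul, smul_smul, mul_comm t u, he, mul_comm w]

omit [IsDomain B] [Module.Flat B E] in
theorem one_tmul_eq_zero_of_isUnit {R : Type u} [CommRing R] [Algebra B R] {s t : B} {b e : E}
    (hu : IsUnit (algebraMap B R s)) (ht0 : algebraMap B R t = 0) (he : s • b = t • e) :
    (1 : R) ⊗ₜ[B] b = 0 := by
  obtain ⟨r, hr⟩ := hu.exists_left_inv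
  have h2 : algebraMap B R s ⊗ₜ[B] b = 0 := by
    rw [Algebra.algebraMap_eq_smul_one, smul_tmul, he, ← smul_tmul, ← Algebra.algebraMap_eq_smul_one, ht0, zero_tmul]
  rw [show (1 : R) ⊗ₜ[B] b = (r ⊗ₜ[B] (1 : E)) * (algebraMap B R s ⊗ₜ[B] b) by
    rw [Algebra.TensorProduct.tmul_mul_tmul, hr, one_mul], h2, mul_zero]

/-- A solution of `b * b = t * b` in a flat algebra with reduced fibres over a Krull domain. -/
theorem mem_span_of_family {ι : Type v} (F : Krull.Family B ι)
    (hred : ∀ (K : Type u) [Field K] [Algebra B K], _root_.IsReduced (K ⊗[B] E))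
    {t : B} (ht : t ≠ 0) {b : E} (h : b * b = t • b) :
    b ∈ (Ideal.span {t}).map (algebraMap B E) := by
  classical
  let S : Set (Ideal B) := {P | P.IsPrime ∧ (∃ c, Krull.IsUniformizer P c) ∧ t ∈ P}
  let S' : Set (Ideal B) := {P | P ∈ S ∧ ∃ i, F.val i t ≠ 0 ∧ ∀ r, r ∈ P ↔ F.val i r ≠ 0}
  haveI : Finite S' := by
    refine Set.Finite.to_subtype (((F.finite t ht).biUnion
      (t := fun i => {P : Ideal B | ∀ r, r ∈ P ↔ F.val i r ≠ 0}) fun i _ => ?_).subset ?_)
    · exact Set.Subsingleton.finite fun P hP Q hQ => Ideal.ext fun r => (hP r).trans (hQ r).symm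
    · rintro P ⟨-, i, hi, hP⟩
      exact Set.mem_biUnion hi hP
  haveI : ∀ P : S', P.1.IsPrime := fun P => P.2.1.1
  refine mem_map_of_forall (P := B) (fun P : S' => Localization.AtPrime P.1 ⧸
    Ideal.span {algebraMap B (Localization.AtPrime P.1) t}) (Ideal.span {t}) (fun p hp => ?_) b fun P => ?_
  · rw [Ideal.mem_span_singleton]
    by_contra hndvd
    obtain ⟨P, c, hP, hc, hs, i, hi, hPi⟩ := F.exists_prime_of_not_dvd ht hndvd
    have hP' : P ∈ S' := ⟨⟨hP, ⟨c, hc⟩, (hPi t).2 hi⟩, i, hi, hPi⟩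
    have h1 : Ideal.Quotient.mk (Ideal.span {algebraMap B (Localization.AtPrime P) t})
        (algebraMap B (Localization.AtPrime P) p) = 0 := hp ⟨P, hP'⟩
    rw [Ideal.Quotient.eq_zero_iff_mem, Ideal.mem_span_singleton] at h1
    obtain ⟨q, hq⟩ := h1
    obtain ⟨⟨r, s⟩, hrs⟩ := IsLocalization.surj P.primeCompl q
    have h2 : algebraMap B (Localization.AtPrime P) (p * s) = algebraMap B (Localization.AtPrime P) (t * r) := by
      rw [map_mul, map_mul, hq, ← hrs, mul_assoc]
    obtain ⟨v, hv⟩ := (IsLocalization.eq_iff_exists P.primeCompl _).1 h2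
    exact hs (v * s) (Ideal.IsPrime.mul_notMem hP v.2 s.2) ⟨v * r, by linear_combination hv⟩
  · obtain ⟨⟨c, hc⟩, -⟩ := P.2.1.2
    obtain ⟨s, hs, e, he⟩ := exists_notMem_smul_mem hc (hred _) ht h
    let R := Localization.AtPrime P.1 ⧸ Ideal.span {algebraMap B (Localization.AtPrime P.1) t}
    have hu : IsUnit (algebraMap B R s) := by
      rw [IsScalarTower.algebraMap_apply B (Localization.AtPrime P.1) R]
      exact (IsLocalization.map_units (Localization.AtPrime P.1) (⟨s, hs⟩ : P.1.primeCompl)).map _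
    have ht0 : algebraMap B R t = 0 := by
      rw [IsScalarTower.algebraMap_apply B (Localization.AtPrime P.1) R, Ideal.Quotient.algebraMap_eq,
        Ideal.Quotient.eq_zero_iff_mem]
      exact Ideal.mem_span_singleton_self _
    exact one_tmul_eq_zero_of_isUnit hu ht0 he

end GrothLib.LocAcyc
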