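import Groth.Agent.Lib.LocAcyc.UnitConn
import Groth.Prelude.Def_EtAcyc
import Mathlib.RingTheory.Localization.BaseChange
import Mathlib.RingTheory.Spectrum.Prime.Topology
import Mathlib.AlgebraicGeometry.Morphisms.Etale

/-!
# Generic fibres of zero-acyclic morphisms over integral bases
-/

universe u

open CategoryTheory CategoryTheory.Limits AlgebraicGeometry Opposite
open scoped TensorProduct

set_option backward.isDefEq.respectTransparency.types false

namespace GrothLib.LocAcyc

theorem eq_zero_or_one_of_connectedSpace {R : Type u} [CommRing R] [ConnectedSpace (PrimeSpectrum R)] (e : R)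
    (he : e * e = e) : e = 0 ∨ e = 1 := by
  have hc : IsClopen (PrimeSpectrum.basicOpen e : Set (PrimeSpectrum R)) :=
    PrimeSpectrum.isClopen_iff_mul_add.2 ⟨e, 1 - e, by rw [mul_sub, mul_one, he, sub_self], by ring, rfl⟩
  have hi : IsIdempotentElem e := he
  rcases isClopen_iff.1 hc with h | h
  · exact Or.inl (PrimeSpectrum.basicOpen_injOn_isIdempotentElem hi IsIdempotentElem.zero
      (SetLike.ext' (h.trans (by simp))))
  · exact Or.inr (PrimeSpectrum.basicOpen_injOn_isIdempotentElem hi IsIdempotentElem.one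
      (SetLike.ext' (h.trans (by simp))))

theorem connectedSpace_of_idempotents {R : Type u} [CommRing R] [Nontrivial R]
    (h : ∀ e : R, e * e = e → e = 0 ∨ e = 1) : ConnectedSpace (PrimeSpectrum R) := by
  haveI : PreconnectedSpace (PrimeSpectrum R) := by
    rw [preconnectedSpace_iff_clopen]
    intro s hs
    obtain ⟨e, f, hef, hsum, rfl⟩ := PrimeSpectrum.isClopen_iff_mul_add.1 hs
    rcases h e (IsIdempotentElem.of_mul_add hef hsum).1 with rfl | rfl
    · exact Or.inl (by simp)
    · exact Or.inr (by simp)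
  exact { toPreconnectedSpace := ‹_›, toNonempty := inferInstance }

/-- The generic fibre of a zero-acyclic morphism over the spectrum of a domain is connected. -/
theorem connectedSpace_genericFibre (A B : Type u) [CommRing A] [IsDomain A] [CommRing B] [Algebra A B]
    (hz : EtAcyc.IsZeroAcyclic (Spec.map (CommRingCat.ofHom (algebraMap A B))))
    (F : Type u) [CommRing F] [Algebra A F] [IsFractionRing A F] :
    ConnectedSpace (PrimeSpectrum (F ⊗[A] B)) := by
  have hloc : ∀ c : A, c ≠ 0 → ConnectedSpace (PrimeSpectrum (Localization.Away c ⊗[A] B)) := fun c hc => by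
    haveI : IsDomain (Localization.Away c) :=
      IsLocalization.isDomain_localization (powers_le_nonZeroDivisors_of_noZeroDivisors hc)
    haveI : IsOpenImmersion (Spec.map (CommRingCat.ofHom (algebraMap A (Localization.Away c)))) :=
      IsOpenImmersion.of_isLocalization c
    let V : (Spec (CommRingCat.of A)).Etale :=
      Scheme.Etale.mk (Spec.map (CommRingCat.ofHom (algebraMap A (Localization.Away c))))
    haveI : ConnectedSpace ↥V.left := by
      haveI : IrreducibleSpace (PrimeSpectrum (Localization.Away c)) := inferInstance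
      exact (inferInstance : ConnectedSpace (PrimeSpectrum (Localization.Away c)))
    haveI : ConnectedSpace ↥(pullback (Spec.map (CommRingCat.ofHom (algebraMap A (Localization.Away c))))
        (Spec.map (CommRingCat.ofHom (algebraMap A B)))) :=
      connectedSpace_of_isIso_unit (EtAcyc.prj (Spec.map (CommRingCat.ofHom (algebraMap A B))) V)
        (fun G => hz V G)
    exact (pullbackSpecIso A (Localization.Away c) B).hom.homeomorph.surjective.connectedSpace
      (pullbackSpecIso A (Localization.Away c) B).hom.continuous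
  let L : B →ₗ[A] F ⊗[A] B := TensorProduct.mk A F B 1
  haveI : IsLocalizedModule (nonZeroDivisors A) L :=
    IsLocalization.tensorProduct_isLocalizedModule (nonZeroDivisors A) F
  let j : ∀ {c : A}, c ≠ 0 → (Localization.Away c ⊗[A] B →ₐ[A] F ⊗[A] B) := fun {c} hc =>
    Algebra.TensorProduct.map (IsLocalization.Away.liftAlgHom c (f := Algebra.ofId A F)
      (IsLocalization.map_units F (⟨c, mem_nonZeroDivisors_of_ne_zero hc⟩ : nonZeroDivisors A))) (AlgHom.id A B)
  have hj : ∀ {c : A} (hc : c ≠ 0) (w : B), j hc (1 ⊗ₜ w) = 1 ⊗ₜ w := fun hc w => by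
    simp only [j, Algebra.TensorProduct.map_tmul, map_one, AlgHom.id_apply]
  have hunit : ∀ (c a : A), a ∣ c → ∀ y : Localization.Away c ⊗[A] B, a • y = 0 → y = 0 := fun c a ha y hy => by
    obtain ⟨d, hd⟩ := ha
    have hu : IsUnit (algebraMap A (Localization.Away c ⊗[A] B) c) := by
      rw [Algebra.TensorProduct.algebraMap_apply]
      exact (IsLocalization.Away.algebraMap_isUnit (S := Localization.Away c) c).map
        (Algebra.TensorProduct.includeLeftRingHom : Localization.Away c →+* Localization.Away c ⊗[A] B)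
    refine hu.mul_right_eq_zero.1 ?_
    rw [← Algebra.smul_def]
    exact (congrArg (fun r : A => r • y) hd).trans (by rw [mul_comm, mul_smul, hy, smul_zero])
  haveI : Nontrivial (F ⊗[A] B) := by
    refine nontrivial_of_ne 1 0 fun h => ?_
    obtain ⟨⟨t, ht⟩, ht'⟩ := (IsLocalizedModule.eq_zero_iff (nonZeroDivisors A) L).1
      (show L 1 = 0 from h)
    have ht0 : t ≠ 0 := nonZeroDivisors.ne_zero ht
    haveI := hloc t ht0
    haveI : Nontrivial (Localization.Away t ⊗[A] B) := PrimeSpectrum.nonempty_iff_nontrivial.1 inferInstance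
    refine one_ne_zero (hunit t t dvd_rfl 1 ?_)
    show t • ((1 : Localization.Away t) ⊗ₜ[A] (1 : B)) = 0
    rw [← TensorProduct.tmul_smul]
    exact (congrArg ((1 : Localization.Away t) ⊗ₜ[A] ·) ht').trans (TensorProduct.tmul_zero _ _)
  refine connectedSpace_of_idempotents fun e he => ?_
  obtain ⟨⟨w, m, hm⟩, hw⟩ := IsLocalizedModule.surj (nonZeroDivisors A) L e
  have hw' : m • e = (1 : F) ⊗ₜ[A] w := hw
  have hz' : L (w * w - m • w) = 0 := by
    show (1 : F) ⊗ₜ[A] (w * w - m • w) = 0
    rw [TensorProduct.tmul_sub, TensorProduct.tmul_smul, ← hw', sub_eq_zero,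
      show (1 : F) ⊗ₜ[A] (w * w) = ((1 : F) ⊗ₜ[A] w) * ((1 : F) ⊗ₜ[A] w) by
        rw [Algebra.TensorProduct.tmul_mul_tmul, one_mul],
      ← hw', smul_mul_smul_comm, he, mul_smul]
  obtain ⟨⟨t, ht⟩, ht'⟩ := (IsLocalizedModule.eq_zero_iff (nonZeroDivisors A) L).1 hz'
  have ht'' : t • (w * w - m • w) = 0 := ht'
  have hm0 : m ≠ 0 := nonZeroDivisors.ne_zero hm
  have hc : m * t ≠ 0 := mul_ne_zero hm0 (nonZeroDivisors.ne_zero ht)
  haveI := hloc (m * t) hc
  let A' := Localization.Away (m * t)
  obtain ⟨i, hi⟩ : ∃ i : A', i * algebraMap A A' m = 1 :=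
    ((isUnit_of_mul_isUnit_left ((map_mul (algebraMap A A') m t) ▸
      IsLocalization.Away.algebraMap_isUnit (S := A') (m * t))).exists_left_inv)
  let x : A' ⊗[A] B := i ⊗ₜ w
  have hx : m • x = (1 : A') ⊗ₜ[A] w := by
    rw [TensorProduct.smul_tmul', Algebra.smul_def]
    exact congrArg (fun z : A' => z ⊗ₜ[A] w) ((mul_comm _ i).trans hi)
  have hidem : x * x = x := by
    refine sub_eq_zero.1 (hunit (m * t) t ⟨m, mul_comm m t⟩ _ (hunit (m * t) m ⟨t, rfl⟩ _ (hunit (m * t) m ⟨t, rfl⟩ _ ?_)))
    have h1 : m • m • (x * x - x) = (1 : A') ⊗ₜ[A] (w * w - m • w) := by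
      rw [smul_sub, smul_sub, TensorProduct.tmul_sub, TensorProduct.tmul_smul, ← hx, ← mul_smul m m (x * x),
        ← smul_mul_smul_comm, hx, Algebra.TensorProduct.tmul_mul_tmul, one_mul]
    rw [smul_comm m t, smul_comm m t, h1, ← TensorProduct.tmul_smul, ht'', TensorProduct.tmul_zero]
  have hjx : j hc (m • x) = m • e := by rw [hx, hj hc w, ← hw']
  have hmF : ∀ z : F ⊗[A] B, m • z = 0 → z = 0 := fun z hz₀ => by
    refine ((IsLocalizedModule.map_units L ⟨m, hm⟩) |> fun hu => (Module.End.isUnit_iff _).1 hu).1 ?_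
    rw [map_zero]
    exact hz₀
  rcases eq_zero_or_one_of_connectedSpace x hidem with hx0 | hx1
  · refine Or.inl (hmF _ ?_)
    rw [← hjx, hx0, smul_zero, map_zero]
  · refine Or.inr (sub_eq_zero.1 (hmF _ ?_))
    rw [smul_sub, ← hjx, hx1, map_smul, map_one, sub_self]

end GrothLib.LocAcyc
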