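import Groth.Agent.Lib.SmoothConn.Main
import Groth.Agent.Lib.Hensel.Properties
import Groth.Agent.Lib.Hensel.Henselization
import Mathlib.FieldTheory.PurelyInseparable.Basic

/-!
# Strict henselizations after an integral base change
-/

universe u

namespace GrothLib.LocAcyc

open IsLocalRing
open scoped TensorProduct

/-- A local ring integral over a henselian local ring is henselian. -/
theorem henselianLocalRing_of_isIntegral (R B : Type u) [CommRing R] [HenselianLocalRing R] [CommRing B]
    [IsLocalRing B] [Algebra R B] [Algebra.IsIntegral R B] : HenselianLocalRing B := by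
  haveI : HenselianRing R (maximalIdeal R) := inferInstance
  have h := Hensel.henselianRing_of_isIntegral (maximalIdeal R) B
  refine Hensel.henselianLocalRing_of_henselianRing ((Hensel.henselianRing_iff_of_radical_eq ?_).1 h)
  have hmap : (maximalIdeal R).map (algebraMap R B) ≤ maximalIdeal B := by
    rw [Ideal.map_le_iff_le_comap]
    exact (eq_maximalIdeal (Ideal.isMaximal_comap_of_isIntegral_of_isMaximal (R := R) (maximalIdeal B))).ge
  rw [Ideal.IsPrime.radical (inferInstance : (maximalIdeal B).IsPrime)]
  refine le_antisymm ((Ideal.radical_mono hmap).trans (Ideal.IsPrime.radical inferInstance).le) ?_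
  rw [Ideal.radical_eq_sInf]
  refine le_sInf fun q ⟨hq, hqp⟩ => ?_
  haveI := hqp
  have hq' : maximalIdeal R ≤ q.comap (algebraMap R B) := Ideal.map_le_iff_le_comap.1 hq
  have hc : (q.comap (algebraMap R B)).IsMaximal := by
    rw [← (maximalIdeal.isMaximal R).eq_of_le (Ideal.comap_ne_top _ hqp.ne_top) hq']
    infer_instance
  exact (eq_maximalIdeal (Ideal.isMaximal_of_isIntegral_of_isMaximal_comap (R := R) q hc)).ge

/-- A henselian local ring with separably closed residue field is its own strict henselization. -/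
theorem isStrictHenselization_of_bijective (R S : Type u) [CommRing R] [IsLocalRing R] [CommRing S]
    [HenselianLocalRing S] [Algebra R S] [IsLocalHom (algebraMap R S)]
    (hb : Function.Bijective (algebraMap R S)) [IsSepClosed (ResidueField S)] :
    _root_.Hensel.IsStrictHenselization R S := by
  have hsurj : Function.Surjective (algebraMap (ResidueField R) (ResidueField S)) := fun y => by
    obtain ⟨s, rfl⟩ := residue_surjective y
    obtain ⟨r, rfl⟩ := hb.2 s
    exact ⟨residue R r, rfl⟩
  haveI : Algebra.IsSeparable (ResidueField R) (ResidueField S) := ⟨fun y => by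
    obtain ⟨x, rfl⟩ := hsurj y
    exact isSeparable_algebraMap x⟩
  refine ⟨inferInstance, ⟨inferInstance, inferInstance⟩, fun T _ _ f _ τ hτ => ?_⟩
  let e := RingEquiv.ofBijective (algebraMap R S) hb
  refine ⟨f.comp e.symm.toRingHom, ⟨RingHom.ext fun r => congrArg f (e.symm_apply_apply r), fun x => ?_⟩,
    fun g ⟨hg, _⟩ => RingHom.ext fun x => ?_⟩
  · obtain ⟨r, rfl⟩ := hb.2 x
    show residue T (f (e.symm (e r))) = _
    rw [e.symm_apply_apply]
    exact (RingHom.congr_fun hτ (residue R r)).symm
  · obtain ⟨r, rfl⟩ := hb.2 x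
    show g (e r) = f (e.symm (e r))
    rw [e.symm_apply_apply]
    exact RingHom.congr_fun hg r

section Tensor

variable {Oy Ox O₁ RY RX A : Type u} [CommRing Oy] [IsLocalRing Oy] [CommRing Ox] [IsLocalRing Ox]
  [CommRing O₁] [IsLocalRing O₁] [CommRing RY] [IsLocalRing RY] [CommRing RX] [IsLocalRing RX]
  [Algebra Oy RY] [IsLocalHom (algebraMap Oy RY)] [hRY : _root_.Hensel.IsStrictHenselization Oy RY]
  [Algebra Ox RX] [IsLocalHom (algebraMap Ox RX)] [hRX : _root_.Hensel.IsStrictHenselization Ox RX]
  [Algebra RY RX] [IsLocalHom (algebraMap RY RX)]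
  [CommRing A] [IsLocalRing A] [Algebra RY A] [IsLocalHom (algebraMap RY A)] [Algebra.IsIntegral RY A]
  [IsLocalRing (RX ⊗[RY] A)] [Algebra O₁ (RX ⊗[RY] A)] [IsLocalHom (algebraMap O₁ (RX ⊗[RY] A))]

theorem isLocalHom_includeLeft [IsLocalRing (RX ⊗[RY] A)] :
    IsLocalHom (Algebra.TensorProduct.includeLeftRingHom : RX →+* RX ⊗[RY] A) :=
  ((local_hom_TFAE (algebraMap RX (RX ⊗[RY] A))).out 0 4).2
    (eq_maximalIdeal (Ideal.isMaximal_comap_of_isIntegral_of_isMaximal (R := RX) (maximalIdeal (RX ⊗[RY] A))))

/-- The tensor product is a strict henselization of a local ring through which both factors map and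
which detects morphisms. -/
theorem isStrictHenselization_tensor (φ : Oy →+* Ox) [IsLocalHom φ]
    (hφ : (algebraMap RY RX).comp (algebraMap Oy RY) = (algebraMap Ox RX).comp φ)
    (jx : Ox →+* O₁) [IsLocalHom jx] (jA : A →+* O₁) [IsLocalHom jA]
    (hsq : jx.comp φ = jA.comp ((algebraMap RY A).comp (algebraMap Oy RY)))
    (hjx : (algebraMap O₁ (RX ⊗[RY] A)).comp jx = Algebra.TensorProduct.includeLeftRingHom.comp (algebraMap Ox RX))
    (hjA : (algebraMap O₁ (RX ⊗[RY] A)).comp jA =
      (Algebra.TensorProduct.includeRight (R := RY) (A := RX) (B := A)).toRingHom)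
    (hext : ∀ (T : Type u) [CommRing T] [HenselianLocalRing T] (f f' : O₁ →+* T), IsLocalHom f → IsLocalHom f' →
      f.comp jx = f'.comp jx → f.comp jA = f'.comp jA → f = f') :
    _root_.Hensel.IsStrictHenselization O₁ (RX ⊗[RY] A) := by
  let B := RX ⊗[RY] A
  let ρ : O₁ →+* B := algebraMap O₁ B
  let ι : RX →+* B := Algebra.TensorProduct.includeLeftRingHom
  let κ : A →+* B := (Algebra.TensorProduct.includeRight (R := RY) (A := RX) (B := A)).toRingHom
  have hικ : ∀ r, ι (algebraMap RY RX r) = κ (algebraMap RY A r) := fun r =>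
    ((Algebra.TensorProduct.includeRight (R := RY) (A := RX) (B := A)).commutes r).symm
  haveI hι : IsLocalHom ι := isLocalHom_includeLeft
  haveI := hRX.henselian
  haveI := hRX.isSepClosure
  haveI : HenselianLocalRing B := henselianLocalRing_of_isIntegral RX B
  haveI : IsSepClosed (ResidueField RX) := IsSepClosure.sep_closed (ResidueField Ox)
  haveI : Algebra.IsSeparable (ResidueField Ox) (ResidueField RX) := IsSepClosure.separable
  letI : Algebra (ResidueField RX) (ResidueField B) := (ResidueField.map ι).toAlgebra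
  haveI : Algebra.IsAlgebraic (ResidueField RX) (ResidueField B) := ⟨fun y => by
    obtain ⟨b, rfl⟩ := residue_surjective y
    obtain ⟨p, hp, hp0⟩ := Algebra.IsIntegral.isIntegral (R := RX) b
    refine (IsIntegral.isAlgebraic ⟨p.map (residue RX), hp.map _, ?_⟩)
    rw [Polynomial.eval₂_map]
    have := congrArg (residue B) hp0
    rw [map_zero, Polynomial.hom_eval₂] at this
    exact this⟩
  haveI : IsSepClosed (ResidueField B) := Algebra.IsAlgebraic.isSepClosed (F := ResidueField RX)
  refine ⟨inferInstance, ⟨inferInstance, ?_⟩, fun T _ _ f _ τ hτ => ?_⟩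
  · refine ⟨fun y => ?_⟩
    obtain ⟨b, rfl⟩ := residue_surjective y
    have hA : ∀ a, IsSeparable (ResidueField O₁) (residue B (κ a)) := fun a => by
      have : residue B (κ a) = algebraMap (ResidueField O₁) (ResidueField B) (residue O₁ (jA a)) := by
        show _ = residue B (ρ (jA a))
        rw [← RingHom.comp_apply ρ jA, hjA]
      rw [this]
      exact isSeparable_algebraMap _
    have hX : ∀ h, IsSeparable (ResidueField O₁) (residue B (ι h)) := fun h => by
      have hs : IsSeparable (ResidueField Ox) (residue RX h) := Algebra.IsSeparable.isSeparable _ _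
      let p := minpoly (ResidueField Ox) (residue RX h)
      have hp : p.Separable := hs
      have e : (algebraMap (ResidueField O₁) (ResidueField B)).comp (ResidueField.map jx) =
          (ResidueField.map ι).comp (algebraMap (ResidueField Ox) (ResidueField RX)) := RingHom.ext fun x => by
        obtain ⟨x, rfl⟩ := residue_surjective x
        show residue B (ρ (jx x)) = residue B (ι (algebraMap Ox RX x))
        rw [← RingHom.comp_apply ρ jx, hjx]
        rfl
      have h0 : Polynomial.aeval (residue B (ι h)) (p.map (ResidueField.map jx)) = 0 := by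
        rw [Polynomial.aeval_def, Polynomial.eval₂_map, e, ← ResidueField.map_residue ι h, ← Polynomial.hom_eval₂]
        exact (congrArg (ResidueField.map ι) (minpoly.aeval _ (residue RX h))).trans (map_zero _)
      exact Polynomial.Separable.of_dvd hp.map (minpoly.dvd _ _ h0)
    induction b with
    | zero => rw [map_zero, ← map_zero (algebraMap (ResidueField O₁) (ResidueField B))]; exact isSeparable_algebraMap _
    | tmul h a =>
      have : h ⊗ₜ[RY] a = ι h * κ a := by
        show _ = h ⊗ₜ[RY] (1 : A) * (1 : RX) ⊗ₜ[RY] a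
        rw [Algebra.TensorProduct.tmul_mul_tmul, mul_one, one_mul]
      rw [this, map_mul]
      exact Field.isSeparable_mul (hX h) (hA a)
    | add x y hx hy =>
      rw [map_add]
      exact Field.isSeparable_add hx hy
  -- the universal property
  have hτ' : ∀ z, τ (residue B (ρ z)) = residue T (f z) := fun z => RingHom.congr_fun hτ (residue O₁ z)
  haveI : IsLocalHom (f.comp jx) := inferInstance
  obtain ⟨gX, ⟨hgX, hgXr⟩, hgXu⟩ := hRX.universal T (f.comp jx) (τ.comp (ResidueField.map ι)) (RingHom.ext fun z => by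
    obtain ⟨z, rfl⟩ := residue_surjective z
    show τ (residue B (ι (algebraMap Ox RX z))) = residue T (f (jx z))
    rw [← hτ', ← RingHom.comp_apply ρ jx, hjx]
    rfl)
  let gA : A →+* T := f.comp jA
  have hgAr : ∀ a, residue T (gA a) = τ (residue B (κ a)) := fun a => by
    show residue T (f (jA a)) = _
    rw [← hτ', ← RingHom.comp_apply ρ jA, hjA]
  have hagree : gX.comp (algebraMap RY RX) = gA.comp (algebraMap RY A) := by
    haveI : IsLocalHom (gA.comp ((algebraMap RY A).comp (algebraMap Oy RY))) := inferInstance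
    haveI : IsLocalHom (algebraMap RY A) := ‹_›
    obtain ⟨g₀, -, hu⟩ := hRY.universal T (gA.comp ((algebraMap RY A).comp (algebraMap Oy RY)))
      ((τ.comp (ResidueField.map ι)).comp (algebraMap (ResidueField RY) (ResidueField RX))) (RingHom.ext fun z => by
        obtain ⟨z, rfl⟩ := residue_surjective z
        show τ (residue B (ι (algebraMap RY RX (algebraMap Oy RY z)))) = residue T (gA (algebraMap RY A (algebraMap Oy RY z)))
        rw [hgAr, hικ])
    refine (hu _ ⟨?_, fun r => ?_⟩).trans (hu _ ⟨rfl, fun r => ?_⟩).symm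
    · rw [RingHom.comp_assoc, hφ, ← RingHom.comp_assoc, hgX, RingHom.comp_assoc, hsq]
      rfl
    · exact hgXr _
    · show residue T (gA (algebraMap RY A r)) = τ (residue B (ι (algebraMap RY RX r)))
      rw [hgAr, hικ]
  letI : Algebra RY T := (gA.comp (algebraMap RY A)).toAlgebra
  let gX' : RX →ₐ[RY] T := { gX with commutes' := RingHom.congr_fun hagree }
  let gA' : A →ₐ[RY] T := { gA with commutes' := fun _ => rfl }
  let G : B →+* T := (Algebra.TensorProduct.productMap gX' gA').toRingHom
  have hGι : ∀ h, G (ι h) = gX h := fun h => by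
    show gX' h * gA' 1 = _
    rw [map_one, mul_one]; rfl
  have hGκ : ∀ a, G (κ a) = gA a := fun a => by
    show gX' 1 * gA' a = _
    rw [map_one, one_mul]; rfl
  have hGr : ∀ b : RX ⊗[RY] A, residue T (G b) = τ (residue B b) := fun b => by
    induction b with
    | zero => simp
    | tmul h a =>
      have : h ⊗ₜ[RY] a = ι h * κ a := by
        show _ = h ⊗ₜ[RY] (1 : A) * (1 : RX) ⊗ₜ[RY] a
        rw [Algebra.TensorProduct.tmul_mul_tmul, mul_one, one_mul]
      rw [this, map_mul, map_mul, map_mul, map_mul, hGι, hGκ, hgXr, hgAr]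
      rfl
    | add x y hx hy => simp only [map_add, hx, hy]
  haveI hG : IsLocalHom G := ⟨fun b hb => by
    by_contra hu
    exact (residue_ne_zero_iff_isUnit _).2 hb
      ((hGr b).trans ((congrArg τ ((residue_eq_zero_iff _).2 hu)).trans (map_zero τ)))⟩
  refine ⟨G, ⟨hext T _ _ inferInstance inferInstance ?_ ?_, hGr⟩, ?_⟩
  · rw [RingHom.comp_assoc, hjx, ← hgX]
    exact RingHom.ext fun z => hGι _
  · rw [RingHom.comp_assoc, hjA]
    exact RingHom.ext fun a => hGκ a
  rintro g' ⟨hg', hg'r⟩
  have h1 : g'.comp ι = gX := hgXu _ ⟨by rw [RingHom.comp_assoc, ← hjx, ← RingHom.comp_assoc, hg'],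
    fun z => hg'r (ι z)⟩
  have h2 : g'.comp κ = gA := by
    show g'.comp κ = f.comp jA
    rw [← hg', RingHom.comp_assoc, hjA]
  refine RingHom.ext fun (b : RX ⊗[RY] A) => ?_
  induction b with
  | zero => simp
  | tmul h a =>
    have : h ⊗ₜ[RY] a = ι h * κ a := by
      show _ = h ⊗ₜ[RY] (1 : A) * (1 : RX) ⊗ₜ[RY] a
      rw [Algebra.TensorProduct.tmul_mul_tmul, mul_one, one_mul]
    rw [this, map_mul, map_mul, hGι, hGκ, ← RingHom.congr_fun h1 h, ← RingHom.congr_fun h2 a]
    rfl
  | add x y hx hy => simp only [map_add, hx, hy]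

end Tensor

end GrothLib.LocAcyc
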