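import Groth.Agent.Lib.LocAcyc.Fibre
import Groth.Agent.Lib.EtSec.LocConn

/-!
# Universally locally zero-acyclic morphisms are locally connected
-/

universe u

open CategoryTheory CategoryTheory.Limits AlgebraicGeometry Opposite
open GrothLib.EtSec

set_option backward.isDefEq.respectTransparency.types false

noncomputable section

namespace GrothLib.LocAcyc

variable {X S : Scheme.{u}}

/-- Compatible strict localizations at a point and its image. -/
theorem exists_strictLocalizations (f : X ⟶ S) (x : X) :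
    ∃ (Ω : Type u) (_ : Field Ω) (_ : IsSepClosed Ω) (ξ : Spec (CommRingCat.of Ω) ⟶ X) (_ : ξ.base default = x)
      (NX : ProNbhd ξ) (_ : WeaklyEtale NX.bc) (NS : ProNbhd (ξ ≫ f)) (_ : WeaklyEtale NS.bc)
      (HS : Type u) (_ : CommRing HS) (_ : IsLocalRing HS)
      (_ : Algebra (S.presheaf.stalk (f.base x)) HS) (_ : IsLocalHom (algebraMap (S.presheaf.stalk (f.base x)) HS))
      (_ : _root_.Hensel.IsStrictHenselization (S.presheaf.stalk (f.base x)) HS)
      (HX : Type u) (_ : CommRing HX) (_ : IsLocalRing HX)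
      (_ : Algebra (X.presheaf.stalk x) HX) (_ : IsLocalHom (algebraMap (X.presheaf.stalk x) HX))
      (_ : _root_.Hensel.IsStrictHenselization (X.presheaf.stalk x) HX)
      (eX : Spec (CommRingCat.of HX) ≅ NX.c.pt) (eS : Spec (CommRingCat.of HS) ≅ NS.c.pt)
      (a : NX.c.pt ⟶ NS.c.pt) (ψ : HS →+* HX),
      eX.hom ≫ NX.bc = Spec.map (CommRingCat.ofHom (algebraMap (X.presheaf.stalk x) HX)) ≫ X.fromSpecStalk x ∧
      eS.hom ≫ NS.bc =
        Spec.map (CommRingCat.ofHom (algebraMap (S.presheaf.stalk (f.base x)) HS)) ≫ S.fromSpecStalk (f.base x) ∧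
      a ≫ NS.bc = NX.bc ≫ f ∧ NX.pt ≫ a = NS.pt ∧ Spec.map (CommRingCat.ofHom ψ) = eX.hom ≫ a ≫ eS.inv ∧
      IsLocalHom ψ ∧ ψ.comp (algebraMap (S.presheaf.stalk (f.base x)) HS) =
        (algebraMap (X.presheaf.stalk x) HX).comp (f.stalkMap x).hom := by
  let Ω := AlgebraicClosure (X.residueField x)
  let i₀ : X.residueField x →+* Ω := algebraMap (X.residueField x) Ω
  letI : Algebra (S.residueField (f.base x)) Ω := (i₀.comp (f.residueFieldMap x).hom).toAlgebra
  have hη : ptOf X x Ω ≫ f = ptOf S (f.base x) Ω := by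
    show (Spec.map _ ≫ _) ≫ f = Spec.map _ ≫ _
    rw [Category.assoc, ← Scheme.Hom.SpecMap_residueFieldMap_fromSpecResidueField, ← Category.assoc, ← Spec.map_comp]
    rfl
  obtain ⟨NX, hwX, HX, _, _, _, _, hHX, eX, heX, hpX⟩ := exists_proNbhd x Ω (ptOf X x Ω) rfl
  obtain ⟨NS, hwS, HS, _, _, _, _, hHS, eS, heS, hpS⟩ := exists_proNbhd (f.base x) Ω (ptOf X x Ω ≫ f) hη
  obtain ⟨a, ha, hap⟩ := NX.exists_hom f rfl NS
  let ψ : CommRingCat.of HS ⟶ CommRingCat.of HX := Spec.preimage (eX.hom ≫ a ≫ eS.inv)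
  have hψ : Spec.map ψ = eX.hom ≫ a ≫ eS.inv := Spec.map_preimage _
  have haψ : a = eX.inv ≫ Spec.map ψ ≫ eS.hom := by
    rw [hψ]; simp
  haveI : IsLocalHom ψ.hom := by
    rw [IsLocalRing.isLocalHom_iff_comap_closedPoint]
    have h1 : (NX.pt ≫ eX.inv) ≫ Spec.map ψ = NS.pt ≫ eS.inv := by
      rw [hψ, Category.assoc, Iso.inv_hom_id_assoc, ← Category.assoc, hap]
    have h2 := congrArg (fun k : Spec (CommRingCat.of Ω) ⟶ Spec (CommRingCat.of HS) => k.base default) h1
    rw [← hpX, ← hpS]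
    exact h2
  have hcompat : ψ.hom.comp (algebraMap (S.presheaf.stalk (f.base x)) HS) =
      (algebraMap (X.presheaf.stalk x) HX).comp (f.stalkMap x).hom := by
    have h1 : Spec.map (CommRingCat.ofHom (algebraMap (S.presheaf.stalk (f.base x)) HS) ≫ ψ) =
        Spec.map (f.stalkMap x ≫ CommRingCat.ofHom (algebraMap (X.presheaf.stalk x) HX)) := by
      rw [← cancel_mono (S.fromSpecStalk (f.base x)), Spec.map_comp, Spec.map_comp, Category.assoc, Category.assoc,
        ← heS, Scheme.SpecMap_stalkMap_fromSpecStalk, ← Category.assoc, hψ]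
      simp only [Category.assoc, Iso.inv_hom_id_assoc, ha]
      exact ((Category.assoc _ _ _).symm.trans (congrArg (· ≫ f) heX)).trans (Category.assoc _ _ _)
    exact congrArg CommRingCat.Hom.hom (Spec.map_injective h1)
  exact ⟨Ω, inferInstance, inferInstance, ptOf X x Ω, ptOf_default x Ω, NX, hwX, NS, hwS, HS, inferInstance,
    inferInstance, inferInstance, inferInstance, hHS, HX, inferInstance, inferInstance, inferInstance, inferInstance,
    hHX, eX, eS, a, ψ.hom, heX, heS, ha, hap, hψ, inferInstance, hcompat⟩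

theorem isULocZeroAcyclic_of_isPullback {g : X ⟶ S} (hg : EtAcyc.IsULocZeroAcyclic g) {X₁ Y₁ : Scheme.{u}}
    {g₁ : X₁ ⟶ Y₁} {b' : X₁ ⟶ X} {b : Y₁ ⟶ S} (h : IsPullback b' g₁ g b) : EtAcyc.IsULocZeroAcyclic g₁ :=
  fun _ _ g₂ c' c h₂ => hg g₂ (c' ≫ b') (c ≫ b) (h₂.paste_horiz h)

theorem generalizingMap_of_uLocZeroAcyclic {g : X ⟶ S} (hg : EtAcyc.IsULocZeroAcyclic g) :
    GeneralizingMap g.base := by
  intro x y' hy
  obtain ⟨Ω, _, _, ξ, hx, NX, _, NS, _, HS, _, _, _, _, hHS, HX, _, _, _, _, hHX, eX, eS, a, ψ, heX, heS, ha, hap,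
    hψ, hψl, hcompat⟩ := exists_strictLocalizations g x
  obtain ⟨z, rfl⟩ : y' ∈ Set.range (S.fromSpecStalk (g.base x)) := by
    rw [Scheme.range_fromSpecStalk]; exact hy
  haveI : Module.FaithfullyFlat (S.presheaf.stalk (g.base x)) HS :=
    GrothLib.Hensel.IsStrictHenselization.faithfullyFlat
  obtain ⟨s, hs⟩ := PrimeSpectrum.comap_surjective_of_faithfullyFlat
    (A := S.presheaf.stalk (g.base x)) (B := HS) z
  obtain ⟨K, _, _, p, hp⟩ := Secs.exists_point (Z := Spec (CommRingCat.of HS)) s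
  haveI := connectedSpace_fibre hg x HS HX ψ hcompat K p
  obtain ⟨w⟩ : Nonempty ↥(pullback (Spec.map (CommRingCat.ofHom ψ)) p) := inferInstance
  let t : ↥(Spec (CommRingCat.of HX)) := (pullback.fst (Spec.map (CommRingCat.ofHom ψ)) p).base w
  have ht : (Spec.map (CommRingCat.ofHom ψ)).base t = s := by
    refine ((congrArg (fun k : pullback (Spec.map (CommRingCat.ofHom ψ)) p ⟶ Spec (CommRingCat.of HS) => k.base w)
      pullback.condition).trans ?_)
    show p.base ((pullback.snd (Spec.map (CommRingCat.ofHom ψ)) p).base w) = s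
    rw [Subsingleton.elim ((pullback.snd (Spec.map (CommRingCat.ofHom ψ)) p).base w) default, hp]
  let i : Spec (CommRingCat.of HX) ⟶ X :=
    Spec.map (CommRingCat.ofHom (algebraMap (X.presheaf.stalk x) HX)) ≫ X.fromSpecStalk x
  refine ⟨i.base t, ?_, ?_⟩
  · have h : i.base t ∈ Set.range (X.fromSpecStalk x) :=
      ⟨(Spec.map (CommRingCat.ofHom (algebraMap (X.presheaf.stalk x) HX))).base t, rfl⟩
    rwa [Scheme.range_fromSpecStalk] at h
  · have e : i ≫ g = Spec.map (CommRingCat.ofHom ψ) ≫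
        Spec.map (CommRingCat.ofHom (algebraMap (S.presheaf.stalk (g.base x)) HS)) ≫ S.fromSpecStalk (g.base x) := by
      rw [← heS, hψ]
      simp only [i, Category.assoc, Iso.inv_hom_id_assoc, ha]
      rw [← Category.assoc eX.hom, heX, Category.assoc]
    refine (congrArg (fun k : Spec (CommRingCat.of HX) ⟶ S => k.base t) e).trans ?_
    show S.fromSpecStalk (g.base x) ((Spec.map (CommRingCat.ofHom (algebraMap (S.presheaf.stalk (g.base x)) HS))).base
      ((Spec.map (CommRingCat.ofHom ψ)).base t)) = _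
    rw [ht]
    exact congrArg (S.fromSpecStalk (g.base x)) hs

theorem uGen_of_uLocZeroAcyclic {g : X ⟶ S} (hg : EtAcyc.IsULocZeroAcyclic g) : UGen g :=
  fun _ _ i₁ i₂ g₁ h => generalizingMap_of_uLocZeroAcyclic (isULocZeroAcyclic_of_isPullback hg h.flip)

/-- Universally locally zero-acyclic morphisms are locally connected. -/
theorem locConnected_of_uLocZeroAcyclic {g : X ⟶ S} (hg : EtAcyc.IsULocZeroAcyclic g) : LocConnected g := by
  intro x
  obtain ⟨Ω, _, _, ξ, hx, NX, hwX, NS, hwS, HS, _, _, _, _, hHS, HX, _, _, _, _, hHX, eX, eS, a, ψ, heX, heS, ha, hap,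
    hψ, hψl, hcompat⟩ := exists_strictLocalizations g x
  have haψ : a = eX.inv ≫ Spec.map (CommRingCat.ofHom ψ) ≫ eS.hom := by
    rw [hψ]; simp
  have hgen : UGen a := by
    let l : NX.c.pt ⟶ pullback g NS.bc := pullback.lift NX.bc a ha.symm
    haveI : WeaklyEtale (pullback.fst g NS.bc) := MorphismProperty.pullback_fst _ _ hwS
    haveI : Flat (l ≫ pullback.fst g NS.bc) := by rw [pullback.lift_fst]; infer_instance
    haveI : Flat l := flat_of_comp_weaklyEtale l (pullback.fst g NS.bc)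
    have h := (uGen_of_flat l).comp ((uGen_of_uLocZeroAcyclic hg).of_isPullback (IsPullback.of_hasPullback g NS.bc))
    rwa [pullback.lift_snd] at h
  refine ⟨Ω, inferInstance, inferInstance, ξ, hx, NX, NS, a, ha, hap, hgen, ?_, ?_⟩
  · haveI : Surjective (Spec.map (CommRingCat.ofHom ψ)) := ⟨fun s => by
      obtain ⟨K, _, _, p, hp⟩ := Secs.exists_point (Z := Spec (CommRingCat.of HS)) s
      haveI := connectedSpace_fibre hg x HS HX ψ hcompat K p
      obtain ⟨w⟩ : Nonempty ↥(pullback (Spec.map (CommRingCat.ofHom ψ)) p) := inferInstance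
      refine ⟨(pullback.fst (Spec.map (CommRingCat.ofHom ψ)) p).base w,
        ((congrArg (fun k : pullback (Spec.map (CommRingCat.ofHom ψ)) p ⟶ Spec (CommRingCat.of HS) => k.base w)
          pullback.condition).trans ?_)⟩
      show p.base ((pullback.snd (Spec.map (CommRingCat.ofHom ψ)) p).base w) = s
      rw [Subsingleton.elim ((pullback.snd (Spec.map (CommRingCat.ofHom ψ)) p).base w) default, hp]⟩
    rw [haψ]; infer_instance
  · intro K _ _ η
    haveI := connectedSpace_fibre hg x HS HX ψ hcompat K (η ≫ eS.inv)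
    have sq : IsPullback eX.hom (Spec.map (CommRingCat.ofHom ψ)) a eS.hom :=
      IsPullback.of_horiz_isIso ⟨by rw [hψ]; simp⟩
    have sq' : IsPullback (pullback.fst (Spec.map (CommRingCat.ofHom ψ)) (η ≫ eS.inv) ≫ eX.hom)
        (pullback.snd (Spec.map (CommRingCat.ofHom ψ)) (η ≫ eS.inv)) a η := by
      have := (IsPullback.of_hasPullback (Spec.map (CommRingCat.ofHom ψ)) (η ≫ eS.inv)).paste_horiz sq
      simpa using this
    exact sq'.isoPullback.hom.homeomorph.surjective.connectedSpace sq'.isoPullback.hom.continuous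

end GrothLib.LocAcyc
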