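import Groth.Agent.Lib.LocAcyc.Charts

/-!
# Morphisms over discrete bases are universally locally zero-acyclic
-/

universe u

open CategoryTheory CategoryTheory.Limits AlgebraicGeometry Opposite IsLocalRing
open GrothLib.EtSec
open scoped TensorProduct

set_option backward.isDefEq.respectTransparency.types false

noncomputable section

namespace GrothLib.LocAcyc

/-- Morphisms over discrete bases lift generalizations universally. -/
theorem uGen_of_discrete {X Y : Scheme.{u}} (g : X ⟶ Y) [DiscreteTopology Y] : UGen g := by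
  intro X' Y' b' bY g' h x y'' hy
  let y := bY.base (g'.base x)
  let q := Y.fromSpecResidueField y
  let g₀ := pullback.snd g q
  haveI : Flat g₀ := inferInstance
  let q' := pullback.fst bY q
  let g'' := pullback.snd g' q'
  have big : IsPullback (pullback.fst g' q' ≫ b') g'' g (q' ≫ bY) :=
    (IsPullback.of_hasPullback g' q').paste_horiz h.flip
  let l : pullback g' q' ⟶ pullback g q := pullback.lift (pullback.fst g' q' ≫ b') (g'' ≫ pullback.snd bY q)
    (by rw [big.w, Category.assoc, pullback.condition])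
  have big' : IsPullback (l ≫ pullback.fst g q) g'' g (pullback.snd bY q ≫ q) := by
    rw [pullback.lift_fst, ← pullback.condition]
    exact big
  have left : IsPullback l g'' g₀ (pullback.snd bY q) :=
    big'.of_right (pullback.lift_snd _ _ _) (IsPullback.of_hasPullback g q)
  haveI : Flat g'' := MorphismProperty.of_isPullback left ‹Flat g₀›
  have hy' : bY.base y'' = y := ((hy : y'' ⤳ g'.base x).map bY.continuous).eq
  have hq : ∀ w : Y', bY.base w = y → w ∈ Set.range q'.base := fun w hw => by
    show w ∈ Set.range (pullback.fst bY q).base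
    rw [Scheme.Pullback.range_fst, Scheme.range_fromSpecResidueField]
    exact hw
  obtain ⟨a, ha⟩ := hq y'' hy'
  obtain ⟨x₀, hx₀⟩ : x ∈ Set.range (pullback.fst g' q').base := by
    rw [Scheme.Pullback.range_fst]
    exact hq _ rfl
  have hc : q'.base (g''.base x₀) = g'.base x := by
    rw [← hx₀]
    exact congrArg (fun k : pullback g' q' ⟶ Y' => k.base x₀) pullback.condition.symm
  have hspec : a ⤳ g''.base x₀ := by
    haveI : IsPreimmersion q' := inferInstance
    rw [← q'.isEmbedding.specializes_iff]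
    show q'.base a ⤳ q'.base (g''.base x₀)
    rw [ha, hc]
    exact hy
  obtain ⟨x₁, hx₁, hx₁'⟩ := Flat.generalizingMap g'' hspec
  refine ⟨(pullback.fst g' q').base x₁, ?_, ?_⟩
  · show (pullback.fst g' q').base x₁ ⤳ x
    rw [← hx₀]
    exact (hx₁ : x₁ ⤳ x₀).map (pullback.fst g' q').continuous
  · refine (congrArg (fun k : pullback g' q' ⟶ Y' => k.base x₁) pullback.condition).trans ?_
    show q'.base (g''.base x₁) = y''
    rw [hx₁', ha]

/-- Two successive base changes of affine schemes. -/
theorem isPullback_baseChange_baseChange (R K C A : Type u) [CommRing R] [CommRing K] [CommRing C] [CommRing A]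
    [Algebra R K] [Algebra R C] [Algebra K A] :
    IsPullback
      (Spec.map (CommRingCat.ofHom (Algebra.TensorProduct.includeLeftRingHom : K ⊗[R] C →+* (K ⊗[R] C) ⊗[K] A)) ≫
        Spec.map (CommRingCat.ofHom (Algebra.TensorProduct.includeRight (R := R) (A := K) (B := C)).toRingHom))
      (Spec.map (CommRingCat.ofHom (Algebra.TensorProduct.includeRight (R := K) (A := K ⊗[R] C) (B := A)).toRingHom))
      (Spec.map (CommRingCat.ofHom (algebraMap R C)))
      (Spec.map (CommRingCat.ofHom (algebraMap K A)) ≫ Spec.map (CommRingCat.ofHom (algebraMap R K))) :=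
  (isPullback_SpecMap_of_isPushout _ _ _ _ (CommRingCat.isPushout_tensorProduct K (K ⊗[R] C) A)).paste_horiz
    (isPullback_SpecMap_of_isPushout _ _ _ _ (CommRingCat.isPushout_tensorProduct R K C)).flip

/-- The base change of an algebra over an algebraically closed field to a normal domain is divisible. -/
theorem divisible_includeRight (k : Type u) [Field k] [PerfectField k] (D A : Type u) [CommRing D] [Algebra k D]
    [CommRing A] [IsDomain A] [IsIntegrallyClosed A] [Algebra k A] :
    Divisible (Algebra.TensorProduct.includeRight (R := k) (A := D) (B := A)).toRingHom := fun t ht =>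
  ⟨fun p p' h => Module.Flat.lTensor_preserves_injective_linearMap (M := D) (LinearMap.mulLeft k t)
      (mul_right_injective₀ ht) (((mul_one_tmul_eq_lTensor t p).symm.trans h).trans (mul_one_tmul_eq_lTensor t p')),
    fun E _ _ _ b hb => by
      obtain ⟨c, -, rfl⟩ := exists_idempotent_mul (k := k) (D := D) t ht b hb
      exact Ideal.mul_mem_right _ _ (Ideal.mem_span_singleton_self _)⟩

theorem hasDivisibleCharts_of_discrete {X Y : Scheme.{u}} (g : X ⟶ Y) [DiscreteTopology Y] :
    HasDivisibleCharts g := by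
  intro x
  obtain ⟨_, ⟨V, hV, rfl⟩, hyV, hVy⟩ :=
    Y.isBasis_affineOpens.exists_subset_of_mem_open (Set.mem_singleton (g.base x)) (isOpen_discrete {g.base x})
  obtain ⟨_, ⟨U, hU, rfl⟩, hxU, hUV⟩ := X.isBasis_affineOpens.exists_subset_of_mem_open
    (show x ∈ g ⁻¹ᵁ V from hyV) (g ⁻¹ᵁ V).2
  refine ⟨V, hV, U, hU, hUV, hxU, fun A _ _ _ _ F _ _ _ _ φ => ?_⟩
  let ρ : Γ(Y, V) →+* F := (algebraMap A F).comp φ
  letI : Algebra Γ(Y, V) A := φ.toAlgebra
  letI : Algebra Γ(Y, V) F := ρ.toAlgebra
  haveI : IsScalarTower Γ(Y, V) A F := IsScalarTower.of_algebraMap_eq fun _ => rfl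
  haveI : Subsingleton (PrimeSpectrum Γ(Y, V)) := ⟨fun s s' => hV.fromSpec.isOpenEmbedding.injective
    ((Set.mem_singleton_iff.1 (hVy (hV.range_fromSpec.le ⟨s, rfl⟩))).trans
      (Set.mem_singleton_iff.1 (hVy (hV.range_fromSpec.le ⟨s', rfl⟩))).symm)⟩
  -- the algebraic closure of the residue field inside `A`
  let K₀ := integralClosure Γ(Y, V) F
  have hK₀ : IsField K₀ := by
    have h0 : ((⊥ : Ideal K₀).comap (algebraMap Γ(Y, V) K₀)).IsMaximal := by
      haveI : ((⊥ : Ideal K₀).comap (algebraMap Γ(Y, V) K₀)).IsPrime := Ideal.IsPrime.comap _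
      obtain ⟨M, hM, -⟩ := Ideal.exists_le_maximal _
        (Ideal.IsPrime.ne_top (I := (⊥ : Ideal K₀).comap (algebraMap Γ(Y, V) K₀)) inferInstance)
      have h' : (⊥ : Ideal K₀).comap (algebraMap Γ(Y, V) K₀) = M := congrArg PrimeSpectrum.asIdeal (Subsingleton.elim
        (⟨(⊥ : Ideal K₀).comap (algebraMap Γ(Y, V) K₀), inferInstance⟩ : PrimeSpectrum Γ(Y, V)) ⟨M, hM.isPrime⟩)
      rw [h']; exact hM
    have h1 : (⊥ : Ideal K₀).IsMaximal := Ideal.isMaximal_of_isIntegral_of_isMaximal_comap (R := Γ(Y, V)) _ h0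
    exact (RingEquiv.quotientBot K₀).symm.toMulEquiv.isField ((Ideal.Quotient.maximal_ideal_iff_isField_quotient _).1 h1)
  letI : Field K₀ := hK₀.toField
  haveI : IsAlgClosed K₀ := by
    haveI := SmoothConn.isAlgClosed_fractionRing Γ(Y, V) F
    exact IsAlgClosed.of_ringEquiv (FractionRing K₀) K₀
      (IsLocalization.atUnits K₀ (nonZeroDivisors K₀) (S := FractionRing K₀) (fun z hz =>
        isUnit_iff_ne_zero.2 (nonZeroDivisors.ne_zero hz))).symm.toRingEquiv
  have hmem : ∀ z : K₀, (z : F) ∈ (algebraMap A F).range := fun z =>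
    IsIntegrallyClosed.algebraMap_eq_of_integral (K := F) (z.2.tower_top (A := A))
  let eA : A ≃+* (algebraMap A F).range :=
    RingEquiv.ofBijective (algebraMap A F).rangeRestrict
      ⟨fun a a' h => IsFractionRing.injective A F (congrArg Subtype.val h), (algebraMap A F).rangeRestrict_surjective⟩
  let ι : K₀ →+* A := eA.symm.toRingHom.comp ((algebraMap K₀ F).codRestrict (algebraMap A F).range hmem)
  have hι : ∀ z : K₀, algebraMap A F (ι z) = z := fun z => congrArg Subtype.val (eA.apply_symm_apply ⟨(z : F), hmem z⟩)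
  letI : Algebra K₀ A := ι.toAlgebra
  haveI : IsScalarTower Γ(Y, V) K₀ A := IsScalarTower.of_algebraMap_eq fun r =>
    IsFractionRing.injective A F (((IsScalarTower.algebraMap_apply Γ(Y, V) A F r).symm.trans
      (IsScalarTower.algebraMap_apply Γ(Y, V) K₀ F r)).trans (hι _).symm)
  letI : Algebra Γ(Y, V) Γ(X, U) := (g.appLE V U hUV).hom.toAlgebra
  let D := K₀ ⊗[Γ(Y, V)] Γ(X, U)
  refine ⟨D ⊗[K₀] A, inferInstance, (Algebra.TensorProduct.includeLeftRingHom : D →+* D ⊗[K₀] A).comp
    (Algebra.TensorProduct.includeRight (R := Γ(Y, V)) (A := K₀) (B := Γ(X, U))).toRingHom, _, ?_,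
    (divisible_includeRight K₀ D A).nil⟩
  have sqP := isPullback_baseChange_baseChange Γ(Y, V) K₀ Γ(X, U) A
  rw [← Spec.map_comp, ← Spec.map_comp, ← CommRingCat.ofHom_comp, ← CommRingCat.ofHom_comp,
    ← IsScalarTower.algebraMap_eq] at sqP
  exact sqP

/-- Morphisms over discrete bases are universally locally zero-acyclic. -/
theorem isULocZeroAcyclic_of_discrete {X Y : Scheme.{u}} (g : X ⟶ Y) [DiscreteTopology Y] :
    EtAcyc.IsULocZeroAcyclic g :=
  isULocZeroAcyclic_of_charts (uGen_of_discrete g) (hasDivisibleCharts_of_discrete g)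

end GrothLib.LocAcyc
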