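import Groth.Agent.Lib.LocAcyc.Universal
import Groth.Agent.Lib.LocAcyc.GenericFibre
import Groth.Agent.Lib.BaseChange.Irred
import Mathlib.AlgebraicGeometry.Geometrically.Connected

/-!
# Geometric fibres of universally locally zero-acyclic morphisms
-/

universe u

open CategoryTheory CategoryTheory.Limits AlgebraicGeometry Opposite
open IsLocalRing
open scoped TensorProduct

set_option backward.isDefEq.respectTransparency.types false

namespace GrothLib.LocAcyc

theorem exists_stalk_iso_closedPoint (A : Type u) [CommRing A] [IsLocalRing A]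
    (y : Spec (CommRingCat.of A)) (hy : y = closedPoint A) :
    ∃ α : (Spec (CommRingCat.of A)).presheaf.stalk y ⟶ CommRingCat.of A, IsIso α ∧
      Spec.map α ≫ (Spec (CommRingCat.of A)).fromSpecStalk y = 𝟙 _ := by
  subst hy
  refine ⟨(stalkClosedPointIso (CommRingCat.of A)).hom, inferInstance, ?_⟩
  exact (congrArg (Spec.map (stalkClosedPointIso (CommRingCat.of A)).hom ≫ ·)
    (Spec_stalkClosedPointIso (CommRingCat.of A)).symm).trans (by rw [← Spec.map_comp]; simp)

variable {X Y : Scheme.{u}} {g : X ⟶ Y}

/-- The base change of a strict henselization to an integral algebra is a strict henselization of a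
chart of the base change of the morphism. -/
theorem exists_isStrictHenselization_tensor (x : X) (RY : Type u) [CommRing RY]
    [IsLocalRing RY] [Algebra (Y.presheaf.stalk (g.base x)) RY]
    [IsLocalHom (algebraMap (Y.presheaf.stalk (g.base x)) RY)]
    [Hensel.IsStrictHenselization (Y.presheaf.stalk (g.base x)) RY]
    (RX : Type u) [CommRing RX] [IsLocalRing RX] [Algebra (X.presheaf.stalk x) RX]
    [IsLocalHom (algebraMap (X.presheaf.stalk x) RX)] [Hensel.IsStrictHenselization (X.presheaf.stalk x) RX]
    [Algebra RY RX] [IsLocalHom (algebraMap RY RX)]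
    (hψ : (algebraMap RY RX).comp (algebraMap (Y.presheaf.stalk (g.base x)) RY) =
      (algebraMap (X.presheaf.stalk x) RX).comp (g.stalkMap x).hom)
    (A : Type u) [CommRing A] [HenselianLocalRing A] [IsSepClosed (ResidueField A)] [Algebra RY A]
    [IsLocalHom (algebraMap RY A)] [Algebra.IsIntegral RY A] [IsLocalRing (RX ⊗[RY] A)]
    {Z : Scheme.{u}}
    (b : Spec (CommRingCat.of A) ⟶ Y)
    (hbA : b = Spec.map (CommRingCat.ofHom ((algebraMap RY A).comp (algebraMap (Y.presheaf.stalk (g.base x)) RY))) ≫
      Y.fromSpecStalk (g.base x))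
    (j : Z ⟶ pullback g b) [IsOpenImmersion j]
    (hj : ∀ w : ↥(pullback g b), (pullback.fst g b).base w = x → w ∈ Set.range j.base) :
    ∃ (z : Z) (_ : (pullback.snd g b).base (j.base z) = closedPoint A)
      (_ : Algebra (Z.presheaf.stalk z) (RX ⊗[RY] A))
      (_ : IsLocalHom (algebraMap (Z.presheaf.stalk z) (RX ⊗[RY] A))),
      _root_.Hensel.IsStrictHenselization (Z.presheaf.stalk z) (RX ⊗[RY] A) ∧
        Spec.map (CommRingCat.ofHom (algebraMap (Z.presheaf.stalk z) (RX ⊗[RY] A))) ≫ Z.fromSpecStalk z ≫ j ≫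
            pullback.snd g b =
          Spec.map (CommRingCat.ofHom (Algebra.TensorProduct.includeRight (R := RY) (A := RX) (B := A)).toRingHom) ∧
        IsLocalHom (Algebra.TensorProduct.includeRight (R := RY) (A := RX) (B := A)).toRingHom := by
  let ι : RX →+* RX ⊗[RY] A := Algebra.TensorProduct.includeLeftRingHom
  let κ : A →+* RX ⊗[RY] A := (Algebra.TensorProduct.includeRight (R := RY) (A := RX) (B := A)).toRingHom
  let B := CommRingCat.of (RX ⊗[RY] A)
  have hικ : ι.comp (algebraMap RY RX) = κ.comp (algebraMap RY A) := RingHom.ext fun r =>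
    ((Algebra.TensorProduct.includeRight (R := RY) (A := RX) (B := A)).commutes r).symm
  haveI hι : IsLocalHom ι := isLocalHom_includeLeft
  let αA : Y.presheaf.stalk (g.base x) ⟶ CommRingCat.of A :=
    CommRingCat.ofHom ((algebraMap RY A).comp (algebraMap (Y.presheaf.stalk (g.base x)) RY))
  let mX : Spec B ⟶ X :=
    Spec.map (CommRingCat.ofHom (ι.comp (algebraMap (X.presheaf.stalk x) RX))) ≫ X.fromSpecStalk x
  obtain ⟨e, he1, he2⟩ : ∃ e : Spec B ⟶ pullback g b,
      e ≫ pullback.fst g b = mX ∧ e ≫ pullback.snd g b = Spec.map (CommRingCat.ofHom κ) := ⟨pullback.lift mX (Spec.map (CommRingCat.ofHom κ)) (by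
    subst hbA
    simp only [mX, Category.assoc, ← Scheme.SpecMap_stalkMap_fromSpecStalk, ← Spec.map_comp_assoc]
    congr 1
    refine congrArg Spec.map (CommRingCat.hom_ext ?_)
    show (ι.comp (algebraMap _ RX)).comp (g.stalkMap x).hom = κ.comp ((algebraMap RY A).comp (algebraMap _ RY))
    rw [RingHom.comp_assoc, ← hψ, ← RingHom.comp_assoc, hικ, RingHom.comp_assoc]),
    pullback.lift_fst _ _ _, pullback.lift_snd _ _ _⟩
  have hA : (Spec.map (CommRingCat.ofHom κ)).base (closedPoint (RX ⊗[RY] A)) = closedPoint A := by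
    refine PrimeSpectrum.ext (eq_maximalIdeal ?_)
    have h1 : ((closedPoint (RX ⊗[RY] A)).asIdeal.comap κ).comap (algebraMap RY A) = maximalIdeal RY := by
      rw [Ideal.comap_comap, ← hικ, ← Ideal.comap_comap]
      show ((maximalIdeal (RX ⊗[RY] A)).comap ι).comap (algebraMap RY RX) = _
      have h2 : (maximalIdeal (RX ⊗[RY] A)).comap ι = maximalIdeal RX := ((local_hom_TFAE ι).out 0 4).1 hι
      rw [h2]
      exact ((local_hom_TFAE (algebraMap RY RX)).out 0 4).1 ‹_›
    haveI : ((closedPoint (RX ⊗[RY] A)).asIdeal.comap κ).IsPrime := Ideal.IsPrime.comap κ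
    exact Ideal.isMaximal_of_isIntegral_of_isMaximal_comap (R := RY) _ (h1 ▸ inferInstance)
  haveI hκ : IsLocalHom κ := ((local_hom_TFAE κ).out 0 4).2 (congrArg PrimeSpectrum.asIdeal hA)
  have hfst : (pullback.fst g b).base (e.base (closedPoint (RX ⊗[RY] A))) = x := by
    rw [← Scheme.Hom.comp_apply, he1]
    show X.fromSpecStalk x ((Spec.map (CommRingCat.ofHom (ι.comp (algebraMap (X.presheaf.stalk x) RX)))) (closedPoint (RX ⊗[RY] A))) = x
    refine (congrArg (X.fromSpecStalk x) ?_).trans Scheme.fromSpecStalk_closedPoint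
    haveI hιx : IsLocalHom (ι.comp (algebraMap (X.presheaf.stalk x) RX)) := RingHom.isLocalHom_comp _ _
    exact PrimeSpectrum.ext (((local_hom_TFAE (ι.comp (algebraMap (X.presheaf.stalk x) RX))).out 0 4).1 hιx)
  have hsnd : (pullback.snd g b).base (e.base (closedPoint (RX ⊗[RY] A))) = closedPoint A := by
    rw [← Scheme.Hom.comp_apply, he2]
    exact hA
  have hrange : Set.range e.base ⊆ Set.range j.base := by
    rintro _ ⟨s, rfl⟩
    exact ((specializes_closedPoint s).map e.continuous).mem_open j.isOpenEmbedding.isOpen_range (hj _ hfst)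
  let e' : Spec B ⟶ Z := IsOpenImmersion.lift j e hrange
  have he' : e' ≫ j = e := IsOpenImmersion.lift_fac _ _ _
  let z := e'.base (closedPoint (RX ⊗[RY] A))
  have hz : j.base z = e.base (closedPoint (RX ⊗[RY] A)) :=
    congrArg (fun m : Spec B ⟶ pullback g b => m.base (closedPoint (RX ⊗[RY] A))) he'
  have he1' : e' ≫ j ≫ pullback.fst g b = mX := by rw [← Category.assoc, he', he1]
  have he2' : e' ≫ j ≫ pullback.snd g b = Spec.map (CommRingCat.ofHom κ) := by rw [← Category.assoc, he', he2]
  have hzsnd : (j ≫ pullback.snd g b).base z = closedPoint A := (congrArg _ hz).trans hsnd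
  have hzfst : (j ≫ pullback.fst g b).base z = x := (congrArg _ hz).trans hfst
  let ρ : Z.presheaf.stalk z ⟶ B := Scheme.stalkClosedPointTo e'
  letI algB : Algebra (Z.presheaf.stalk z) (RX ⊗[RY] A) := ρ.hom.toAlgebra
  haveI hloc : IsLocalHom (algebraMap (Z.presheaf.stalk z) (RX ⊗[RY] A)) :=
    Scheme.isLocalHom_stalkClosedPointTo' e'
  let φA : CommRingCat.of A ⟶ Z.presheaf.stalk z := Spec.preimage (Z.fromSpecStalk z ≫ j ≫ pullback.snd g b)
  have hφA : Spec.map φA = Z.fromSpecStalk z ≫ j ≫ pullback.snd g b := Spec.map_preimage _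
  haveI : IsLocalHom φA.hom := ((local_hom_TFAE φA.hom).out 0 4).2 (congrArg PrimeSpectrum.asIdeal
    (show (Spec.map φA).base (closedPoint _) = closedPoint A by
      rw [hφA, Scheme.Hom.comp_apply, Scheme.fromSpecStalk_closedPoint]; exact hzsnd))
  refine ⟨z, (congrArg _ hz).trans hsnd, algB, hloc, ?_, ?_, hκ⟩
  · subst hzfst
    let jx := (j ≫ pullback.fst g _).stalkMap z
    refine isStrictHenselization_tensor (hRY := ‹_›) (hRX := ‹_›) (g.stalkMap _).hom hψ
      jx.hom φA.hom ?_ ?_ ?_ fun T _ _ f f' _ _ hx hA' => ?_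
    · have h : g.stalkMap _ ≫ jx = αA ≫ φA := by
        refine Spec.map_injective ((cancel_mono (Y.fromSpecStalk _)).1 ?_)
        rw [Spec.map_comp, Spec.map_comp, Category.assoc, Category.assoc, hφA, Category.assoc,
          Scheme.SpecMap_stalkMap_fromSpecStalk, Scheme.SpecMap_stalkMap_fromSpecStalk_assoc]
        simp only [Category.assoc]
        rw [pullback.condition]
        exact congrArg (fun m => Z.fromSpecStalk z ≫ j ≫ pullback.snd g b ≫ m) hbA
      exact congrArg CommRingCat.Hom.hom h
    · have h : jx ≫ ρ = CommRingCat.ofHom (ι.comp (algebraMap (X.presheaf.stalk _) RX)) := by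
        refine Spec.map_injective ((cancel_mono (X.fromSpecStalk _)).1 ?_)
        rw [Spec.map_comp, Category.assoc, Scheme.SpecMap_stalkMap_fromSpecStalk,
          Scheme.Spec_stalkClosedPointTo_fromSpecStalk_assoc]
        exact he1'
      exact congrArg CommRingCat.Hom.hom h
    · have h : φA ≫ ρ = CommRingCat.ofHom κ := by
        refine Spec.map_injective ?_
        rw [Spec.map_comp, hφA, Scheme.Spec_stalkClosedPointTo_fromSpecStalk_assoc]
        exact he2'
      exact congrArg CommRingCat.Hom.hom h
    · let F := CommRingCat.ofHom f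
      let F' := CommRingCat.ofHom f'
      have hx' : jx ≫ F = jx ≫ F' := CommRingCat.hom_ext hx
      have hA'' : φA ≫ F = φA ≫ F' := CommRingCat.hom_ext hA'
      have h : F = F' := by
        refine Spec.map_injective ((cancel_mono (Z.fromSpecStalk z)).1 ((cancel_mono j).1 (pullback.hom_ext ?_ ?_)))
        · rw [Category.assoc, Category.assoc, Category.assoc, Category.assoc,
            ← Scheme.SpecMap_stalkMap_fromSpecStalk, ← Spec.map_comp_assoc, ← Spec.map_comp_assoc,
            show (j ≫ pullback.fst g b).stalkMap z = jx from rfl, hx']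
        · simp only [Category.assoc, ← hφA, ← Spec.map_comp]
          rw [hA'']
      exact congrArg CommRingCat.Hom.hom h
  · show Spec.map ρ ≫ _ = _
    rw [Scheme.Spec_stalkClosedPointTo_fromSpecStalk_assoc]
    exact he2'

/-- Local zero-acyclicity of a base change to a strictly henselian domain integral over a strict henselization. -/
theorem isZeroAcyclic_tensor (hg : EtAcyc.IsULocZeroAcyclic g) (x : X) (RY : Type u) [CommRing RY]
    [IsLocalRing RY] [Algebra (Y.presheaf.stalk (g.base x)) RY]
    [IsLocalHom (algebraMap (Y.presheaf.stalk (g.base x)) RY)]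
    [Hensel.IsStrictHenselization (Y.presheaf.stalk (g.base x)) RY]
    (RX : Type u) [CommRing RX] [IsLocalRing RX] [Algebra (X.presheaf.stalk x) RX]
    [IsLocalHom (algebraMap (X.presheaf.stalk x) RX)] [Hensel.IsStrictHenselization (X.presheaf.stalk x) RX]
    [Algebra RY RX] [IsLocalHom (algebraMap RY RX)]
    (hψ : (algebraMap RY RX).comp (algebraMap (Y.presheaf.stalk (g.base x)) RY) =
      (algebraMap (X.presheaf.stalk x) RX).comp (g.stalkMap x).hom)
    (A : Type u) [CommRing A] [HenselianLocalRing A] [IsSepClosed (ResidueField A)] [Algebra RY A]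
    [IsLocalHom (algebraMap RY A)] [Algebra.IsIntegral RY A] [IsLocalRing (RX ⊗[RY] A)] :
    EtAcyc.IsZeroAcyclic (Spec.map (CommRingCat.ofHom
      (Algebra.TensorProduct.includeRight (R := RY) (A := RX) (B := A)).toRingHom)) := by
  let κ : A →+* RX ⊗[RY] A := (Algebra.TensorProduct.includeRight (R := RY) (A := RX) (B := A)).toRingHom
  obtain ⟨b, hbA⟩ : ∃ b : Spec (CommRingCat.of A) ⟶ Y, b = Spec.map (CommRingCat.ofHom ((algebraMap RY A).comp
      (algebraMap (Y.presheaf.stalk (g.base x)) RY))) ≫ Y.fromSpecStalk (g.base x) := ⟨_, rfl⟩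
  obtain ⟨x₁, hsnd, _, _, hH, hsq, hκ⟩ := exists_isStrictHenselization_tensor x RY RX hψ A b hbA (𝟙 (pullback g b))
    fun w _ => ⟨w, rfl⟩
  let y₁ := (pullback.snd g b).base x₁
  obtain ⟨α, hαiso, hα⟩ := exists_stalk_iso_closedPoint A y₁ hsnd
  letI algA : Algebra ((Spec (CommRingCat.of A)).presheaf.stalk y₁) A := α.hom.toAlgebra
  have hαb : Function.Bijective (algebraMap ((Spec (CommRingCat.of A)).presheaf.stalk y₁) A) :=
    ConcreteCategory.bijective_of_isIso α
  haveI : IsLocalHom (algebraMap ((Spec (CommRingCat.of A)).presheaf.stalk y₁) A) :=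
    ⟨fun z hz => by
      have := hz.map (RingEquiv.ofBijective _ hαb).symm
      rwa [show (RingEquiv.ofBijective _ hαb).symm (algebraMap _ A z) = z from
        (RingEquiv.ofBijective _ hαb).symm_apply_apply z] at this⟩
  haveI : Hensel.IsStrictHenselization ((Spec (CommRingCat.of A)).presheaf.stalk y₁) A :=
    isStrictHenselization_of_bijective _ A hαb
  letI : Algebra A (RX ⊗[RY] A) := κ.toAlgebra
  haveI : IsLocalHom (algebraMap A (RX ⊗[RY] A)) := hκ
  refine hg (pullback.snd g b) (pullback.fst g b) b (IsPullback.of_hasPullback g b) x₁ A (RX ⊗[RY] A) ?_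
  have h : α ≫ CommRingCat.ofHom κ = (pullback.snd g b).stalkMap x₁ ≫
      CommRingCat.ofHom (algebraMap ((pullback g b).presheaf.stalk x₁) (RX ⊗[RY] A)) := by
    refine Spec.map_injective ((cancel_mono ((Spec (CommRingCat.of A)).fromSpecStalk y₁)).1 ?_)
    rw [Spec.map_comp, Spec.map_comp, Category.assoc, hα, Category.comp_id, Category.assoc,
      Scheme.SpecMap_stalkMap_fromSpecStalk]
    rw [Category.id_comp] at hsq
    exact hsq.symm
  exact congrArg CommRingCat.Hom.hom h

/-- Geometric fibres reduce to generic fibres over strictly henselian normal domains. -/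
theorem connectedSpace_pullback_of_integralClosure (RY RX : Type u) [CommRing RY] [HenselianLocalRing RY]
    [IsSepClosed (ResidueField RY)] [CommRing RX] [IsLocalRing RX] [Algebra RY RX] [IsLocalHom (algebraMap RY RX)]
    (K : Type u) [Field K] [IsAlgClosed K] [Algebra RY K]
    (h : ∀ (A : Type u) [CommRing A] [IsDomain A] [IsIntegrallyClosed A] [HenselianLocalRing A]
      [IsSepClosed (ResidueField A)] [Algebra RY A] [IsLocalHom (algebraMap RY A)] [Algebra.IsIntegral RY A]
      [IsLocalRing (RX ⊗[RY] A)] (F : Type u) [Field F] [IsAlgClosed F] [Algebra A F] [IsFractionRing A F]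
      [Algebra A (RX ⊗[RY] A)],
      algebraMap A (RX ⊗[RY] A) = (Algebra.TensorProduct.includeRight (R := RY) (A := RX) (B := A)).toRingHom →
      ConnectedSpace (PrimeSpectrum (F ⊗[A] (RX ⊗[RY] A)))) :
    ConnectedSpace ↥(pullback (Spec.map (CommRingCat.ofHom (algebraMap RY RX)))
      (Spec.map (CommRingCat.ofHom (algebraMap RY K)))) := by
  let A := integralClosure RY K
  let F := FractionRing A
  haveI := SmoothConn.isLocalRing_of_integral_domain RY A
  haveI : IsLocalHom (algebraMap RY A) := ((local_hom_TFAE (algebraMap RY A)).out 0 4).2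
    (eq_maximalIdeal (Ideal.isMaximal_comap_of_isIntegral_of_isMaximal (maximalIdeal A)))
  haveI : HenselianLocalRing A := henselianLocalRing_of_isIntegral RY A
  haveI : Algebra.IsAlgebraic (ResidueField RY) (ResidueField A) := ⟨fun z => by
    obtain ⟨a, rfl⟩ := residue_surjective z
    exact (((Algebra.IsIntegral.isIntegral (R := RY) a).map
      (IsScalarTower.toAlgHom RY A (ResidueField A))).tower_top).isAlgebraic⟩
  haveI : IsSepClosed (ResidueField A) := Algebra.IsAlgebraic.isSepClosed (F := ResidueField RY)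
  haveI := SmoothConn.isLocalRing_tensor RY RX A
  letI algAB : Algebra A (RX ⊗[RY] A) :=
    (Algebra.TensorProduct.includeRight (R := RY) (A := RX) (B := A)).toRingHom.toAlgebra
  haveI := SmoothConn.isIntegrallyClosed_integralClosure RY K
  haveI := SmoothConn.isAlgClosed_fractionRing RY K
  haveI := h A F rfl
  haveI : ConnectedSpace ↥(pullback (Spec.map (CommRingCat.ofHom (algebraMap RY RX)))
      (Spec.map (CommRingCat.ofHom (algebraMap RY F)))) := by
    haveI : ConnectedSpace ↥(Spec (CommRingCat.of (F ⊗[A] (RX ⊗[RY] A)))) :=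
      (inferInstance : ConnectedSpace (PrimeSpectrum (F ⊗[A] (RX ⊗[RY] A))))
    haveI : ConnectedSpace ↥(pullback (Spec.map (CommRingCat.ofHom (algebraMap A (RX ⊗[RY] A))))
        (Spec.map (CommRingCat.ofHom (algebraMap A F)))) :=
      ((pullbackSpecIso A F (RX ⊗[RY] A)).inv ≫ (pullbackSymmetry _ _).hom).homeomorph.surjective.connectedSpace
        ((pullbackSpecIso A F (RX ⊗[RY] A)).inv ≫ (pullbackSymmetry _ _).hom).continuous
    have sq0 : IsPullback (Spec.map (CommRingCat.ofHom (Algebra.TensorProduct.includeLeftRingHom :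
          RX →+* RX ⊗[RY] A))) (Spec.map (CommRingCat.ofHom (algebraMap A (RX ⊗[RY] A))))
        (Spec.map (CommRingCat.ofHom (algebraMap RY RX))) (Spec.map (CommRingCat.ofHom (algebraMap RY A))) :=
      isPullback_SpecMap_of_isPushout _ _ _ _ (CommRingCat.isPushout_tensorProduct RY RX A)
    have sq := (IsPullback.of_hasPullback (Spec.map (CommRingCat.ofHom (algebraMap A (RX ⊗[RY] A))))
        (Spec.map (CommRingCat.ofHom (algebraMap A F)))).paste_horiz sq0
    rw [show Spec.map (CommRingCat.ofHom (algebraMap RY F)) =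
        Spec.map (CommRingCat.ofHom (algebraMap A F)) ≫ Spec.map (CommRingCat.ofHom (algebraMap RY A)) by
      rw [← Spec.map_comp, ← CommRingCat.ofHom_comp, ← IsScalarTower.algebraMap_eq]]
    exact sq.isoPullback.hom.homeomorph.surjective.connectedSpace sq.isoPullback.hom.continuous
  let j : F →+* K := IsFractionRing.lift (g := algebraMap A K) Subtype.val_injective
  letI : Algebra F K := j.toAlgebra
  have hj : (algebraMap F K).comp (algebraMap RY F) = algebraMap RY K := RingHom.ext fun r => by
    show j (algebraMap RY F r) = _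
    rw [IsScalarTower.algebraMap_apply RY A F, IsFractionRing.lift_algebraMap]
    rfl
  haveI := GrothLib.BaseChange.geometricallyIrreducible_spec_of_isSepClosed F K
  haveI : GeometricallyConnected (Spec.map (CommRingCat.ofHom (algebraMap F K))) := by
    refine ⟨fun M _ y Z fst snd h => ?_⟩
    have := GeometricallyIrreducible.geometrically_irreducibleSpace (f := Spec.map (CommRingCat.ofHom (algebraMap F K))) _ _ _ h
    infer_instance
  rw [show Spec.map (CommRingCat.ofHom (algebraMap RY K)) =
    Spec.map (CommRingCat.ofHom (algebraMap F K)) ≫ Spec.map (CommRingCat.ofHom (algebraMap RY F)) by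
      rw [← Spec.map_comp, ← CommRingCat.ofHom_comp, hj]]
  exact (pullbackLeftPullbackSndIso _ (Spec.map (CommRingCat.ofHom (algebraMap RY F)))
    (Spec.map (CommRingCat.ofHom (algebraMap F K)))).hom.homeomorph.surjective.connectedSpace
    (pullbackLeftPullbackSndIso _ (Spec.map (CommRingCat.ofHom (algebraMap RY F)))
      (Spec.map (CommRingCat.ofHom (algebraMap F K)))).hom.continuous

/-- Strict localizations of universally locally zero-acyclic morphisms have connected geometric fibres. -/
theorem connectedSpace_fibre (hg : EtAcyc.IsULocZeroAcyclic g) (x : X) (RY : Type u) [CommRing RY]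
    [IsLocalRing RY] [Algebra (Y.presheaf.stalk (g.base x)) RY]
    [IsLocalHom (algebraMap (Y.presheaf.stalk (g.base x)) RY)]
    [hRY : Hensel.IsStrictHenselization (Y.presheaf.stalk (g.base x)) RY]
    (RX : Type u) [CommRing RX] [IsLocalRing RX] [Algebra (X.presheaf.stalk x) RX]
    [IsLocalHom (algebraMap (X.presheaf.stalk x) RX)] [hRX : Hensel.IsStrictHenselization (X.presheaf.stalk x) RX]
    (ψ : RY →+* RX) [IsLocalHom ψ]
    (hψ : ψ.comp (algebraMap (Y.presheaf.stalk (g.base x)) RY) =
      (algebraMap (X.presheaf.stalk x) RX).comp (g.stalkMap x).hom)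
    (K : Type u) [Field K] [IsAlgClosed K] (η : Spec (CommRingCat.of K) ⟶ Spec (CommRingCat.of RY)) :
    ConnectedSpace ↥(pullback (Spec.map (CommRingCat.ofHom ψ)) η) := by
  letI : Algebra RY RX := ψ.toAlgebra
  haveI : IsLocalHom (algebraMap RY RX) := ‹IsLocalHom ψ›
  letI : Algebra RY K := (Spec.preimage η).hom.toAlgebra
  have hη : η = Spec.map (CommRingCat.ofHom (algebraMap RY K)) := (Spec.map_preimage η).symm
  rw [hη]
  haveI := hRY.henselian
  haveI := hRY.isSepClosure
  haveI : IsSepClosed (ResidueField RY) := IsSepClosure.sep_closed (ResidueField (Y.presheaf.stalk (g.base x)))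
  exact connectedSpace_pullback_of_integralClosure RY RX K fun A _ _ _ _ _ _ _ _ _ F _ _ _ _ _ halg => by
    refine connectedSpace_genericFibre A (RX ⊗[RY] A) ?_ F
    rw [halg]
    exact isZeroAcyclic_tensor hg x RY RX hψ A

end GrothLib.LocAcyc
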