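import Groth.Agent.Lib.LocAcyc.UnitConn
import Groth.Agent.Lib.EtSec.ConnFibres
import Groth.Prelude.Def_EtAcyc
import Mathlib.AlgebraicGeometry.Morphisms.QuasiCompact
import Mathlib.RingTheory.Ideal.GoingUp

/-!
# Units and relative sections; (-1)-acyclicity and surjectivity
-/

universe u

open CategoryTheory CategoryTheory.Limits AlgebraicGeometry Opposite
open GrothLib.EtSite

set_option backward.isDefEq.respectTransparency.types false

noncomputable section

namespace GrothLib.LocAcyc

open GrothLib.EtSec

variable {Z Y : Scheme.{u}} (p : Z ⟶ Y) (F : EtDesc.Sh Y)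

/-- The unit on sections over an etale scheme is restriction of relative sections. -/
theorem res_comp_secOf (U : Y.Etale) :
    (fun s : Secs U.hom F => s.res (pullback.fst U.hom p) (bc_cond p U)) ∘ secOf F =
      toSecs p F ∘ ((EtDesc.adjSh p).unit.app F).hom.app (op U) :=
  funext fun t => ((toSecs_unit p F t).trans (ofSect_eq F _ _ t)).symm

/-- The unit is a monomorphism iff restrictions are injective. -/
theorem mono_unit_of_res_injective
    (hb : ∀ U : Y.Etale, Function.Injective fun s : Secs U.hom F => s.res (pullback.fst U.hom p) (bc_cond p U)) :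
    Mono ((EtDesc.adjSh p).unit.app F) := by
  let α := (EtDesc.adjSh p).unit.app F
  haveI : ∀ U, Mono (((sheafToPresheaf _ _).map α).app U) := fun ⟨U⟩ => by
    refine (mono_iff_injective _).2 fun t t' h => ?_
    have h' : toSecs p F (α.hom.app (op U) t) = toSecs p F (α.hom.app (op U) t') := congrArg _ h
    have e := res_comp_secOf p F U
    exact secOf_injective F U (hb U ((congrFun e t).trans (h'.trans (congrFun e t').symm)))
  haveI : Mono ((sheafToPresheaf _ _).map α) := NatTrans.mono_of_mono_app _
  exact (sheafToPresheaf _ _).mono_of_mono_map ‹_›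

/-- The unit is an isomorphism if restrictions are bijective. -/
theorem isIso_unit_of_res_bijective
    (hb : ∀ U : Y.Etale, Function.Bijective fun s : Secs U.hom F => s.res (pullback.fst U.hom p) (bc_cond p U)) :
    IsIso ((EtDesc.adjSh p).unit.app F) := by
  let α := (EtDesc.adjSh p).unit.app F
  haveI : ∀ U, IsIso (((sheafToPresheaf _ _).map α).app U) := fun ⟨U⟩ => by
    refine (isIso_iff_bijective _).2 ?_
    refine (Function.Bijective.of_comp_iff' (toSecs_bijective p F _) _).1 ?_
    rw [show toSecs p F ∘ (ConcreteCategory.hom (((sheafToPresheaf _ _).map α).app (op U)) : _ → _) =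
      _ ∘ secOf F from (res_comp_secOf p F U).symm]
    exact (hb U).comp (secOf_bijective F U)
  haveI : IsIso ((sheafToPresheaf _ _).map α) := NatIso.isIso_of_isIso_app _
  exact isIso_of_reflects_iso α (sheafToPresheaf _ _)

theorem res_injective_of_mono_unit [Mono ((EtDesc.adjSh p).unit.app F)] (U : Y.Etale) :
    Function.Injective fun s : Secs U.hom F => s.res (pullback.fst U.hom p) (bc_cond p U) := by
  let α := (EtDesc.adjSh p).unit.app F
  have hα : Function.Injective (α.hom.app (op U)) := by
    haveI : Mono ((sheafToPresheaf _ _).map α) := inferInstance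
    haveI : Mono (((sheafToPresheaf _ _).map α).app (op U)) := inferInstance
    exact (mono_iff_injective _).1 (inferInstance : Mono (((sheafToPresheaf _ _).map α).app (op U)))
  have h := (toSecs_bijective p F _).1.comp hα
  rw [← res_comp_secOf p F U] at h
  exact (Function.Injective.of_comp_iff' _ (secOf_bijective F U)).1 h

/-- A point outside the image of a quasi-compact morphism has an open neighbourhood whose part
above the point misses the image. -/
theorem exists_open_disjoint_range (g : Z ⟶ Y) [QuasiCompact g] {y : Y} (hy : y ∉ Set.range g.base) :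
    ∃ W : Y.Opens, y ∈ W ∧ ∀ z : Z, g.base z ∈ W → ¬ y ⤳ g.base z := by
  obtain ⟨_, ⟨V, hV, rfl⟩, hyV, -⟩ :=
    Y.isBasis_affineOpens.exists_subset_of_mem_open (Set.mem_univ y) isOpen_univ
  have hc : IsCompact ((g ⁻¹ᵁ V : Z.Opens) : Set Z) := g.isCompact_preimage hV.isCompact
  obtain ⟨s, hs, hsV⟩ := (isCompact_iff_finite_and_eq_biUnion_affineOpens).1 hc
  haveI := hs.to_subtype
  let pV := hV.primeIdealOf ⟨y, hyV⟩
  have hg : ∀ U : s, ∃ a : Γ(Y, V), a ∉ pV.asIdeal ∧
      ∀ z ∈ (U.1.1 : Z.Opens), y ⤳ g.base z → g.base z ∉ Y.basicOpen a := fun ⟨U, hU⟩ => by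
    have hle : (U.1 : Z.Opens) ≤ g ⁻¹ᵁ V := fun z hz => by
      rw [← SetLike.mem_coe, hsV]; simp only [TopologicalSpace.Opens.coe_iSup, Set.mem_iUnion]; exact ⟨U, hU, hz⟩
    let φ := (g.appLE V U.1 hle).hom
    have hne : ¬ (pV.asIdeal.map φ).comap φ = pV.asIdeal := fun h => by
      obtain ⟨q, hq, hqp⟩ := (Ideal.comap_map_eq_self_iff_of_isPrime _).1 h
      let z : Z := U.2.fromSpec ⟨q, hq⟩
      have hz : g.base z = y := by
        have e := congrArg (fun k : Spec Γ(Z, U.1) ⟶ Y => k.base ⟨q, hq⟩) (IsAffineOpen.SpecMap_appLE_fromSpec g hV U.2 hle)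
        refine e.symm.trans (Eq.trans (congrArg hV.fromSpec.base ?_) (hV.fromSpec_primeIdealOf ⟨y, hyV⟩))
        exact PrimeSpectrum.ext hqp
      exact hy ⟨z, hz⟩
    obtain ⟨a, ha, hap⟩ : ∃ a, a ∈ (pV.asIdeal.map φ).comap φ ∧ a ∉ pV.asIdeal := by
      by_contra h
      push Not at h
      exact hne (le_antisymm h Ideal.le_comap_map)
    refine ⟨a, hap, fun z hz hyz hza => ?_⟩
    let q := U.2.primeIdealOf ⟨z, hz⟩
    have hqz : U.2.fromSpec q = z := U.2.fromSpec_primeIdealOf ⟨z, hz⟩
    let r : Spec Γ(Y, V) := (Spec.map (g.appLE V U.1 hle)).base q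
    have hr : hV.fromSpec r = g.base z := by
      have e := congrArg (fun k : Spec Γ(Z, U.1) ⟶ Y => k.base q) (IsAffineOpen.SpecMap_appLE_fromSpec g hV U.2 hle)
      exact e.trans (congrArg g.base hqz)
    have hle' : pV.asIdeal ≤ r.asIdeal := by
      have : pV ⤳ r := by
        refine hV.fromSpec.isOpenEmbedding.isInducing.specializes_iff.1 ?_
        show hV.fromSpec pV ⤳ hV.fromSpec r
        rw [hr]
        exact (hV.fromSpec_primeIdealOf ⟨y, hyV⟩).symm ▸ hyz
      exact (PrimeSpectrum.le_iff_specializes pV r).2 this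
    have hra : a ∈ r.asIdeal :=
      (Ideal.map_le_iff_le_comap.2 hle' : pV.asIdeal.map φ ≤ q.asIdeal) ha
    rw [← hr] at hza
    exact ((IsAffineOpen.fromSpec_preimage_basicOpen hV a).le (show r ∈ hV.fromSpec ⁻¹ᵁ Y.basicOpen a from hza)) hra
  choose a ha hb using hg
  classical
  haveI := Fintype.ofFinite s
  refine ⟨Y.basicOpen (∏ U, a U), ?_, fun z hz hyz => ?_⟩
  · refine Eq.subst (motive := fun w => w ∈ Y.basicOpen _) (hV.fromSpec_primeIdealOf ⟨y, hyV⟩) ?_
    show pV ∈ hV.fromSpec ⁻¹ᵁ Y.basicOpen (∏ U, a U)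
    rw [IsAffineOpen.fromSpec_preimage_basicOpen hV]
    exact fun h => by
      obtain ⟨U, -, hU⟩ := (Ideal.IsPrime.prod_mem_iff (hp := pV.isPrime)).1 h
      exact ha U hU
  · have hzV : z ∈ ((g ⁻¹ᵁ V : Z.Opens) : Set Z) := Y.basicOpen_le _ hz
    rw [hsV] at hzV
    simp only [TopologicalSpace.Opens.coe_iSup, Set.mem_iUnion] at hzV
    obtain ⟨U, hU, hzU⟩ := hzV
    refine hb ⟨U, hU⟩ z hzU hyz ?_
    have : Y.basicOpen (∏ U, a U) ≤ Y.basicOpen (a ⟨U, hU⟩) := by
      rw [← Finset.mul_prod_erase Finset.univ a (Finset.mem_univ ⟨U, hU⟩), Scheme.basicOpen_mul]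
      exact inf_le_left
    exact this hz

/-- A morphism with injective restrictions for the sheaves on an open misses no point. -/
theorem range_of_isMinusOneAcyclic (g : Z ⟶ Y) [QuasiCompact g] (hg : EtAcyc.IsMinusOneAcyclic g) :
    Function.Surjective g.base := by
  classical
  intro y
  by_contra hy
  obtain ⟨W, hyW, hW⟩ := exists_open_disjoint_range g (y := y) hy
  let V : Y.Etale := Scheme.Etale.mk W.ι
  obtain ⟨Ω, _, _, ι, hι⟩ := Secs.exists_point (Z := V.left) (⟨y, hyW⟩ : ↥V.left)
  let M : AddCommGrpCat.{u + 1} := AddCommGrpCat.of (ULift.{u + 1} (ZMod 2))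
  let S := Spec (CommRingCat.of Ω)
  let G : EtCoh.Ab S := (constantSheaf S.smallEtaleTopology AddCommGrpCat.{u + 1}).obj M
  let F₀ := forgetSh G
  let c : M → EtCoh.sect G (EtCoh.top S) := fun m => (EtCore.constAdj S).unit.app M m
  have hc : Function.Injective c := fun a b h =>
    (LocConst.bijective_germ_const (X := S) (𝟙 S) M).1
      (congrArg (germ (𝟙 S) G (LocConst.topFib (𝟙 S))) h)
  let F : EtDesc.Sh V.left := (EtDesc.pushSh ι).obj F₀
  let T : V.left.Etale := EtCoh.top V.left
  let T' : S.Etale := (EtCoh.bc ι).obj T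
  let r : T' ⟶ EtCoh.top S := (EtCore.topIsTerminal S).from T'
  let c' : M → EtDesc.sect F T := fun m => F₀.obj.map r.op (c m)
  have hc' : Function.Injective c' := fun a b h => by
    haveI : IsIso T.hom := (inferInstance : IsIso (𝟙 V.left))
    have hr : r.left = pullback.snd T.hom ι := (Category.comp_id r.left).symm.trans (hom_left r)
    haveI : Surjective r.left := by
      rw [hr]; exact (inferInstance : Surjective (pullback.snd T.hom ι))
    refine hc (secOf_injective F₀ _ (res_injective (hom_left r) ?_))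
    show (secOf F₀ (c a)).res r.left (hom_left r) = (secOf F₀ (c b)).res r.left (hom_left r)
    rw [← secOf_map, ← secOf_map]
    exact congrArg (secOf F₀) h
  haveI := hg V F
  let pr := EtAcyc.prj g V
  have hinj := res_injective_of_mono_unit pr F T
  have key : ∀ m m' : M, (secOf F (c' m)).res (pullback.fst T.hom pr) (bc_cond pr T) =
      (secOf F (c' m')).res (pullback.fst T.hom pr) (bc_cond pr T) := fun m m' => by
    refine Secs.eq_of_eqLocus _ _ fun w => ?_
    obtain ⟨Ω', _, _, q, rfl⟩ := Secs.exists_point w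
    let l : Spec (CommRingCat.of Ω') ⟶ T.left := q ≫ pullback.fst T.hom pr
    refine (Secs.mem_eqLocus_iff _ _ q _ rfl).2 ?_
    have hlT : l ≫ T.hom = q ≫ ((EtCoh.bc pr).obj T).hom ≫ pr :=
      (Category.assoc _ _ _).trans (congrArg (q ≫ ·) pullback.condition)
    show (secOf F (c' m)).val Ω' l _ hlT = (secOf F (c' m')).val Ω' l _ hlT
    rw [secOf_val, secOf_val]
    -- the image avoids the closure of the point
    let v : V.left := l.base default
    let z : Z := (pullback.snd V.hom g).base ((pullback.snd T.hom pr).base (q.base default))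
    have hv : V.hom.base v = g.base z := by
      have e : (pullback.fst T.hom pr ≫ V.hom : pullback T.hom pr ⟶ Y) =
          pullback.snd T.hom pr ≫ pullback.snd V.hom g ≫ g := by
        have e1 : pullback.fst T.hom pr = pullback.snd T.hom pr ≫ pr :=
          (Category.comp_id _).symm.trans pullback.condition
        exact (congrArg (fun k : pullback T.hom pr ⟶ V.left => k ≫ V.hom) e1).trans
          ((Category.assoc _ _ _).trans (congrArg (pullback.snd T.hom pr ≫ ·) pullback.condition))
      exact congrArg (fun k : pullback T.hom pr ⟶ Y => k.base (q.base default)) e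
    have hzW : g.base z ∈ W := hv ▸ (show (W.ι.base v) ∈ W from v.2)
    have hns : v ∉ closure {ι.base default} := fun h => by
      refine hW z hzW ?_
      rw [← hv]
      have hs : ι.base default ⤳ v := specializes_iff_mem_closure.2 h
      have := hs.map V.hom.continuous
      rw [hι] at this
      exact this
    let N : V.left.Opens := ⟨(closure {ι.base default})ᶜ, isClosed_closure.isOpen_compl⟩
    let U : V.left.Etale := Scheme.Etale.mk N.ι
    let k : U ⟶ T := (EtCore.topIsTerminal V.left).from U
    obtain ⟨l', hl', -⟩ := exists_lift N.ι l (⟨v, hns⟩ : ↥N) rfl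
    have hkl : l' ≫ k.left = l := by
      have : k.left = N.ι := (Category.comp_id k.left).symm.trans (hom_left k)
      exact (congrArg (l' ≫ ·) this).trans hl'
    have hU : ∀ t t' : EtDesc.sect F U, t = t' := fun t t' => by
      refine secOf_injective F₀ ((EtCoh.bc ι).obj U) (Secs.eq_of_eqLocus _ _ fun w => ?_)
      exfalso
      have e : N.ι.base ((pullback.fst U.hom ι).base w) = ι.base ((pullback.snd U.hom ι).base w) :=
        congrArg (fun k : pullback U.hom ι ⟶ V.left => k.base w) pullback.condition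
      rw [Subsingleton.elim ((pullback.snd U.hom ι).base w) default] at e
      exact ((pullback.fst U.hom ι).base w).2 (e ▸ subset_closure rfl)
    have hmap : ∀ t : EtDesc.sect F T, ∀ hh : l ≫ T.hom = (q ≫ ((EtCoh.bc pr).obj T).hom ≫ pr),
        gSh F l hh t = gSh F l' ((congrArg (l' ≫ ·) (hom_left k)).symm.trans ((Category.assoc _ _ _).symm.trans
          ((congrArg (fun j : Spec (CommRingCat.of Ω') ⟶ T.left => j ≫ T.hom) hkl).trans hh))) (F.obj.map k.op t) :=
      fun t hh => (gSh_congr hkl.symm hh (hkl.symm ▸ hh) t).trans (gSh_map k l' _ _ t).symm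
    rw [hmap _ _, hmap _ _, hU (F.obj.map k.op (c' m)) (F.obj.map k.op (c' m'))]
  exact zero_ne_one (congrArg ULift.down (hc' (secOf_injective F T (hinj (key ⟨0⟩ ⟨1⟩)))))

/-- Surjective morphisms are (-1)-acyclic. -/
theorem isMinusOneAcyclic_of_surjective (g : Z ⟶ Y) (hg : Function.Surjective g.base) :
    EtAcyc.IsMinusOneAcyclic g := fun V F => by
  haveI : Surjective g := ⟨hg⟩
  refine mono_unit_of_res_injective _ F fun U => ?_
  haveI : Surjective (EtAcyc.prj g V) := MorphismProperty.pullback_fst _ _ ‹Surjective g›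
  haveI : Surjective (pullback.fst U.hom (EtAcyc.prj g V)) :=
    MorphismProperty.pullback_fst _ _ ‹Surjective (EtAcyc.prj g V)›
  exact res_injective (bc_cond (EtAcyc.prj g V) U)

end GrothLib.LocAcyc
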