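import Groth.Agent.Lib.LocAcyc.Divide
import Groth.Agent.Lib.LocAcyc.Fibre
import Groth.Agent.Lib.LocAcyc.Unit
import Groth.Agent.Lib.EtSec.LocConn
import Groth.Agent.Lib.EtSec.HullWE
import Groth.Agent.Lib.SmoothConn.Smooth
import Groth.Agent.Lib.WeakEtale.Basic

/-!
# Local zero-acyclicity from divisible affine charts
-/

universe u

open CategoryTheory CategoryTheory.Limits AlgebraicGeometry Opposite IsLocalRing
open GrothLib.EtSec
open scoped TensorProduct

set_option backward.isDefEq.respectTransparency.types false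

noncomputable section

namespace GrothLib.LocAcyc

/-- Universally generalizing surjective quasi-compact morphisms with connected geometric fibres are zero-acyclic. -/
theorem isZeroAcyclic_of_uGen {X Y : Scheme.{u}} (f : X ⟶ Y) [QuasiCompact f] [Surjective f] (hu : UGen f)
    (hc : HasConnectedFibres f) : EtAcyc.IsZeroAcyclic f := fun V F => by
  refine isIso_unit_of_res_bijective _ F fun U => ?_
  let p := pullback.fst V.hom f
  have sq : IsPullback (pullback.snd U.hom p ≫ pullback.snd V.hom f) (pullback.fst U.hom p) f (U.hom ≫ V.hom) :=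
    (IsPullback.of_hasPullback U.hom p).flip.paste_horiz (IsPullback.of_hasPullback V.hom f).flip
  let a := pullback.fst U.hom p
  haveI : QuasiCompact a := MorphismProperty.of_isPullback sq ‹_›
  haveI : Surjective a := MorphismProperty.of_isPullback sq ‹_›
  have hua : UGen a := hu.of_isPullback sq
  refine res_bijective (fun W w _ => ?_) (fun Ω _ _ s => ?_) _
  · exact (hua.of_isPullback (IsPullback.of_hasPullback a w)).isQuotientMap
  · haveI := hc Ω (s ≫ U.hom ≫ V.hom)
    have sq' := (IsPullback.of_hasPullback a s).paste_horiz sq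
    exact sq'.isoPullback.inv.homeomorph.surjective.connectedSpace sq'.isoPullback.inv.continuous

/-- A dichotomy for almost idempotents gives a connected generic fibre. -/
theorem connectedSpace_fractionRing_tensor (A B : Type u) [CommRing A] [IsDomain A] [CommRing B]
    [Algebra A B] (hne : ∀ t : A, t ≠ 0 → algebraMap A B t ≠ 0)
    (hw : ∀ t : A, t ≠ 0 → ∀ w : B, w * w = algebraMap A B t * w → IsNilpotent w ∨ IsNilpotent (algebraMap A B t - w))
    (F : Type u) [CommRing F] [Algebra A F] [IsFractionRing A F] :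
    ConnectedSpace (PrimeSpectrum (F ⊗[A] B)) := by
  let L : B →ₗ[A] F ⊗[A] B := TensorProduct.mk A F B 1
  haveI : IsLocalizedModule (nonZeroDivisors A) L :=
    IsLocalization.tensorProduct_isLocalizedModule (nonZeroDivisors A) F
  haveI : Nontrivial (F ⊗[A] B) := nontrivial_of_ne 1 0 fun h => by
    obtain ⟨⟨t, ht⟩, ht'⟩ := (IsLocalizedModule.eq_zero_iff (nonZeroDivisors A) L).1 (h : L 1 = 0)
    exact hne t (nonZeroDivisors.ne_zero ht) ((Algebra.algebraMap_eq_smul_one t).trans ht')
  refine connectedSpace_of_idempotents fun e he => ?_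
  obtain ⟨⟨w, m, hm⟩, hw'⟩ := IsLocalizedModule.surj (nonZeroDivisors A) L e
  have hme : m • e = (1 : F) ⊗ₜ[A] w := hw'
  have hmm : algebraMap A (F ⊗[A] B) m * e = (1 : F) ⊗ₜ[A] w := by rw [← Algebra.smul_def]; exact hme
  have hA : ∀ a : A, algebraMap A (F ⊗[A] B) a = (1 : F) ⊗ₜ[A] algebraMap A B a := fun a =>
    Algebra.TensorProduct.algebraMap_apply' a
  obtain ⟨⟨t, ht⟩, ht'⟩ := (IsLocalizedModule.eq_zero_iff (nonZeroDivisors A) L).1
      (show L (w * w - algebraMap A B m * w) = 0 by
    show (1 : F) ⊗ₜ[A] (w * w - algebraMap A B m * w) = 0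
    have h2 : ((1 : F) ⊗ₜ[A] w) * ((1 : F) ⊗ₜ[A] w) = ((1 : F) ⊗ₜ[A] algebraMap A B m) * ((1 : F) ⊗ₜ[A] w) := by
      rw [← hmm, ← hA, mul_mul_mul_comm, he, mul_assoc]
    simp only [Algebra.TensorProduct.tmul_mul_tmul, one_mul] at h2
    rw [TensorProduct.tmul_sub, h2, sub_self])
  have h1 : algebraMap A B t * (w * w - algebraMap A B m * w) = 0 := (Algebra.smul_def _ _).symm.trans ht'
  have hu : IsUnit (algebraMap A (F ⊗[A] B) (t * m)) := by
    rw [Algebra.TensorProduct.algebraMap_apply]
    exact (IsLocalization.map_units F (⟨t * m, mul_mem ht hm⟩ : nonZeroDivisors A)).map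
      (Algebra.TensorProduct.includeLeftRingHom : F →+* F ⊗[A] B)
  let ι : B →+* F ⊗[A] B := (Algebra.TensorProduct.includeRight (R := A) (A := F) (B := B)).toRingHom
  have hι : ι (algebraMap A B t * w) = algebraMap A (F ⊗[A] B) (t * m) * e := by
    rw [map_mul, map_mul, mul_assoc, hmm, hA]; rfl
  have hι' : ι (algebraMap A B (t * m)) = algebraMap A (F ⊗[A] B) (t * m) := (hA _).symm
  have hm0 : t * m ≠ 0 := nonZeroDivisors.ne_zero (mul_mem ht hm)
  rcases hw (t * m) hm0 (algebraMap A B t * w) (by rw [map_mul]; linear_combination algebraMap A B t * h1) with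
    ⟨n, hn⟩ | ⟨n, hn⟩
  · refine Or.inl (IsIdempotentElem.eq_zero_of_isNilpotent he ⟨n, ?_⟩)
    refine (hu.pow n).mul_right_eq_zero.1 ?_
    rw [← mul_pow, ← hι, ← map_pow, hn, map_zero]
  · refine Or.inr (sub_eq_zero.1 (IsIdempotentElem.eq_zero_of_isNilpotent (IsIdempotentElem.one_sub he) ⟨n, ?_⟩)).symm
    refine (hu.pow n).mul_right_eq_zero.1 ?_
    rw [← mul_pow, mul_sub, mul_one, ← hι, ← hι', ← map_sub, ← map_pow, hn, map_zero]

/-- The morphism from the spectrum of a strict henselization is weakly etale. -/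
theorem weaklyEtale_strictHenselization (O RS : Type u) [CommRing O] [IsLocalRing O] [CommRing RS] [IsLocalRing RS]
    [Algebra O RS] [IsLocalHom (algebraMap O RS)] [_root_.Hensel.IsStrictHenselization O RS] :
    WeaklyEtale (Spec.map (CommRingCat.ofHom (algebraMap O RS))) := by
  haveI : IsLocalization.AtPrime O (maximalIdeal O) :=
    IsLocalization.self fun x hx => IsLocalRing.notMem_maximalIdeal.1 hx
  obtain ⟨C, _, _, e, he, -⟩ := SmoothConn.exists_ringEquiv_hull O O RS (maximalIdeal O)
  haveI := EtSec.weaklyEtale_hull O C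
  haveI : WeaklyEtale (Spec.map (CommRingCat.ofHom (algebraMap O (GrothLib.Hensel.Hull O C)))) :=
    WeakEtale.algebra_iff_specMap.2 inferInstance
  have h : CommRingCat.ofHom (algebraMap O RS) =
      CommRingCat.ofHom (algebraMap O (GrothLib.Hensel.Hull O C)) ≫ e.symm.toCommRingCatIso.hom := by
    refine CommRingCat.hom_ext (RingHom.ext fun r => ?_)
    show _ = e.symm (algebraMap O (GrothLib.Hensel.Hull O C) r)
    rw [← he r, e.symm_apply_apply]
    rfl
  rw [h, Spec.map_comp]
  infer_instance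

/-- The image of the closed point under a local morphism to a stalk. -/
theorem base_closedPoint {Z : Scheme.{u}} (y : Z) {A : Type u} [CommRing A] [IsLocalRing A]
    (φ : Z.presheaf.stalk y →+* A) [IsLocalHom φ] (b : Spec (CommRingCat.of A) ⟶ Z)
    (hb : b = Spec.map (CommRingCat.ofHom φ) ≫ Z.fromSpecStalk y) : b.base (closedPoint A) = y := by
  subst hb
  show Z.fromSpecStalk y ((Spec.map (CommRingCat.ofHom φ)).base (closedPoint A)) = y
  refine (congrArg (Z.fromSpecStalk y) ?_).trans Scheme.fromSpecStalk_closedPoint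
  exact PrimeSpectrum.ext (((local_hom_TFAE φ).out 0 4).1 ‹_›)

/-- A chart of a pullback. -/
theorem exists_openImmersion_chart {P U V T X Y W : Scheme.{u}} {pU : P ⟶ U} {pT : P ⟶ T} {f : U ⟶ V} {a : T ⟶ V}
    (sq : IsPullback pU pT f a) {g : X ⟶ Y} {b : T ⟶ Y} {wX : W ⟶ X} {wT : W ⟶ T} (sqW : IsPullback wX wT g b)
    (iU : U ⟶ X) [IsOpenImmersion iU] (iV : V ⟶ Y) [Mono iV] (hf : f ≫ iV = iU ≫ g) (ha : a ≫ iV = b) :
    ∃ j : P ⟶ W, IsOpenImmersion j ∧ j ≫ wT = pT ∧ ∀ w, wX.base w ∈ Set.range iU.base → w ∈ Set.range j.base := by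
  let m := pullback.map f a g b iU (𝟙 T) iV hf (by rw [ha, Category.id_comp])
  refine ⟨sq.isoPullback.hom ≫ m ≫ sqW.isoPullback.inv, inferInstance, ?_, fun w hw => ?_⟩
  · rw [Category.assoc, Category.assoc, sqW.isoPullback_inv_snd]
    exact (congrArg (sq.isoPullback.hom ≫ ·) ((pullback.lift_snd _ _ _).trans (Category.comp_id _))).trans
      sq.isoPullback_hom_snd
  · obtain ⟨s, hs⟩ : sqW.isoPullback.hom.base w ∈ Set.range m.base := by
      rw [Scheme.Pullback.range_map]
      refine ⟨?_, ⟨_, rfl⟩⟩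
      show (pullback.fst g b).base (sqW.isoPullback.hom.base w) ∈ Set.range iU.base
      rwa [show (pullback.fst g b).base (sqW.isoPullback.hom.base w) = wX.base w from
        congrArg (fun k : W ⟶ X => k.base w) sqW.isoPullback_hom_fst]
    refine ⟨sq.isoPullback.inv.base s, ?_⟩
    show sqW.isoPullback.inv.base (m.base (sq.isoPullback.hom.base (sq.isoPullback.inv.base s))) = w
    rw [show sq.isoPullback.hom.base (sq.isoPullback.inv.base s) = s from
      congrArg (fun k : pullback f a ⟶ pullback f a => k.base s) sq.isoPullback.inv_hom_id, hs]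
    exact congrArg (fun k : W ⟶ W => k.base w) sqW.isoPullback.hom_inv_id

/-- Divisibility of almost idempotents in etale algebras. -/
def Divisible {A P : Type u} [CommRing A] [CommRing P] (iA : A →+* P) : Prop :=
  ∀ t : A, t ≠ 0 → IsSMulRegular P (iA t) ∧
    ∀ (E : Type u) [CommRing E] [Algebra P E] [Algebra.Etale P E] (b : E),
      b * b = algebraMap P E (iA t) * b → b ∈ Ideal.span {algebraMap P E (iA t)}

/-- Divisibility up to a surjection with nil kernel. -/
def NilDivisible {A P : Type u} [CommRing A] [CommRing P] (iA : A →+* P) : Prop :=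
  ∃ (P' : Type u) (_ : CommRing P') (π : P →+* P'), Function.Surjective π ∧ (∀ x, π x = 0 → IsNilpotent x) ∧
    Divisible (π.comp iA)

theorem Divisible.nil {A P : Type u} [CommRing A] [CommRing P] {iA : A →+* P} (h : Divisible iA) : NilDivisible iA :=
  ⟨P, inferInstance, RingHom.id P, Function.surjective_id, fun _ hx => ⟨1, (pow_one _).trans hx⟩, h⟩

/-- A surjection with nil kernel keeps this property in any algebra. -/
theorem isNilpotent_of_tmul_eq_zero {P P' M : Type u} [CommRing P] [CommRing P'] [CommRing M] [Algebra P P'] [Algebra P M]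
    (hs : Function.Surjective (algebraMap P P')) (hk : ∀ x, algebraMap P P' x = 0 → IsNilpotent x)
    (m : M) (h : (1 : P') ⊗ₜ[P] m = 0) : IsNilpotent m := by
  refine nilpotent_iff_mem_prime.2 fun q hq => ?_
  let g : P →+* M ⧸ q := algebraMap P (M ⧸ q)
  have hg : RingHom.ker (algebraMap P P') ≤ RingHom.ker g := fun x hx =>
    ((hk x hx).map g).eq_zero
  let g' : P' →ₐ[P] M ⧸ q :=
    { RingHom.liftOfSurjective (algebraMap P P') hs ⟨g, hg⟩ with
      commutes' := fun r => RingHom.liftOfRightInverse_comp_apply (algebraMap P P') _ _ ⟨g, hg⟩ r }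
  have h1 := congrArg (Algebra.TensorProduct.lift g' (Ideal.Quotient.mkₐ P q) (fun _ _ => Commute.all _ _)) h
  rw [Algebra.TensorProduct.lift_tmul, map_one, one_mul, map_zero] at h1
  exact Ideal.Quotient.eq_zero_iff_mem.1 h1

/-- A morphism has, around every point, affine charts whose base changes to strictly henselian normal
domains with algebraically closed fraction field are divisible. -/
def HasDivisibleCharts {X Y : Scheme.{u}} (g : X ⟶ Y) : Prop :=
  ∀ x : X, ∃ (V : Y.Opens) (hV : IsAffineOpen V) (U : X.Opens) (hU : IsAffineOpen U) (hUV : U ≤ g ⁻¹ᵁ V),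
    x ∈ U ∧ ∀ (A : Type u) [CommRing A] [IsDomain A] [IsIntegrallyClosed A] [IsLocalRing A]
      (F : Type u) [Field F] [IsAlgClosed F] [Algebra A F] [IsFractionRing A F] (φ : Γ(Y, V) →+* A),
      ∃ (P : Type u) (_ : CommRing P) (iC : Γ(X, U) →+* P) (iA : A →+* P),
        IsPullback (Spec.map (CommRingCat.ofHom iC)) (Spec.map (CommRingCat.ofHom iA))
          (Spec.map (g.appLE V U hUV)) (Spec.map (CommRingCat.ofHom φ)) ∧ NilDivisible iA

open GrothLib.Hensel in
/-- In a hull of a nil-divisible family, the parameters stay non-zero. -/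
theorem algebraMap_hull_ne_zero {A P : Type u} [CommRing A] [CommRing P] (iA : A →+* P) (hdiv : NilDivisible iA)
    {C : Type u} [Field C] [Algebra P C] [IsLocalRing (Hull P C)] {t : A} (ht : t ≠ 0) :
    algebraMap P (Hull P C) (iA t) ≠ 0 := fun h => by
  obtain ⟨P', _, π, hs, hk, hdiv⟩ := hdiv
  letI : Algebra P P' := π.toAlgebra
  obtain ⟨N, a, -⟩ := Hull.exists_ι (1 : Hull P C)
  obtain ⟨M, f, hf⟩ := Hull.exists_map_eq_zero (a := algebraMap P N.Ring (iA t)) (by rw [AlgHom.commutes, h])
  rw [AlgHom.commutes] at hf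
  obtain ⟨hreg, -⟩ := hdiv t ht
  have hT : IsSMulRegular (P' ⊗[P] M.Ring) (algebraMap P' (P' ⊗[P] M.Ring) (π (iA t))) :=
    IsSMulRegular.of_flat (R := P') (S := P' ⊗[P] M.Ring) (x := π (iA t)) hreg
  have h0 : algebraMap P' (P' ⊗[P] M.Ring) (π (iA t)) = 0 :=
    ((IsScalarTower.algebraMap_apply P P' (P' ⊗[P] M.Ring) (iA t)).symm.trans
      (Algebra.TensorProduct.algebraMap_apply' (iA t))).trans (by rw [hf, TensorProduct.tmul_zero])
  have h1 : (1 : P') ⊗ₜ[P] (1 : M.Ring) = 0 := hT (by
    show algebraMap P' (P' ⊗[P] M.Ring) (π (iA t)) * ((1 : P') ⊗ₜ[P] (1 : M.Ring)) =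
      algebraMap P' (P' ⊗[P] M.Ring) (π (iA t)) * (0 : P' ⊗[P] M.Ring)
    linear_combination ((1 : P') ⊗ₜ[P] (1 : M.Ring)) * h0)
  obtain ⟨n, hn⟩ := isNilpotent_of_tmul_eq_zero (P' := P') hs hk _ h1
  exact one_ne_zero (α := Hull P C) (((congrArg (Hull.ι M) hn).trans (map_zero _)) ▸ by rw [one_pow, map_one])

open GrothLib.Hensel in
/-- In a hull of a nil-divisible family, a solution of `w * w = t * w` is `0` or `t` up to nilpotents. -/
theorem eq_zero_or_eq_of_hull' {A P : Type u} [CommRing A] [CommRing P] (iA : A →+* P) (hdiv : NilDivisible iA)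
    {C : Type u} [Field C] [Algebra P C] [IsLocalRing (Hull P C)] {t : A} (ht : t ≠ 0) (w : Hull P C)
    (h : w * w = algebraMap P _ (iA t) * w) : IsNilpotent w ∨ IsNilpotent (algebraMap P _ (iA t) - w) := by
  obtain ⟨P', _, π, hs, hk, hdiv⟩ := hdiv
  letI : Algebra P P' := π.toAlgebra
  obtain ⟨N, a, rfl⟩ := Hull.exists_ι w
  obtain ⟨M, f, hf⟩ := Hull.exists_map_eq_zero (a := a * a - algebraMap P N.Ring (iA t) * a)
    (by rw [map_sub, map_mul, map_mul, AlgHom.commutes, h, sub_self])
  rw [map_sub, map_mul, map_mul, AlgHom.commutes, sub_eq_zero] at hf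
  obtain ⟨hreg, hmem⟩ := hdiv t ht
  let q : M.Ring →+* P' ⊗[P] M.Ring :=
    (Algebra.TensorProduct.includeRight (R := P) (A := P') (B := M.Ring)).toRingHom
  let T : P' ⊗[P] M.Ring := (Algebra.TensorProduct.includeLeftRingHom : P' →+* P' ⊗[P] M.Ring) (π (iA t))
  have hqT : q (algebraMap P M.Ring (iA t)) = T :=
    ((IsScalarTower.algebraMap_apply P P' (P' ⊗[P] M.Ring) (iA t)).symm.trans
      (Algebra.TensorProduct.algebraMap_apply' (iA t))).symm
  have hb : q (f.map a) * q (f.map a) = T * q (f.map a) :=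
    (map_mul q _ _).symm.trans ((congrArg q hf).trans ((map_mul q _ _).trans (congrArg (· * q (f.map a)) hqT)))
  obtain ⟨c', hc'⟩ := Ideal.mem_span_singleton'.1 (hmem (P' ⊗[P] M.Ring) (q (f.map a)) hb)
  obtain ⟨c, hc⟩ := Algebra.TensorProduct.includeRight_surjective (R := P) (S := P') (T := M.Ring) hs c'
  have hc : q c = c' := hc
  have hT : IsSMulRegular (P' ⊗[P] M.Ring) T :=
    IsSMulRegular.of_flat (R := P') (S := P' ⊗[P] M.Ring) (x := π (iA t)) hreg
  have hidem : c' * c' = c' := hT (hT (by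
    show T * (T * (c' * c')) = T * (T * c')
    have hc'T : c' * T = q (f.map a) := hc'
    rw [← hc'T] at hb
    linear_combination hb))
  have h1 : IsNilpotent (Hull.ι M c * (1 - Hull.ι M c)) := by
    have := (isNilpotent_of_tmul_eq_zero (P' := P') hs hk (c * (1 - c)) (show q (c * (1 - c)) = 0 by
      rw [map_mul, map_sub, map_one, hc]; linear_combination -hidem)).map (Hull.ι M)
    rwa [map_mul, map_sub, map_one] at this
  have h2 : IsNilpotent (Hull.ι N a - Hull.ι M c * algebraMap P _ (iA t)) := by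
    have := (isNilpotent_of_tmul_eq_zero (P' := P') hs hk (f.map a - c * algebraMap P M.Ring (iA t))
      (show q (f.map a - c * algebraMap P M.Ring (iA t)) = 0 by
        rw [map_sub, map_mul, hqT, hc, sub_eq_zero]; exact hc'.symm)).map (Hull.ι M)
    rwa [map_sub, map_mul, Hull.ι_map, AlgHom.commutes] at this
  rcases IsLocalRing.isUnit_or_isUnit_one_sub_self (Hull.ι M c) with hu | hu
  · right
    have h3 : IsNilpotent (1 - Hull.ι M c) := (hu.isNilpotent_unit_mul_of_commute_iff (Commute.all _ _)).1 h1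
    have := (Commute.all _ _).isNilpotent_sub
      ((Commute.all (1 - Hull.ι M c) (algebraMap P (Hull P C) (iA t))).isNilpotent_mul_right h3) h2
    convert this using 1; ring
  · left
    have h3 : IsNilpotent (Hull.ι M c) := (hu.isNilpotent_mul_unit_of_commute_iff (Commute.all _ _)).1 h1
    have := (Commute.all _ _).isNilpotent_add h2
      ((Commute.all (Hull.ι M c) (algebraMap P (Hull P C) (iA t))).isNilpotent_mul_right h3)
    convert this using 1; ring

/-- The generic fibre of a strict henselization of a divisible family. -/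
theorem connectedSpace_of_stalk (A P B : Type u) [CommRing A] [IsDomain A] [CommRing P] [CommRing B]
    [IsLocalRing B] [Algebra A B] (iA : A →+* P) (hdiv : NilDivisible iA)
    (z : ↥(Spec (CommRingCat.of P)))
    [Algebra ((Spec (CommRingCat.of P)).presheaf.stalk z) B]
    [IsLocalHom (algebraMap ((Spec (CommRingCat.of P)).presheaf.stalk z) B)]
    (hH : _root_.Hensel.IsStrictHenselization ((Spec (CommRingCat.of P)).presheaf.stalk z) B)
    (hc : Spec.map (CommRingCat.ofHom (algebraMap ((Spec (CommRingCat.of P)).presheaf.stalk z) B)) ≫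
        (Spec (CommRingCat.of P)).fromSpecStalk z ≫ Spec.map (CommRingCat.ofHom iA) =
      Spec.map (CommRingCat.ofHom (algebraMap A B)))
    (F : Type u) [CommRing F] [Algebra A F] [IsFractionRing A F] :
    ConnectedSpace (PrimeSpectrum (F ⊗[A] B)) := by
  rw [Spec.fromSpecStalk_eq, ← Spec.map_comp, ← Spec.map_comp] at hc
  have hκ := congrArg CommRingCat.Hom.hom (Spec.map_injective hc)
  letI : Algebra P ((Spec (CommRingCat.of P)).presheaf.stalk z) :=
    (StructureSheaf.toStalk (CommRingCat.of P) z).hom.toAlgebra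
  haveI : IsLocalization.AtPrime ((Spec (CommRingCat.of P)).presheaf.stalk z) z.asIdeal :=
    StructureSheaf.IsLocalization.to_stalk (CommRingCat.of P) z
  obtain ⟨C, _, _, e, he, -⟩ := SmoothConn.exists_ringEquiv_hull P
    ((Spec (CommRingCat.of P)).presheaf.stalk z) B z.asIdeal
  have hκe : ∀ a : A, e (algebraMap A B a) = algebraMap P _ (iA a) := fun a =>
    (congrArg e (RingHom.congr_fun hκ a).symm).trans (he _)
  haveI : IsLocalRing (GrothLib.Hensel.Hull P C) := EtSec.SHull.isLocalRing
  haveI := EtSec.weaklyEtale_hull P C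
  refine connectedSpace_fractionRing_tensor A _ (fun t ht h0 => ?_) (fun t ht w hw => ?_) F
  · exact algebraMap_hull_ne_zero (C := C) iA hdiv ht (by rw [← hκe, h0, map_zero])
  · rcases eq_zero_or_eq_of_hull' iA hdiv ht (e w) (by rw [← map_mul, hw, map_mul, hκe]) with h | h
    · exact Or.inl (by simpa using h.map e.symm.toRingHom)
    · refine Or.inr ?_
      rw [← hκe, ← map_sub] at h
      simpa using h.map e.symm.toRingHom

section Fibre

variable {X Y X₁ Y₁ : Scheme.{u}} {g : X ⟶ Y} {g₁ : X₁ ⟶ Y₁} {bX : X₁ ⟶ X} {bY : Y₁ ⟶ Y}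

/-- Geometric fibres of strict localizations of base changes of morphisms over discrete bases. -/
theorem connectedSpace_fibre_of_charts (hd : HasDivisibleCharts g) (hsq : IsPullback bX g₁ g bY) (x : X₁) (RY : Type u) [CommRing RY]
    [IsLocalRing RY] [Algebra (Y₁.presheaf.stalk (g₁.base x)) RY]
    [IsLocalHom (algebraMap (Y₁.presheaf.stalk (g₁.base x)) RY)]
    [hRY : Hensel.IsStrictHenselization (Y₁.presheaf.stalk (g₁.base x)) RY]
    (RX : Type u) [CommRing RX] [IsLocalRing RX] [Algebra (X₁.presheaf.stalk x) RX]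
    [IsLocalHom (algebraMap (X₁.presheaf.stalk x) RX)] [hRX : Hensel.IsStrictHenselization (X₁.presheaf.stalk x) RX]
    [Algebra RY RX] [IsLocalHom (algebraMap RY RX)]
    (hψ : (algebraMap RY RX).comp (algebraMap (Y₁.presheaf.stalk (g₁.base x)) RY) =
      (algebraMap (X₁.presheaf.stalk x) RX).comp (g₁.stalkMap x).hom)
    (A : Type u) [CommRing A] [IsDomain A] [IsIntegrallyClosed A] [HenselianLocalRing A]
    [IsSepClosed (ResidueField A)] [Algebra RY A] [IsLocalHom (algebraMap RY A)] [Algebra.IsIntegral RY A]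
    [IsLocalRing (RX ⊗[RY] A)] (F : Type u) [Field F] [IsAlgClosed F] [Algebra A F] [IsFractionRing A F]
    [Algebra A (RX ⊗[RY] A)]
    (halg : algebraMap A (RX ⊗[RY] A) = (Algebra.TensorProduct.includeRight (R := RY) (A := RX) (B := A)).toRingHom) :
    ConnectedSpace (PrimeSpectrum (F ⊗[A] (RX ⊗[RY] A))) := by
  obtain ⟨b, hb⟩ : ∃ b : Spec (CommRingCat.of A) ⟶ Y₁, b = Spec.map (CommRingCat.ofHom ((algebraMap RY A).comp
      (algebraMap (Y₁.presheaf.stalk (g₁.base x)) RY))) ≫ Y₁.fromSpecStalk (g₁.base x) := ⟨_, rfl⟩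
  haveI : IsLocalHom ((algebraMap RY A).comp (algebraMap (Y₁.presheaf.stalk (g₁.base x)) RY)) :=
    RingHom.isLocalHom_comp _ _
  let y := g.base (bX.base x)
  let bA := b ≫ bY
  have hbA : bA.base (closedPoint A) = y := by
    show bY.base (b.base (closedPoint A)) = g.base (bX.base x)
    rw [show g.base (bX.base x) = bY.base (g₁.base x) from congrArg (fun k : X₁ ⟶ Y => k.base x) hsq.w]
    exact congrArg bY.base (base_closedPoint (g₁.base x)
      ((algebraMap RY A).comp (algebraMap (Y₁.presheaf.stalk (g₁.base x)) RY)) b hb)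
  obtain ⟨V, hV, U, hU, hUV, hxU, H⟩ := hd (bX.base x)
  have hrangeA : Set.range bA.base ⊆ Set.range hV.fromSpec.base := by
    rintro _ ⟨s, rfl⟩
    rw [hV.range_fromSpec]
    exact ((specializes_closedPoint s).map bA.continuous).mem_open V.2 (hbA ▸ hUV hxU)
  let lA := IsOpenImmersion.lift hV.fromSpec bA hrangeA
  have hlA : lA ≫ hV.fromSpec = bA := IsOpenImmersion.lift_fac _ _ _
  obtain ⟨P, _, iC, iA, sqP, hdiv⟩ := H A F (Spec.preimage lA).hom
  have sqP' : IsPullback (Spec.map (CommRingCat.ofHom iC)) (Spec.map (CommRingCat.ofHom iA))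
      (Spec.map (g.appLE V U hUV)) lA := by
    have h := sqP
    rw [show CommRingCat.ofHom (Spec.preimage lA).hom = Spec.preimage lA from rfl, Spec.map_preimage] at h
    exact h
  have hsqUV : Spec.map (g.appLE V U hUV) ≫ hV.fromSpec = hU.fromSpec ≫ g :=
    IsAffineOpen.SpecMap_appLE_fromSpec g hV hU hUV
  have sqA : IsPullback (pullback.fst g₁ b ≫ bX) (pullback.snd g₁ b) g bA :=
    (IsPullback.of_hasPullback g₁ b).paste_horiz hsq
  obtain ⟨j, hjo, hjsnd, hjr⟩ := exists_openImmersion_chart sqP' sqA hU.fromSpec hV.fromSpec hsqUV hlA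
  have hj : ∀ w : ↥(pullback g₁ b), (pullback.fst g₁ b).base w = x → w ∈ Set.range j.base := fun w hw => hjr w (by
    show bX.base ((pullback.fst g₁ b).base w) ∈ Set.range hU.fromSpec.base
    rw [hw, hU.range_fromSpec]
    exact hxU)
  obtain ⟨z, -, _, _, hH, hcompat, -⟩ := exists_isStrictHenselization_tensor x RY RX hψ A b hb j hj
  refine connectedSpace_of_stalk A P (RX ⊗[RY] A) iA hdiv z hH ?_ F
  rw [halg, ← hcompat, hjsnd]
/-- Base changes of universally generalizing morphisms with divisible charts are locally zero-acyclic. -/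
theorem isLocZeroAcyclic_of_charts (hu : UGen g) (hd : HasDivisibleCharts g) (hsq : IsPullback bX g₁ g bY) : EtAcyc.IsLocZeroAcyclic g₁ := by
  intro x RY RX _ _ _ _ _ _ hRY _ _ hRX _ hloc hψ
  haveI := hRY.henselian
  haveI := hRY.isSepClosure
  haveI : IsSepClosed (ResidueField RY) := IsSepClosure.sep_closed (ResidueField (Y₁.presheaf.stalk (g₁.base x)))
  let a := Spec.map (CommRingCat.ofHom (algebraMap RY RX))
  let bY' := Spec.map (CommRingCat.ofHom (algebraMap (Y₁.presheaf.stalk (g₁.base x)) RY)) ≫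
    Y₁.fromSpecStalk (g₁.base x)
  let bX' := Spec.map (CommRingCat.ofHom (algebraMap (X₁.presheaf.stalk x) RX)) ≫ X₁.fromSpecStalk x
  haveI : WeaklyEtale (Spec.map (CommRingCat.ofHom (algebraMap (Y₁.presheaf.stalk (g₁.base x)) RY))) :=
    weaklyEtale_strictHenselization _ RY
  haveI : WeaklyEtale (Spec.map (CommRingCat.ofHom (algebraMap (X₁.presheaf.stalk x) RX))) :=
    weaklyEtale_strictHenselization _ RX
  haveI := WeakEtale.weaklyEtale_fromSpecStalk (X := Y₁) (g₁.base x)
  haveI := WeakEtale.weaklyEtale_fromSpecStalk (X := X₁) x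
  haveI : WeaklyEtale bY' := inferInstance
  haveI : WeaklyEtale bX' := inferInstance
  have hcomm : a ≫ bY' = bX' ≫ g₁ := by
    simp only [a, bY', bX', Category.assoc, ← Scheme.SpecMap_stalkMap_fromSpecStalk, ← Spec.map_comp_assoc]
    congr 2
    exact CommRingCat.hom_ext hψ
  have hgen : UGen a := by
    let l : Spec (CommRingCat.of RX) ⟶ pullback g₁ bY' := pullback.lift bX' a hcomm.symm
    haveI : WeaklyEtale (pullback.fst g₁ bY') := MorphismProperty.pullback_fst _ _ ‹WeaklyEtale bY'›
    haveI : Flat (l ≫ pullback.fst g₁ bY') := by rw [pullback.lift_fst]; infer_instance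
    haveI : Flat l := flat_of_comp_weaklyEtale l (pullback.fst g₁ bY')
    have h := (uGen_of_flat l).comp
      ((hu.of_isPullback hsq).of_isPullback (IsPullback.of_hasPullback g₁ bY'))
    rwa [pullback.lift_snd] at h
  haveI : Surjective a := ⟨fun s => by
    have hs : s ⤳ a.base (closedPoint RX) := by
      have h1 : a.base (closedPoint RX) = closedPoint RY :=
        PrimeSpectrum.ext (((local_hom_TFAE (algebraMap RY RX)).out 0 4).1 hloc)
      rw [h1]
      exact specializes_closedPoint s
    obtain ⟨t, -, ht⟩ := hgen.generalizingMap hs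
    exact ⟨t, ht⟩⟩
  refine isZeroAcyclic_of_uGen a hgen fun K _ _ η => ?_
  letI : Algebra RY K := (Spec.preimage η).hom.toAlgebra
  have hη : η = Spec.map (CommRingCat.ofHom (algebraMap RY K)) := (Spec.map_preimage η).symm
  rw [hη]
  exact connectedSpace_pullback_of_integralClosure RY RX K fun A _ _ _ _ _ _ _ _ _ F _ _ _ _ _ halg =>
    connectedSpace_fibre_of_charts hd hsq x RY RX hψ A F halg

end Fibre

/-- Universally generalizing morphisms with divisible charts are universally locally zero-acyclic. -/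
theorem isULocZeroAcyclic_of_charts {X Y : Scheme.{u}} {g : X ⟶ Y} (hu : UGen g) (hd : HasDivisibleCharts g) :
    EtAcyc.IsULocZeroAcyclic g :=
  fun _ _ _ _ _ h => isLocZeroAcyclic_of_charts hu hd h

end GrothLib.LocAcyc
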