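import Groth.Agent.Lib.Hensel.Normal
import Groth.Agent.Lib.SpecDense.Core
import Mathlib.RingTheory.Smooth.StandardSmoothOfFree
import Mathlib.RingTheory.Smooth.Field
import Mathlib.RingTheory.RingHom.StandardSmooth
import Mathlib.RingTheory.RingHom.Etale
import Mathlib.RingTheory.Idempotents
import Mathlib.RingTheory.TensorProduct.MvPolynomial
import Mathlib.LinearAlgebra.TensorProduct.Pi

/-!
# Dividing almost idempotents over a normal domain

For a perfect field `k`, a normal `k`-domain `A`, any `k`-algebra `D` and an etale `D ⊗[k] A`-algebra `E`,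
a solution of `b * b = t * b` with `t ≠ 0` in `A` is `t` times an idempotent.
-/

universe u

namespace GrothLib.LocAcyc

open TensorProduct

set_option backward.isDefEq.respectTransparency.types false

variable {k A : Type u} [Field k] [CommRing A] [IsDomain A] [IsIntegrallyClosed A] [Algebra k A]

theorem idem_of_isLocalRing {R : Type u} [CommRing R] [IsLocalRing R] (e : R) (he : e * e = e) : e = 0 ∨ e = 1 := by
  rcases IsLocalRing.isUnit_or_isUnit_one_sub_self e with h | h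
  · exact Or.inr (h.mul_left_cancel (he.trans (mul_one e).symm))
  · exact Or.inl (h.mul_right_eq_zero.1 (by rw [sub_mul, one_mul, he, sub_self]))

omit [IsDomain A] [IsIntegrallyClosed A] [Algebra k A] in
/-- A minimal prime has a neighbourhood etale over an affine space. -/
theorem exists_etale_nbhd [PerfectField k] (D : Type u) [CommRing D] [IsDomain D] [Algebra k D]
    [Algebra.FiniteType k D] :
    ∃ g : D, g ≠ 0 ∧ ∃ (n : ℕ) (φ : MvPolynomial (Fin n) k →+* Localization.Away g),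
      φ.comp MvPolynomial.C = algebraMap k (Localization.Away g) ∧ φ.Etale := by
  haveI : Algebra.FinitePresentation k D := Algebra.FinitePresentation.of_finiteType.1 ‹_›
  haveI : Algebra.IsSmoothAt k (⊥ : Ideal D) := by
    haveI : IsFractionRing D (Localization.AtPrime (⊥ : Ideal D)) := by
      show IsLocalization (nonZeroDivisors D) _
      rw [show nonZeroDivisors D = (⊥ : Ideal D).primeCompl from
        SetLike.ext fun x => by simp [mem_nonZeroDivisors_iff_ne_zero, Ideal.primeCompl]]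
      infer_instance
    letI : Field (Localization.AtPrime (⊥ : Ideal D)) := IsFractionRing.toField D
    haveI : Algebra.EssFiniteType k (Localization.AtPrime (⊥ : Ideal D)) :=
      Algebra.EssFiniteType.comp k D _
    exact Algebra.FormallySmooth.of_perfectField
  obtain ⟨g, hg, hstd⟩ := Algebra.IsSmoothAt.exists_notMem_isStandardSmooth k (⊥ : Ideal D)
  have h : (algebraMap k (Localization.Away g)).IsStandardSmooth :=
    RingHom.isStandardSmooth_algebraMap.2 hstd
  obtain ⟨n, φ, hφ, hφe⟩ := h.exists_etale_mvPolynomial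
  exact ⟨g, fun h0 => hg (h0 ▸ Submodule.zero_mem _), n, φ, hφ, hφe⟩

omit [IsDomain A] [IsIntegrallyClosed A] in
/-- Base change of an etale algebra to a tensor product. -/
theorem etale_map (R D : Type u) [CommRing R] [CommRing D] [Algebra k R] [Algebra k D] [Algebra R D]
    [IsScalarTower k R D] [Algebra.Etale R D] :
    (Algebra.TensorProduct.map (IsScalarTower.toAlgHom k R D) (AlgHom.id k A)).toRingHom.Etale := by
  let ε : (R ⊗[k] A) ⊗[R] D →+* D ⊗[k] A :=
    RingHom.comp (Algebra.TensorProduct.cancelBaseChange k R D D A).toAlgHom.toRingHom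
      (Algebra.TensorProduct.comm R (R ⊗[k] A) D).toAlgHom.toRingHom
  have hε : Function.Bijective ε :=
    (Algebra.TensorProduct.cancelBaseChange k R D D A).bijective.comp
      (Algebra.TensorProduct.comm R (R ⊗[k] A) D).bijective
  have h1 : (algebraMap (R ⊗[k] A) ((R ⊗[k] A) ⊗[R] D)).Etale := RingHom.etale_algebraMap.2 inferInstance
  have h2 : (Algebra.TensorProduct.map (IsScalarTower.toAlgHom k R D) (AlgHom.id k A)).toRingHom =
      ε.comp (algebraMap (R ⊗[k] A) ((R ⊗[k] A) ⊗[R] D)) := by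
    refine RingHom.ext fun z => ?_
    induction z using TensorProduct.induction_on with
    | zero => simp
    | tmul r a =>
      show algebraMap R D r ⊗ₜ[k] a =
        Algebra.TensorProduct.cancelBaseChange k R D D A ((1 : D) ⊗ₜ[R] (r ⊗ₜ[k] a))
      rw [Algebra.TensorProduct.cancelBaseChange_tmul, Algebra.smul_def, mul_one]
    | add x y hx hy => rw [map_add, map_add, hx, hy]
  rw [h2]
  exact RingHom.Etale.respectsIso.1 _ (RingEquiv.ofBijective ε hε) h1

/-- In an algebra etale over the tensor product of a smooth chart with a normal domain. -/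
theorem mem_span_of_etale {n : ℕ} {D : Type u} [CommRing D] [Algebra k D]
    (φ : MvPolynomial (Fin n) k →+* D) (hφC : φ.comp MvPolynomial.C = algebraMap k D) (hφ : φ.Etale)
    {E : Type u} [CommRing E] [Algebra (D ⊗[k] A) E] [Algebra.Etale (D ⊗[k] A) E] (t : A) (b : E)
    (h : b * b = algebraMap (D ⊗[k] A) E (1 ⊗ₜ t) * b) :
    b ∈ Ideal.span {algebraMap (D ⊗[k] A) E (1 ⊗ₜ t)} := by
  let R := MvPolynomial (Fin n) k
  let Q := R ⊗[k] A
  haveI hdom : IsDomain Q ∧ IsIntegrallyClosed Q :=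
    Hensel.isNormalDomain_of_ringEquiv
      ((Algebra.TensorProduct.comm k R A).toRingEquiv.trans (MvPolynomial.algebraTensorAlgEquiv k A).toRingEquiv).symm
      ⟨inferInstance, SpecDense.isIntegrallyClosed_mvPolynomial_fin n⟩
  haveI := hdom.1
  haveI := hdom.2
  letI : Algebra R D := φ.toAlgebra
  haveI : Algebra.Etale R D := hφ
  haveI : IsScalarTower k R D := IsScalarTower.of_algebraMap_eq' hφC.symm
  let ψ : Q →ₐ[k] D ⊗[k] A := Algebra.TensorProduct.map (IsScalarTower.toAlgHom k R D) (AlgHom.id k A)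
  have hψ : ψ.toRingHom.Etale := etale_map R D
  letI : Algebra Q E := ((algebraMap (D ⊗[k] A) E).comp ψ.toRingHom).toAlgebra
  haveI : Algebra.Etale Q E := by
    show ((algebraMap (D ⊗[k] A) E).comp ψ.toRingHom).Etale
    exact RingHom.Etale.stableUnderComposition _ _ hψ (RingHom.etale_algebraMap.2 inferInstance)
  by_contra hb
  let T := algebraMap (D ⊗[k] A) E (1 ⊗ₜ t)
  let J : Ideal E := (Ideal.span {T}).colon (Ideal.span {b})
  have hJ : J ≠ ⊤ := fun hJ => hb <| by
    have h1 : (1 : E) ∈ J := hJ ▸ Submodule.mem_top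
    simpa [J, Submodule.mem_colon] using Submodule.mem_colon.1 h1 b (Ideal.mem_span_singleton_self b)
  obtain ⟨q, hq, hJq⟩ := Ideal.exists_le_maximal J hJ
  have hmem : ∀ s : E, s * b ∈ Ideal.span {T} → s ∈ q := fun s hs => hJq <| by
    refine Submodule.mem_colon.2 fun p hp => ?_
    obtain ⟨c, rfl⟩ := Ideal.mem_span_singleton'.1 hp
    rw [smul_eq_mul, mul_left_comm]
    exact Ideal.mul_mem_left _ c hs
  rcases (Hensel.isNormalDomain_localization_of_etale Q q).1 b (b - T)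
    (by rw [mul_sub, h, mul_comm, sub_self]) with ⟨s, hs, hs0⟩ | ⟨s, hs, hs0⟩
  · exact hs (hmem s (by rw [hs0]; exact Submodule.zero_mem _))
  · refine hs (hmem s ?_)
    rw [mul_sub, sub_eq_zero] at hs0
    rw [hs0]
    exact Ideal.mul_mem_left _ s (Ideal.mem_span_singleton_self T)

omit [IsDomain A] [IsIntegrallyClosed A] [Algebra k A] in
/-- Finitely many charts separating the points of a reduced algebra. -/
theorem exists_charts [PerfectField k] (D : Type u) [CommRing D] [Algebra k D] [Algebra.FiniteType k D] :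
    ∃ (ι : Type u) (_ : Finite ι) (Dg : ι → Type u) (_ : ∀ i, CommRing (Dg i)) (_ : ∀ i, Algebra k (Dg i))
      (j : ∀ i, D →ₐ[k] Dg i) (n : ι → ℕ) (φ : ∀ i, MvPolynomial (Fin (n i)) k →+* Dg i),
      (∀ i, (φ i).comp MvPolynomial.C = algebraMap k (Dg i)) ∧ (∀ i, (φ i).Etale) ∧
      ∀ x, (∀ i, j i x = 0) → IsNilpotent x := by
  haveI : IsNoetherianRing D := Algebra.FiniteType.isNoetherianRing k D
  haveI : Finite (minimalPrimes D) := (minimalPrimes.finite_of_isNoetherianRing D).to_subtype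
  haveI : ∀ i : minimalPrimes D, i.1.IsPrime := fun i => Ideal.minimalPrimes_isPrime i.2
  choose g hg n φ hφC hφ using fun i : minimalPrimes D => exists_etale_nbhd (k := k) (D ⧸ i.1)
  refine ⟨minimalPrimes D, inferInstance, fun i => Localization.Away (g i), inferInstance, inferInstance,
    fun i => (IsScalarTower.toAlgHom k (D ⧸ i.1) (Localization.Away (g i))).comp (Ideal.Quotient.mkₐ k i.1),
    n, φ, hφC, hφ, fun x hx => mem_nilradical.1 ?_⟩
  rw [nilradical, ← Ideal.sInf_minimalPrimes (I := (0 : Ideal D))]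
  refine Submodule.mem_sInf.2 fun m hm => ?_
  have h1 : algebraMap (D ⧸ m) (Localization.Away (g ⟨m, hm⟩)) (Ideal.Quotient.mk m x) = 0 := hx ⟨m, hm⟩
  haveI : Ideal.IsPrime (m : Ideal D) := Ideal.minimalPrimes_isPrime hm
  exact Ideal.Quotient.eq_zero_iff_mem.1
    (IsLocalization.injective (Localization.Away (g ⟨m, hm⟩)) (powers_le_nonZeroDivisors_of_noZeroDivisors (hg ⟨m, hm⟩))
      (h1.trans (map_zero _).symm))

omit [IsDomain A] [IsIntegrallyClosed A] in
/-- The ideal of elements divisible by `t` in every chart. -/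
theorem mem_sup_nilradical {D : Type u} [CommRing D] [Algebra k D] {ι : Type u} [Finite ι] (Dg : ι → Type u)
    [∀ i, CommRing (Dg i)] [∀ i, Algebra k (Dg i)] (j : ∀ i, D →ₐ[k] Dg i)
    (hj : ∀ x, (∀ i, j i x = 0) → IsNilpotent x) (t : A) (p : D ⊗[k] A)
    (hp : ∀ i, Algebra.TensorProduct.map (j i) (AlgHom.id k A) p ∈ Ideal.span {(1 : Dg i) ⊗ₜ[k] t}) :
    p ∈ Ideal.span {(1 : D) ⊗ₜ[k] t} ⊔ nilradical (D ⊗[k] A) := by
  classical
  haveI := Fintype.ofFinite ι
  let J : D →ₐ[k] ∀ i, Dg i := Pi.algHom k Dg j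
  let r : A →ₐ[k] A ⧸ Ideal.span {t} := Ideal.Quotient.mkₐ k _
  let N := A ⧸ Ideal.span {t}
  have hcomp : ∀ (z : D ⊗[k] A) (i : ι), TensorProduct.piLeft k N Dg
      (LinearMap.rTensor N J.range.val.toLinearMap (Algebra.TensorProduct.map J.rangeRestrict r z)) i =
        Algebra.TensorProduct.map (AlgHom.id k (Dg i)) r (Algebra.TensorProduct.map (j i) (AlgHom.id k A) z) := by
    intro z i
    induction z with
    | zero => simp
    | tmul d a =>
      rw [Algebra.TensorProduct.map_tmul, LinearMap.rTensor_tmul, Algebra.TensorProduct.map_tmul,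
        Algebra.TensorProduct.map_tmul]
      simp [J, N]
    | add x y hx hy => simp only [map_add, Pi.add_apply, hx, hy]
  have h0 : Algebra.TensorProduct.map J.rangeRestrict r p = 0 := by
    refine Module.Flat.rTensor_preserves_injective_linearMap (M := N) J.range.val.toLinearMap
      Subtype.val_injective ((TensorProduct.piLeft k N Dg).injective (funext fun i => ?_))
    rw [hcomp, map_zero, map_zero, Pi.zero_apply]
    obtain ⟨c, hc⟩ := Ideal.mem_span_singleton'.1 (hp i)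
    rw [← hc, map_mul, Algebra.TensorProduct.map_tmul,
      show r t = 0 from Ideal.Quotient.eq_zero_iff_mem.2 (Ideal.mem_span_singleton_self t),
      TensorProduct.tmul_zero, mul_zero]
  have h2 : p ∈ RingHom.ker (Algebra.TensorProduct.map J.rangeRestrict r) := h0
  rw [Algebra.TensorProduct.map_ker _ _ J.rangeRestrict_surjective Ideal.Quotient.mk_surjective] at h2
  refine SetLike.le_def.1 (sup_le ?_ ?_) h2
  · rw [Ideal.map_le_iff_le_comap]
    intro x hx
    exact Ideal.mem_sup_right (mem_nilradical.2 ((hj x fun i =>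
      congrFun (congrArg Subtype.val (RingHom.mem_ker.1 hx)) i).map Algebra.TensorProduct.includeLeft))
  · rw [Ideal.map_le_iff_le_comap]
    intro x hx
    have hx' : x ∈ Ideal.span {t} := Ideal.Quotient.eq_zero_iff_mem.1 (RingHom.mem_ker.1 hx)
    obtain ⟨c, rfl⟩ := Ideal.mem_span_singleton'.1 hx'
    refine Ideal.mem_sup_left (Ideal.mem_span_singleton'.2 ⟨(1 : D) ⊗ₜ[k] c, ?_⟩)
    show _ = (1 : D) ⊗ₜ[k] (c * t)
    rw [Algebra.TensorProduct.tmul_mul_tmul, one_mul]

/-- The descent of membership along a finite family of quotients. -/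
theorem mem_map_of_forall {P : Type u} [CommRing P] {E : Type u} [CommRing E] [Algebra P E] [Module.Flat P E]
    {ι : Type u} [Finite ι] (R : ι → Type u) [∀ i, CommRing (R i)] [∀ i, Algebra P (R i)] (K : Ideal P)
    (hK : ∀ p, (∀ i, algebraMap P (R i) p = 0) → p ∈ K) (b : E) (hb : ∀ i, (1 : R i) ⊗ₜ[P] b = 0) :
    b ∈ K.map (algebraMap P E) := by
  classical
  haveI := Fintype.ofFinite ι
  let f : P →ₗ[P] ∀ i, R i := LinearMap.pi fun i => Algebra.linearMap P (R i)
  have hbE : f.rTensor E ((1 : P) ⊗ₜ[P] b) = 0 := by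
    refine (TensorProduct.piLeft P E R).injective (funext fun i => ?_)
    rw [map_zero, Pi.zero_apply, LinearMap.rTensor_tmul]
    refine Eq.trans ?_ (hb i)
    simp [f]
  obtain ⟨z, hz⟩ := (Module.Flat.rTensor_exact E (LinearMap.exact_subtype_ker_map f) _).1 hbE
  have key : ∀ w : (LinearMap.ker f) ⊗[P] E,
      TensorProduct.lid P E ((LinearMap.ker f).subtype.rTensor E w) ∈ K.map (algebraMap P E) := fun w => by
    induction w with
    | zero => simp
    | tmul p e =>
      rw [LinearMap.rTensor_tmul, TensorProduct.lid_tmul, Algebra.smul_def]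
      exact Ideal.mul_mem_right _ _ (Ideal.mem_map_of_mem _ (hK _ fun i => congrFun (LinearMap.mem_ker.1 p.2) i))
    | add x y hx hy => rw [map_add, map_add]; exact Ideal.add_mem _ hx hy
  simpa [hz] using key z

/-- Removing a nilpotent error term. -/
theorem exists_idempotent_of_add_nilpotent {E : Type u} [CommRing E] {T b c e : E}
    (hT : ∀ z : E, T * z = 0 → z = 0) (h : b * b = T * b) (he : IsNilpotent e) (hb : b = c * T + e) :
    ∃ c₀ : E, c₀ * c₀ = c₀ ∧ b = T * c₀ := by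
  subst hb
  let π := Ideal.Quotient.mk (nilradical E)
  have hπe : π e = 0 := Ideal.Quotient.eq_zero_iff_mem.2 (mem_nilradical.2 he)
  have hc : π c * π c = π c := by
    have h4 : π (T * T * (c * c - c)) = 0 := by
      have h5 := congrArg π h
      simp only [map_mul, map_add, hπe, add_zero] at h5
      simp only [map_mul, map_sub]
      linear_combination h5
    obtain ⟨m, hm⟩ := mem_nilradical.1 (Ideal.Quotient.eq_zero_iff_mem.1 h4)
    have h6 : ∀ m : ℕ, ∀ z : E, T ^ m * z = 0 → z = 0 := fun m => by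
      induction m with
      | zero => exact fun z hz => by rwa [pow_zero, one_mul] at hz
      | succ m ih => exact fun z hz => ih z (hT _ (by rwa [pow_succ', mul_assoc] at hz))
    have h7 : IsNilpotent (c * c - c) := ⟨m, h6 (2 * m) _ (by rw [pow_mul, ← mul_pow, sq]; exact hm)⟩
    rw [← map_mul]
    exact Ideal.Quotient.eq.2 (mem_nilradical.2 h7)
  obtain ⟨c₀, hc₀, hcc⟩ := exists_isIdempotentElem_eq_of_ker_isNilpotent π
    (fun x hx => by
      rw [Ideal.mk_ker] at hx
      exact mem_nilradical.1 hx) (π c) ⟨c, rfl⟩ hc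
  obtain ⟨d, hd⟩ : IsNilpotent (c * T + e - T * c₀) := by
    have h10 : π (c * T + e - T * c₀) = 0 := by
      rw [map_sub, map_add, map_mul, map_mul, hcc, hπe, add_zero, mul_comm, sub_self]
    exact mem_nilradical.1 (Ideal.Quotient.eq_zero_iff_mem.1 h10)
  refine ⟨c₀, hc₀, sub_eq_zero.1 ?_⟩
  generalize hv : c * T + e - T * c₀ = v at hd ⊢
  have h8 : T * v = (1 - 2 * c₀) * (v * v) := by
    have hb' : c * T + e = v + T * c₀ := by rw [← hv]; ring
    rw [hb'] at h
    have hc₀' : c₀ * c₀ = c₀ := hc₀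
    linear_combination (-(1 - 2 * c₀)) * h + (T * T * (1 - 2 * c₀) - 4 * T * v) * hc₀'
  have h9 : ∀ m : ℕ, v ^ (m + 1) = 0 → v = 0 := fun m => by
    induction m with
    | zero => intro hm; rwa [pow_one] at hm
    | succ m ih =>
      intro hm
      refine ih (hT _ ?_)
      rw [pow_succ' v m, ← mul_assoc, h8, show (1 - 2 * c₀) * (v * v) * v ^ m = (1 - 2 * c₀) * v ^ (m + 1 + 1) by ring,
        hm, mul_zero]
  exact h9 d (by rw [pow_succ, hd, zero_mul])

omit [IsDomain A] [IsIntegrallyClosed A] [Algebra k A] in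
theorem mul_one_tmul_eq_lTensor [Algebra k A] {D : Type u} [CommRing D] [Algebra k D] (t : A) (z : D ⊗[k] A) :
    ((1 : D) ⊗ₜ[k] t) * z = LinearMap.lTensor D (LinearMap.mulLeft k t) z := by
  induction z with
  | zero => simp
  | tmul d a => simp
  | add x y hx hy => rw [mul_add, hx, hy, map_add]

/-- Finitely generated case. -/
theorem exists_idempotent_mul_of_finiteType [PerfectField k] {D : Type u} [CommRing D] [Algebra k D]
    [Algebra.FiniteType k D] {E : Type u} [CommRing E] [Algebra (D ⊗[k] A) E] [Algebra.Etale (D ⊗[k] A) E]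
    (t : A) (ht : t ≠ 0) (b : E) (h : b * b = algebraMap (D ⊗[k] A) E (1 ⊗ₜ t) * b) :
    ∃ c : E, c * c = c ∧ b = algebraMap (D ⊗[k] A) E (1 ⊗ₜ t) * c := by
  have hTP : IsSMulRegular (D ⊗[k] A) ((1 : D) ⊗ₜ[k] t) := fun x y hxy =>
    Module.Flat.lTensor_preserves_injective_linearMap (M := D) (LinearMap.mulLeft k t) (mul_right_injective₀ ht)
      (((mul_one_tmul_eq_lTensor t x).symm.trans hxy).trans (mul_one_tmul_eq_lTensor t y))
  have hT : ∀ z : E, algebraMap (D ⊗[k] A) E (1 ⊗ₜ t) * z = 0 → z = 0 := fun z hz =>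
    (hTP.of_flat (S := E)) (hz.trans (mul_zero _).symm)
  obtain ⟨ι, _, Dg, _, _, j, n, φ, hφC, hφ, hj⟩ := exists_charts (k := k) D
  letI : ∀ i, Algebra (D ⊗[k] A) (Dg i ⊗[k] A) := fun i =>
    (Algebra.TensorProduct.map (j i) (AlgHom.id k A)).toRingHom.toAlgebra
  have hb : b ∈ (Ideal.span {(1 : D) ⊗ₜ[k] t} ⊔ nilradical (D ⊗[k] A)).map (algebraMap (D ⊗[k] A) E) := by
    refine mem_map_of_forall (fun i => (Dg i ⊗[k] A) ⧸ Ideal.span {(1 : Dg i) ⊗ₜ[k] t}) _ (fun p hp => ?_) b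
      fun i => ?_
    · exact mem_sup_nilradical Dg j hj t p fun i => Ideal.Quotient.eq_zero_iff_mem.1 (hp i)
    · have hmap : algebraMap (D ⊗[k] A) (Dg i ⊗[k] A) ((1 : D) ⊗ₜ t) = (1 : Dg i) ⊗ₜ[k] t :=
        (Algebra.TensorProduct.map_tmul (j i) (AlgHom.id k A) 1 t).trans (by rw [map_one]; rfl)
      have h2 : algebraMap (Dg i ⊗[k] A) ((Dg i ⊗[k] A) ⊗[D ⊗[k] A] E) ((1 : Dg i) ⊗ₜ[k] t) =
          (1 : Dg i ⊗[k] A) ⊗ₜ[D ⊗[k] A] algebraMap (D ⊗[k] A) E (1 ⊗ₜ t) := by
        rw [← hmap, ← IsScalarTower.algebraMap_apply, Algebra.TensorProduct.algebraMap_apply']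
      have h1 : (1 : Dg i ⊗[k] A) ⊗ₜ[D ⊗[k] A] b ∈
          Ideal.span {algebraMap (Dg i ⊗[k] A) ((Dg i ⊗[k] A) ⊗[D ⊗[k] A] E) ((1 : Dg i) ⊗ₜ[k] t)} :=
        mem_span_of_etale (φ i) (hφC i) (hφ i) t _
          (by rw [h2, Algebra.TensorProduct.tmul_mul_tmul, Algebra.TensorProduct.tmul_mul_tmul, h])
      obtain ⟨c, hc⟩ := Ideal.mem_span_singleton'.1 h1
      let θ : (Dg i ⊗[k] A) ⊗[D ⊗[k] A] E →ₐ[D ⊗[k] A]
          ((Dg i ⊗[k] A) ⧸ Ideal.span {(1 : Dg i) ⊗ₜ[k] t}) ⊗[D ⊗[k] A] E :=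
        Algebra.TensorProduct.map (IsScalarTower.toAlgHom _ (Dg i ⊗[k] A) _) (AlgHom.id _ E)
      have h3 := congrArg θ hc
      rw [map_mul, show θ (algebraMap _ _ ((1 : Dg i) ⊗ₜ[k] t)) = 0 by
        show (Ideal.Quotient.mk _ ((1 : Dg i) ⊗ₜ[k] t)) ⊗ₜ[D ⊗[k] A] (1 : E) = 0
        rw [Ideal.Quotient.eq_zero_iff_mem.2 (Ideal.mem_span_singleton_self _), TensorProduct.zero_tmul],
        ] at h3
      refine Eq.trans ?_ (h3.symm.trans (by rw [← map_zero θ, ← map_mul, mul_zero]))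
      simp [θ]
  rw [Ideal.map_sup, Ideal.map_span, Set.image_singleton, Submodule.mem_sup] at hb
  obtain ⟨_, hy, e, he, hbe⟩ := hb
  obtain ⟨c, rfl⟩ := Ideal.mem_span_singleton'.1 hy
  refine exists_idempotent_of_add_nilpotent hT h ?_ hbe.symm
  refine mem_nilradical.1 ((?_ : (nilradical (D ⊗[k] A)).map (algebraMap _ E) ≤ nilradical E) he)
  exact Ideal.map_le_iff_le_comap.2 fun x hx => (mem_nilradical.1 hx).map _

omit [IsDomain A] [IsIntegrallyClosed A] in
theorem exists_subalgebra_tensor {D : Type u} [CommRing D] [Algebra k D] (s : Finset (D ⊗[k] A)) :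
    ∃ D₀ : Subalgebra k D, D₀.FG ∧
      (↑s : Set (D ⊗[k] A)) ⊆ Set.range (Algebra.TensorProduct.map D₀.val (AlgHom.id k A)) := by
  classical
  have key : ∀ z : D ⊗[k] A, ∃ s₀ : Finset D, ∀ D₀ : Subalgebra k D, ↑s₀ ⊆ (D₀ : Set D) →
      z ∈ (Algebra.TensorProduct.map D₀.val (AlgHom.id k A)).range := fun z => by
    induction z with
    | zero => exact ⟨∅, fun _ _ => Subalgebra.zero_mem _⟩
    | tmul d a => exact ⟨{d}, fun D₀ h => ⟨(⟨d, h (by simp)⟩ : D₀) ⊗ₜ a, rfl⟩⟩
    | add x y hx hy =>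
      obtain ⟨s₁, h₁⟩ := hx
      obtain ⟨s₂, h₂⟩ := hy
      exact ⟨s₁ ∪ s₂, fun D₀ h => Subalgebra.add_mem _
        (h₁ D₀ ((Finset.coe_subset.2 Finset.subset_union_left).trans h))
        (h₂ D₀ ((Finset.coe_subset.2 Finset.subset_union_right).trans h))⟩
  choose f hf using key
  refine ⟨Algebra.adjoin k ↑(s.biUnion f), ⟨s.biUnion f, rfl⟩, fun z hz => hf z _ ?_⟩
  exact (Finset.coe_subset.2 (Finset.subset_biUnion_of_mem f hz)).trans Algebra.subset_adjoin

/-- A solution of `b * b = t * b` is `t` times an idempotent. -/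
theorem exists_idempotent_mul [PerfectField k] {D : Type u} [CommRing D] [Algebra k D]
    {E : Type u} [CommRing E] [Algebra (D ⊗[k] A) E] [Algebra.Etale (D ⊗[k] A) E]
    (t : A) (ht : t ≠ 0) (b : E) (h : b * b = algebraMap (D ⊗[k] A) E (1 ⊗ₜ t) * b) :
    ∃ c : E, c * c = c ∧ b = algebraMap (D ⊗[k] A) E (1 ⊗ₜ t) * c := by
  classical
  let P := D ⊗[k] A
  obtain ⟨P₀, E₀, _, _, hP₀, hE₀, ⟨e⟩⟩ := Algebra.Etale.exists_subalgebra_fg k P E
  obtain ⟨s₀, hs₀⟩ := hP₀
  have key : ∀ w : P ⊗[P₀] E₀, ∃ s : Finset P, ∀ D₀ : Subalgebra k D,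
      ↑s ⊆ Set.range (Algebra.TensorProduct.map D₀.val (AlgHom.id k A)) →
      ∀ (_ : Algebra P₀ (D₀ ⊗[k] A)) (j : D₀ ⊗[k] A →ₐ[P₀] P),
        ⇑j = ⇑(Algebra.TensorProduct.map D₀.val (AlgHom.id k A)) →
        w ∈ (Algebra.TensorProduct.map j (AlgHom.id P₀ E₀)).range := fun w => by
    induction w with
    | zero => exact ⟨∅, fun _ _ _ _ _ => Subalgebra.zero_mem _⟩
    | tmul p x =>
      refine ⟨{p}, fun D₀ h _ j hj => ?_⟩
      obtain ⟨p₀, hp⟩ := h (Finset.mem_singleton_self p)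
      exact ⟨p₀ ⊗ₜ x, show j p₀ ⊗ₜ x = _ by rw [hj, hp]⟩
    | add x y hx hy =>
      obtain ⟨s₁, h₁⟩ := hx
      obtain ⟨s₂, h₂⟩ := hy
      exact ⟨s₁ ∪ s₂, fun D₀ h _ j hj => Subalgebra.add_mem _
        (h₁ D₀ ((Finset.coe_subset.2 Finset.subset_union_left).trans h) _ j hj)
        (h₂ D₀ ((Finset.coe_subset.2 Finset.subset_union_right).trans h) _ j hj)⟩
  obtain ⟨s₁, hs₁⟩ := key (e b)
  obtain ⟨D₀, hD₀, hs⟩ := exists_subalgebra_tensor (s₀ ∪ s₁)
  haveI : Algebra.FiniteType k D₀ := (Subalgebra.fg_iff_finiteType D₀).1 hD₀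
  let J : D₀ ⊗[k] A →ₐ[k] P := Algebra.TensorProduct.map D₀.val (AlgHom.id k A)
  have hJ : Function.Injective J := Module.Flat.rTensor_preserves_injective_linearMap (M := A)
    D₀.val.toLinearMap Subtype.val_injective
  have hP₀' : P₀ ≤ J.range := by
    rw [← hs₀, Algebra.adjoin_le_iff]
    exact (Finset.coe_subset.2 Finset.subset_union_left).trans hs
  let J' := AlgEquiv.ofInjective J hJ
  letI : Algebra P₀ (D₀ ⊗[k] A) := (J'.symm.toAlgHom.comp (Subalgebra.inclusion hP₀')).toRingHom.toAlgebra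
  have hJP : ∀ p : P₀, J (algebraMap P₀ (D₀ ⊗[k] A) p) = p := fun p =>
    congrArg Subtype.val (J'.apply_symm_apply (Subalgebra.inclusion hP₀' p))
  let j : D₀ ⊗[k] A →ₐ[P₀] P := { J.toRingHom with commutes' := hJP }
  obtain ⟨b₀, hb₀⟩ := hs₁ D₀ ((Finset.coe_subset.2 Finset.subset_union_right).trans hs) _ j rfl
  let ι : (D₀ ⊗[k] A) ⊗[P₀] E₀ →ₐ[P₀] P ⊗[P₀] E₀ := Algebra.TensorProduct.map j (AlgHom.id P₀ E₀)
  have hι : Function.Injective ι :=
    Module.Flat.rTensor_preserves_injective_linearMap (M := E₀) j.toLinearMap hJ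
  have hιT : ι (((1 : D₀) ⊗ₜ[k] t) ⊗ₜ[P₀] (1 : E₀)) = e (algebraMap P E (1 ⊗ₜ t)) := by
    rw [e.commutes]
    show j ((1 : D₀) ⊗ₜ[k] t) ⊗ₜ[P₀] (1 : E₀) = ((1 : D) ⊗ₜ[k] t) ⊗ₜ[P₀] (1 : E₀)
    rfl
  have hb₀' : ι b₀ = e b := hb₀
  have h₀ : b₀ * b₀ = (((1 : D₀) ⊗ₜ[k] t) ⊗ₜ[P₀] (1 : E₀)) * b₀ :=
    hι (by rw [map_mul, map_mul, hιT, hb₀', ← map_mul, ← map_mul, h])
  obtain ⟨c, hc, hbc⟩ := exists_idempotent_mul_of_finiteType (k := k) (D := D₀)
    (E := (D₀ ⊗[k] A) ⊗[P₀] E₀) t ht b₀ h₀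
  refine ⟨e.symm (ι c), by rw [← map_mul, ← map_mul, hc], e.injective ?_⟩
  rw [map_mul, e.apply_symm_apply, ← hιT, ← map_mul, ← hb₀', hbc]
  rfl

open Hensel in
/-- In a hull, a solution of `w * w = t * w` is `0` or `t`. -/
theorem eq_zero_or_eq_of_hull [PerfectField k] {D : Type u} [CommRing D] [Algebra k D] {C : Type u} [Field C]
    [Algebra (D ⊗[k] A) C] [IsLocalRing (Hull (D ⊗[k] A) C)] (t : A) (ht : t ≠ 0) (w : Hull (D ⊗[k] A) C)
    (h : w * w = algebraMap (D ⊗[k] A) _ (1 ⊗ₜ t) * w) :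
    w = 0 ∨ w = algebraMap (D ⊗[k] A) _ (1 ⊗ₜ t) := by
  obtain ⟨N, a, rfl⟩ := Hull.exists_ι w
  obtain ⟨M, f, hf⟩ := Hull.exists_map_eq_zero (a := a * a - algebraMap (D ⊗[k] A) N.Ring (1 ⊗ₜ t) * a)
    (by rw [map_sub, map_mul, map_mul, AlgHom.commutes, h, sub_self])
  rw [map_sub, map_mul, map_mul, AlgHom.commutes, sub_eq_zero] at hf
  obtain ⟨c, hc, hac⟩ := exists_idempotent_mul t ht (f.map a) hf
  have hw : Hull.ι N a = algebraMap (D ⊗[k] A) _ (1 ⊗ₜ t) * Hull.ι M c := by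
    rw [← Hull.ι_map f, hac, map_mul, AlgHom.commutes]
  have hi : IsIdempotentElem (Hull.ι M c) := by
    show _ * _ = _
    rw [← map_mul, hc]
  rcases GrothLib.LocAcyc.idem_of_isLocalRing _ hi with h1 | h1
  · exact Or.inl (by rw [hw, h1, mul_zero])
  · exact Or.inr (by rw [hw, h1, mul_one])

end GrothLib.LocAcyc
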