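import Groth.Agent.Lib.EtSec.LocConn
import Mathlib.AlgebraicGeometry.Morphisms.Separated
import Mathlib.AlgebraicGeometry.Morphisms.ClosedImmersion

/-!
# Base change for morphisms with geometrically connected factorizations
-/

universe u

open CategoryTheory CategoryTheory.Limits AlgebraicGeometry Opposite
open GrothLib.EtSite

set_option backward.isDefEq.respectTransparency.types false

noncomputable section

namespace GrothLib.LocAcyc

open GrothLib.EtSec

variable {X S T : Scheme.{u}}

/-- Every etale scheme over the source is covered by pieces which map with geometrically connected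
fibres to etale schemes over the base. -/
def HasFactorizations (f : X ⟶ S) : Prop :=
  ∀ U : X.Etale, ∃ (ι : Type u) (Uc : ι → X.Etale) (mU : ∀ i, Uc i ⟶ U),
      (∀ y : U.left, ∃ (i : ι) (z : (Uc i).left), (mU i).left.base z = y) ∧
      ∀ i, ∃ (V : S.Etale) (a : (Uc i).left ⟶ V.left),
        a ≫ V.hom = (Uc i).hom ≫ f ∧ QuasiCompact a ∧ GeometricallyConnected a

variable {f : X ⟶ S} {Ω : Type u} [Field Ω] [IsSepClosed Ω] {ξ : Spec (CommRingCat.of Ω) ⟶ X}

theorem exists_piece [Flat f] (hcov : HasFactorizations f) (U : X.Etale)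
    (q : Spec (CommRingCat.of Ω) ⟶ U.left) (hq : q ≫ U.hom = ξ) :
    ∃ (Ui : X.Etale) (r : Ui ⟶ U) (q' : Spec (CommRingCat.of Ω) ⟶ Ui.left) (V : S.Etale) (a : Ui.left ⟶ V.left),
      q' ≫ r.left = q ∧ q' ≫ Ui.hom = ξ ∧ a ≫ V.hom = Ui.hom ≫ f ∧ QuasiCompact a ∧ Surjective a ∧ Flat a ∧
      HasConnectedFibres a := by
  obtain ⟨ι, Uc, mU, hjs, hfac⟩ := hcov U
  obtain ⟨i, z, hz⟩ := hjs (q.base default)
  obtain ⟨V, a, ha, hqc, hgc⟩ := hfac i
  let ul : (Uc i).left ⟶ U.left := (mU i).left
  let uh : U.left ⟶ X := U.hom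
  let ci : (Uc i).left ⟶ X := (Uc i).hom
  let vh : V.left ⟶ S := V.hom
  haveI : Etale uh := U.prop
  haveI : Etale ci := (Uc i).prop
  haveI : Etale vh := V.prop
  haveI : Etale (ul ≫ uh) := (hom_left (mU i)).symm ▸ (inferInstance : Etale ci)
  haveI : Etale ul := Etale.of_comp ul uh
  obtain ⟨q', hq', -⟩ := exists_lift ul q z hz
  haveI : Flat (ci ≫ f) := inferInstance
  haveI : Flat a := by
    haveI : Flat (a ≫ vh) := ha.symm ▸ (inferInstance : Flat (ci ≫ f))
    exact flat_of_comp_weaklyEtale a vh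
  have hc : HasConnectedFibres a := fun Ω' _ _ s =>
    GeometricallyConnected.connectedSpace_of_subsingleton (f := pullback.snd a s)
  refine ⟨Uc i, mU i, q', V, a, hq', ?_, ha, hqc, inferInstance, ‹Flat a›, hc⟩
  exact (congrArg (q' ≫ ·) (hom_left (mU i)).symm).trans
    ((Category.assoc _ _ _).symm.trans ((congrArg (fun j : Spec (CommRingCat.of Ω) ⟶ U.left => j ≫ uh) hq').trans hq))

theorem keyData_of_hasFactorizations [Flat f] (hcov : HasFactorizations f) (g : T ⟶ S) (F : EtDesc.Sh T) :
    KeyData g f F ξ where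
  surj {U} q hq σ := by
    obtain ⟨Ui, r, q', V, a, hq', hq'', ha, hqc, hsurj, hflat, hc⟩ := exists_piece hcov U q hq
    obtain ⟨s, hs⟩ := (resT_bijective g a ha (uGen_of_flat a) hc).2
      (resT g r.left (show r.left ≫ U.hom ≫ f = Ui.hom ≫ f from
        (Category.assoc _ _ _).symm.trans (congrArg (· ≫ f) (MorphismProperty.Over.w r))) σ)
    refine ⟨V, q' ≫ a, ?_, s, Ui, r, a, ha, q', hq'', hq', rfl, hs.symm⟩
    exact (Category.assoc _ _ _).trans ((congrArg (q' ≫ ·) ha).trans
      ((Category.assoc _ _ _).symm.trans (congrArg (· ≫ f) hq'')))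
  inj {W} l hl s s' {U} q hq m m' hm hm' hqm hqm' h := by
    classical
    let uh : U.left ⟶ X := U.hom
    let wh : W.left ⟶ S := W.hom
    haveI : Etale uh := U.prop
    haveI : Etale wh := W.prop
    have hmu : m ≫ wh = uh ≫ f := hm
    have hmu' : m' ≫ wh = uh ≫ f := hm'
    obtain ⟨_, ⟨W₀, hW₀, rfl⟩, hlW, -⟩ :=
      W.left.isBasis_affineOpens.exists_subset_of_mem_open (Set.mem_univ (l.base default)) isOpen_univ
    let μ : U.left ⟶ pullback wh wh := pullback.lift m m' (hmu.trans hmu'.symm)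
    let E : U.left.Opens := μ ⁻¹ᵁ (pullback.diagonal wh).opensRange
    let O : U.left.Opens := E ⊓ m ⁻¹ᵁ W₀
    have hqO : q.base default ∈ O := by
      refine ⟨⟨l.base default, ?_⟩, ?_⟩
      · refine congrArg (fun k : Spec (CommRingCat.of Ω) ⟶ pullback wh wh => k.base default)
          (show l ≫ pullback.diagonal wh = q ≫ μ from ?_)
        apply pullback.hom_ext
        · rw [Category.assoc, pullback.diagonal_fst, Category.comp_id, Category.assoc, pullback.lift_fst]
          exact hqm.symm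
        · rw [Category.assoc, pullback.diagonal_snd, Category.comp_id, Category.assoc, pullback.lift_snd]
          exact hqm'.symm
      · show m.base (q.base default) ∈ W₀
        rw [show m.base (q.base default) = l.base default from
          congrArg (fun k : Spec (CommRingCat.of Ω) ⟶ W.left => k.base default) hqm]
        exact hlW
    let U₀ : X.Etale := Scheme.Etale.mk (O.ι ≫ uh)
    obtain ⟨q₀, hq₀, -⟩ := exists_lift O.ι q (⟨_, hqO⟩ : ↥O) rfl
    obtain ⟨Ui, r₀, q', V, a, hq', hq'', ha, hqc, hsurj, hflat, hc⟩ :=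
      exists_piece (ξ := ξ) hcov U₀ q₀ ((Category.assoc _ _ _).symm.trans
        ((congrArg (fun j : Spec (CommRingCat.of Ω) ⟶ U.left => j ≫ uh) hq₀).trans hq))
    let r₀l : Ui.left ⟶ (O : Scheme.{u}) := r₀.left
    let j : Ui.left ⟶ U.left := r₀l ≫ O.ι
    have hj : j ≫ uh ≫ f = Ui.hom ≫ f := by
      rw [show Ui.hom = r₀l ≫ O.ι ≫ uh from (hom_left r₀).symm, Category.assoc, Category.assoc, Category.assoc]
    have hjmem : ∀ z, j.base z ∈ O := fun z => (r₀l.base z).2
    have hjm : j ≫ m = j ≫ m' := by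
      let d := IsOpenImmersion.lift (pullback.diagonal wh) (j ≫ μ) (by
        rintro _ ⟨z, rfl⟩; exact (hjmem z).1)
      have hd : d ≫ pullback.diagonal wh = j ≫ μ := IsOpenImmersion.lift_fac _ _ _
      have h1 := congrArg (· ≫ pullback.fst wh wh) hd
      have h2 := congrArg (· ≫ pullback.snd wh wh) hd
      simp only [Category.assoc, pullback.diagonal_fst, pullback.diagonal_snd, μ, pullback.lift_fst,
        pullback.lift_snd] at h1 h2
      exact h1.symm.trans h2
    let n : Ui.left ⟶ (Scheme.Opens.toScheme W₀) := IsOpenImmersion.lift (Scheme.Opens.ι W₀) (j ≫ m) (by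
      rw [Scheme.Opens.range_ι]; rintro _ ⟨z, rfl⟩; exact (hjmem z).2)
    have hn : n ≫ (Scheme.Opens.ι W₀) = j ≫ m := IsOpenImmersion.lift_fac _ _ _
    let vh : V.left ⟶ S := V.hom
    haveI : Etale vh := V.prop
    let w₀ : (Scheme.Opens.toScheme W₀) ⟶ S := (Scheme.Opens.ι W₀) ≫ wh
    haveI : IsAffine (Scheme.Opens.toScheme W₀) := hW₀
    haveI : IsSeparated w₀ := inferInstance
    have hnw : n ≫ w₀ = Ui.hom ≫ f := by
      rw [← Category.assoc, hn, Category.assoc, hmu, hj]
    let P := pullback vh w₀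
    let p₁ : P ⟶ V.left := pullback.fst vh w₀
    haveI : Etale p₁ := MorphismProperty.pullback_fst _ _ (inferInstance : Etale w₀)
    haveI : IsSeparated p₁ := MorphismProperty.pullback_fst _ _ ‹IsSeparated w₀›
    let γ : Ui.left ⟶ P := pullback.lift a n (ha.trans hnw.symm)
    let π : pullback a p₁ ⟶ P := pullback.snd a p₁
    let Γg : Ui.left ⟶ pullback a p₁ := pullback.lift (𝟙 _) γ (by rw [pullback.lift_fst, Category.id_comp])
    have hΓ : Γg ≫ pullback.fst a p₁ = 𝟙 _ := pullback.lift_fst _ _ _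
    haveI : Etale (Γg ≫ pullback.fst a p₁) := by rw [hΓ]; infer_instance
    haveI : Etale (pullback.fst a p₁) := MorphismProperty.pullback_fst _ _ ‹Etale p₁›
    haveI : IsSeparated (pullback.fst a p₁) := MorphismProperty.pullback_fst _ _ ‹IsSeparated p₁›
    haveI : IsClosedImmersion (Γg ≫ pullback.fst a p₁) := by rw [hΓ]; infer_instance
    haveI : IsClosedImmersion Γg := IsClosedImmersion.of_comp Γg (pullback.fst a p₁)
    haveI : Etale Γg := Etale.of_comp Γg (pullback.fst a p₁)
    have hR : IsClopen (Set.range Γg.base) :=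
      ⟨Γg.isClosedEmbedding.isClosed_range, Γg.isOpenMap.isOpen_range⟩
    have hsat : π.base ⁻¹' (π.base '' Set.range Γg.base) = Set.range Γg.base :=
      Set.Subset.antisymm (fun y ⟨r, hr, hry⟩ =>
        (hc.isPreconnected_fibre p₁ (π.base y)).subset_isClopen hR ⟨r, hry, hr⟩ rfl)
        (Set.subset_preimage_image _ _)
    haveI : Flat π := MorphismProperty.pullback_snd _ _ hflat
    haveI : QuasiCompact π := MorphismProperty.pullback_snd _ _ hqc
    haveI : Surjective π := MorphismProperty.pullback_snd _ _ hsurj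
    let N : P.Opens := ⟨π.base '' Set.range Γg.base,
      (Flat.isQuotientMap_of_surjective π).isOpen_preimage.1 (by rw [hsat]; exact hR.2)⟩
    have hγ : Γg ≫ π = γ := pullback.lift_snd _ _ _
    let k : Ui.left ⟶ (N : Scheme.{u}) := IsOpenImmersion.lift N.ι γ (by
      rw [Scheme.Opens.range_ι]
      rintro _ ⟨z, rfl⟩
      exact ⟨Γg.base z, ⟨z, rfl⟩, congrArg (fun t : Ui.left ⟶ P => t.base z) hγ⟩)
    have hk : k ≫ N.ι = γ := IsOpenImmersion.lift_fac _ _ _
    haveI : Surjective k := ⟨fun x => by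
      obtain ⟨_, ⟨z, rfl⟩, hz⟩ := x.2
      refine ⟨z, N.ι.isOpenEmbedding.injective ?_⟩
      exact (congrArg (fun t : Ui.left ⟶ P => t.base z) hk).trans
        ((congrArg (fun t : Ui.left ⟶ P => t.base z) hγ.symm).trans hz)⟩
    let p₂ : P ⟶ (Scheme.Opens.toScheme W₀) := pullback.snd vh w₀
    haveI : Etale (N.ι ≫ p₁ ≫ vh) := inferInstance
    let W' : S.Etale := Scheme.Etale.mk (N.ι ≫ p₁ ≫ vh)
    let rl : (N : Scheme.{u}) ⟶ W.left := N.ι ≫ p₂ ≫ (Scheme.Opens.ι W₀)
    have hrl : rl ≫ wh = N.ι ≫ p₁ ≫ vh := by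
      simp only [rl, Category.assoc]
      exact congrArg (N.ι ≫ ·) pullback.condition.symm
    let r : W' ⟶ W := MorphismProperty.Over.homMk rl hrl
    have hkr : k ≫ rl = j ≫ m := by
      rw [← Category.assoc, hk, ← Category.assoc, pullback.lift_snd, hn]
    have hkh : k ≫ N.ι ≫ p₁ ≫ vh = Ui.hom ≫ f := by
      rw [← Category.assoc k, hk, ← Category.assoc γ, pullback.lift_fst]; exact ha
    refine ⟨W', r, q' ≫ k, ?_, ?_, ?_⟩
    · show (q' ≫ k) ≫ N.ι ≫ p₁ ≫ vh = ξ ≫ f
      rw [Category.assoc, hkh, ← Category.assoc, hq'']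
    · show (q' ≫ k) ≫ rl = l
      rw [Category.assoc, hkr, Category.assoc, ← Category.assoc q' r₀l, show q' ≫ r₀l = q₀ from hq',
        ← Category.assoc, hq₀, hqm]
    · refine resT_injective g k hkh ?_
      have h' := congrArg (fun t => resT g j hj t) h
      simp only [resT_resT] at h'
      refine ((resT_resT g k hkh rl hrl s).trans ?_).trans (resT_resT g k hkh rl hrl s').symm
      exact (resT_congr g hkr _ _ s).trans (h'.trans (resT_congr g (hjm.symm.trans hkr.symm) _ _ s'))

/-- Base change in degree zero for morphisms with geometrically connected factorizations. -/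
theorem isIso_baseChange0Sh_of_hasFactorizations {Y : Scheme.{u}} [Flat f] (hcov : HasFactorizations f)
    (g : T ⟶ S) (h : Y ⟶ X) (e : Y ⟶ T) (hsq : IsPullback e h g f) (F : EtDesc.Sh T) :
    IsIso (EtBC.baseChange0Sh g f h e hsq.w F) :=
  isIso_of_stalksSh _ fun x =>
    ⟨_, inferInstance, inferInstance, gpt x, gpt_default x,
      baseChange0Sh_stalk_bijective g f h e hsq F (keyData_of_hasFactorizations hcov g F)⟩

end GrothLib.LocAcyc
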