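import Groth.Agent.Lib.LocAcyc.GenericSmooth
import Groth.Agent.Lib.FBase7.Models

/-!
# Nil-divisible generic models
-/

universe u

open scoped TensorProduct

set_option backward.isDefEq.respectTransparency.types false

noncomputable section

namespace GrothLib.LocAcyc

/-- The image of `R' ⊗ C` in the geometric generic fibre. -/
theorem injective_baseChange_smul (R' L Kb : Type u) {N : Type u} [CommRing R'] [Field L] [Field Kb] [Algebra R' L] [Algebra R' Kb]
    [Algebra L Kb] [IsScalarTower R' L Kb] [IsFractionRing R' L] [AddCommGroup N] [Module R' N] (z : N)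
    (hz : (1 : Kb) ⊗ₜ[R'] z = 0) : ∃ m : R', m ≠ 0 ∧ m • z = 0 := by
  have : Nontrivial R' := by
    rcases subsingleton_or_nontrivial R' with h | h
    · haveI := h
      exact absurd ((map_one (algebraMap R' L)).symm.trans (by rw [Subsingleton.elim (1 : R') 0, map_zero])) one_ne_zero
    · exact h
  have h1 : (1 : L) ⊗ₜ[R'] z = 0 := by
    have hinj := Module.Flat.tensorProduct_mk_injective (R := L) (S := Kb) (M := L ⊗[R'] N)
    refine hinj ((TensorProduct.AlgebraTensorModule.cancelBaseChange R' L Kb Kb N).injective ?_)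
    show TensorProduct.AlgebraTensorModule.cancelBaseChange R' L Kb Kb N ((1 : Kb) ⊗ₜ[L] ((1 : L) ⊗ₜ[R'] z)) =
      TensorProduct.AlgebraTensorModule.cancelBaseChange R' L Kb Kb N ((1 : Kb) ⊗ₜ[L] (0 : L ⊗[R'] N))
    rw [TensorProduct.AlgebraTensorModule.cancelBaseChange_tmul, one_smul, hz, TensorProduct.tmul_zero, map_zero]
  haveI : IsLocalizedModule (nonZeroDivisors R') (TensorProduct.mk R' L N 1) :=
    IsLocalization.tensorProduct_isLocalizedModule (nonZeroDivisors R') L
  obtain ⟨⟨m, hm⟩, hm'⟩ := (IsLocalizedModule.eq_zero_iff (nonZeroDivisors R') (TensorProduct.mk R' L N 1)).1 h1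
  exact ⟨m, nonZeroDivisors.ne_zero hm, hm'⟩

/-- The comparison map into a bigger base change. -/
def inclBase (R R' Kb C : Type u) [CommRing R] [CommRing R'] [CommRing Kb] [CommRing C] [Algebra R R'] [Algebra R Kb]
    [Algebra R' Kb] [IsScalarTower R R' Kb] [Algebra R C] : R' ⊗[R] C →ₐ[R'] Kb ⊗[R] C :=
  Algebra.TensorProduct.map (Algebra.ofId R' Kb) (AlgHom.id R C)

theorem inclBase_tmul {R R' Kb C : Type u} [CommRing R] [CommRing R'] [CommRing Kb] [CommRing C] [Algebra R R']
    [Algebra R Kb] [Algebra R' Kb] [IsScalarTower R R' Kb] [Algebra R C] (a : R') (c : C) :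
    inclBase R R' Kb C (a ⊗ₜ[R] c) = algebraMap R' Kb a ⊗ₜ[R] c :=
  Algebra.TensorProduct.map_tmul _ _ _ _

theorem cancelBaseChange_one_tmul {R R' Kb C : Type u} [CommRing R] [CommRing R'] [CommRing Kb] [CommRing C]
    [Algebra R R'] [Algebra R Kb] [Algebra R' Kb] [IsScalarTower R R' Kb] [Algebra R C] (w : R' ⊗[R] C) :
    Algebra.TensorProduct.cancelBaseChange R R' Kb Kb C ((1 : Kb) ⊗ₜ[R'] w) = inclBase R R' Kb C w := by
  induction w with
  | zero => simp
  | tmul a c => rw [Algebra.TensorProduct.cancelBaseChange_tmul, Algebra.smul_def, mul_one, inclBase_tmul]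
  | add a b ha hb => rw [TensorProduct.tmul_add, map_add, map_add, ha, hb]

/-- The universal map onto the base change of a quotient. -/
theorem exists_quotient_map (R R' Kb C : Type u) [CommRing R] [CommRing R'] [CommRing Kb] [CommRing C] [Algebra R R']
    [Algebra R Kb] [Algebra R' Kb] [IsScalarTower R R' Kb] [Algebra R C] (J : Ideal (R' ⊗[R] C)) :
    ∃ q : Kb ⊗[R] C →ₐ[Kb] Kb ⊗[R'] ((R' ⊗[R] C) ⧸ J),
      ∀ z, q (inclBase R R' Kb C z) = (1 : Kb) ⊗ₜ[R'] Ideal.Quotient.mk J z := by
  refine ⟨(Algebra.TensorProduct.map (AlgHom.id Kb Kb) (Ideal.Quotient.mkₐ R' J)).comp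
    (Algebra.TensorProduct.cancelBaseChange R R' Kb Kb C).symm.toAlgHom, fun z => ?_⟩
  rw [← cancelBaseChange_one_tmul]
  show Algebra.TensorProduct.map _ _ ((Algebra.TensorProduct.cancelBaseChange R R' Kb Kb C).symm
    (Algebra.TensorProduct.cancelBaseChange R R' Kb Kb C ((1 : Kb) ⊗ₜ[R'] z))) = _
  rw [AlgEquiv.symm_apply_apply, Algebra.TensorProduct.map_tmul]
  rfl

/-- Killing the nilpotents of a base change. -/
theorem isReduced_baseChange_quotient (R R' Kb C : Type u) [CommRing R] [CommRing R'] [CommRing Kb] [CommRing C]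
    [Algebra R R'] [Algebra R Kb] [Algebra R' Kb] [IsScalarTower R R' Kb] [Algebra R C] (d : Kb) (hd : IsUnit d)
    (G : Set (Kb ⊗[R] C)) (hG : Ideal.span G = nilradical (Kb ⊗[R] C))
    (hy : ∀ x ∈ G, ∃ y, inclBase R R' Kb C y = algebraMap Kb (Kb ⊗[R] C) d * x) :
    _root_.IsReduced (Kb ⊗[R'] ((R' ⊗[R] C) ⧸ (nilradical (Kb ⊗[R] C)).comap (inclBase R R' Kb C))) := by
  obtain ⟨q, hq⟩ := exists_quotient_map R R' Kb C ((nilradical (Kb ⊗[R] C)).comap (inclBase R R' Kb C))
  haveI : _root_.IsReduced ((Kb ⊗[R] C) ⧸ nilradical (Kb ⊗[R] C)) :=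
    (Ideal.isRadical_iff_quotient_reduced _).mp (Ideal.radical_isRadical _)
  have hN : ∀ x ∈ nilradical (Kb ⊗[R] C), q x = 0 := by
    show nilradical (Kb ⊗[R] C) ≤ RingHom.ker q
    refine hG.symm.le.trans (Ideal.span_le.2 fun x hx => ?_)
    obtain ⟨y, hy⟩ := hy x hx
    have hyJ : y ∈ (nilradical (Kb ⊗[R] C)).comap (inclBase R R' Kb C) := by
      rw [Ideal.mem_comap, hy]
      exact Ideal.mul_mem_left _ _ (hG.le (Ideal.subset_span hx))
    have h1 : q (inclBase R R' Kb C y) = 0 := by
      rw [hq, Ideal.Quotient.eq_zero_iff_mem.2 hyJ, TensorProduct.tmul_zero]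
    rw [hy, map_mul, AlgHom.commutes] at h1
    exact RingHom.mem_ker.2 ((hd.map (algebraMap Kb _)).mul_right_eq_zero.1 h1)
  let Φ := Algebra.TensorProduct.lift (Algebra.ofId Kb ((Kb ⊗[R] C) ⧸ nilradical (Kb ⊗[R] C)))
    (Ideal.Quotient.liftₐ ((nilradical (Kb ⊗[R] C)).comap (inclBase R R' Kb C))
      (((Ideal.Quotient.mkₐ Kb (nilradical (Kb ⊗[R] C))).restrictScalars R').comp (inclBase R R' Kb C))
      fun x hx => Ideal.Quotient.eq_zero_iff_mem.2 hx)
    (fun _ _ => Commute.all _ _)
  have hΨ : ∀ z, Ideal.Quotient.liftₐ _ q hN (Φ z) = z := fun z => by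
    induction z with
    | zero => simp
    | tmul a c =>
      obtain ⟨c, rfl⟩ := Ideal.Quotient.mk_surjective c
      rw [Algebra.TensorProduct.lift_tmul, map_mul, Algebra.ofId_apply, AlgHom.commutes]
      show algebraMap Kb _ a * q (inclBase R R' Kb C c) = _
      rw [hq, Algebra.TensorProduct.algebraMap_apply, Algebra.TensorProduct.tmul_mul_tmul, Algebra.algebraMap_self,
        RingHom.id_apply, mul_one, one_mul]
    | add x y hx hy => rw [map_add, map_add, hx, hy]
  exact isReduced_of_injective Φ (Function.LeftInverse.injective hΨ)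

/-- An integral extension with a quotient by an almost nil ideal having geometrically reduced generic fibre. -/
theorem exists_generic_model (R C : Type u) [CommRing R] [IsDomain R] [IsNoetherianRing R] [CommRing C] [Algebra R C]
    [Algebra.FiniteType R C] :
    ∃ (R' : Type u) (_ : CommRing R') (_ : IsDomain R') (_ : Algebra R R') (_ : Algebra.FiniteType R R')
      (_ : Algebra.IsIntegral R R'), Function.Injective (algebraMap R R') ∧
      ∃ J : Ideal (R' ⊗[R] C),
        Algebra.IsGeometricallyReduced (FractionRing R') (FractionRing R' ⊗[R'] ((R' ⊗[R] C) ⧸ J)) ∧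
        ∀ z ∈ J, ∃ (m : R') (n : ℕ), m ≠ 0 ∧ algebraMap R' (R' ⊗[R] C) m * z ^ n = 0 := by
  classical
  haveI : Algebra.IsAlgebraic R (AlgebraicClosure (FractionRing R)) :=
    (IsFractionRing.comap_isAlgebraic_iff (A := R) (K := FractionRing R) (C := AlgebraicClosure (FractionRing R))).2
      inferInstance
  haveI : IsNoetherianRing (AlgebraicClosure (FractionRing R) ⊗[R] C) :=
    Algebra.FiniteType.isNoetherianRing (AlgebraicClosure (FractionRing R)) _
  obtain ⟨G, hG⟩ := IsNoetherian.noetherian (nilradical (AlgebraicClosure (FractionRing R) ⊗[R] C))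
  choose t ht using fun x : AlgebraicClosure (FractionRing R) ⊗[R] C => TensorProduct.exists_finset x
  obtain ⟨d, hd, hint⟩ := Algebra.IsAlgebraic.exists_integral_multiples R (G.biUnion fun x => (t x).image Prod.fst)
  obtain ⟨R', hR'⟩ : ∃ R' : Subalgebra R (AlgebraicClosure (FractionRing R)), R' =
      Algebra.adjoin R (((G.biUnion fun x => (t x).image Prod.fst).image (d • ·) :
        Finset (AlgebraicClosure (FractionRing R))) : Set (AlgebraicClosure (FractionRing R))) := ⟨_, rfl⟩
  haveI : Algebra.IsIntegral R R' := by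
    rw [hR']
    exact Algebra.IsIntegral.adjoin fun x hx => by
      obtain ⟨a, ha, rfl⟩ := Finset.mem_image.1 hx
      exact hint a ha
  haveI : Algebra.FiniteType R R' := ⟨R'.fg_top.2 (hR' ▸ Subalgebra.fg_adjoin_finset _)⟩
  have hinjK : Function.Injective (algebraMap R (AlgebraicClosure (FractionRing R))) := by
    rw [IsScalarTower.algebraMap_eq R (FractionRing R) (AlgebraicClosure (FractionRing R))]
    exact (algebraMap (FractionRing R) (AlgebraicClosure (FractionRing R))).injective.comp
      (IsFractionRing.injective R (FractionRing R))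
  have hinjR : Function.Injective (algebraMap R R') := fun a b h => hinjK (congrArg Subtype.val h)
  refine ⟨R', inferInstance, inferInstance, inferInstance, inferInstance, inferInstance, hinjR, ?_⟩
  haveI := isReduced_baseChange_quotient R R' (AlgebraicClosure (FractionRing R)) C
    (algebraMap R (AlgebraicClosure (FractionRing R)) d) (isUnit_iff_ne_zero.2 ((map_ne_zero_iff _ hinjK).2 hd))
    (G : Set _) hG (fun x hx => by
      rw [← (inclBase R R' (AlgebraicClosure (FractionRing R)) C).mem_range,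
        ← IsScalarTower.algebraMap_apply, ← Algebra.smul_def]
      nth_rw 1 [ht x]
      rw [Finset.smul_sum]
      refine Subalgebra.sum_mem _ fun j hj => ⟨(⟨d • j.1, hR' ▸ Algebra.subset_adjoin (Finset.mem_image.2
        ⟨j.1, Finset.mem_biUnion.2 ⟨x, hx, Finset.mem_image.2 ⟨j, hj, rfl⟩⟩, rfl⟩)⟩ : R') ⊗ₜ[R] j.2, ?_⟩
      exact (inclBase_tmul _ _).trans (TensorProduct.smul_tmul' d j.1 j.2).symm)
  haveI : FaithfulSMul R' (AlgebraicClosure (FractionRing R)) :=
    (faithfulSMul_iff_algebraMap_injective R' (AlgebraicClosure (FractionRing R))).2 Subtype.val_injective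
  letI : Algebra (FractionRing R') (AlgebraicClosure (FractionRing R)) :=
    FractionRing.liftAlgebra R' (AlgebraicClosure (FractionRing R))
  haveI : IsScalarTower R' (FractionRing R') (AlgebraicClosure (FractionRing R)) :=
    FractionRing.isScalarTower_liftAlgebra R' (AlgebraicClosure (FractionRing R))
  refine ⟨(nilradical (AlgebraicClosure (FractionRing R) ⊗[R] C)).comap
    (inclBase R R' (AlgebraicClosure (FractionRing R)) C), ?_, fun z hz => ?_⟩
  · haveI : _root_.IsReduced (AlgebraicClosure (FractionRing R) ⊗[FractionRing R'] (FractionRing R' ⊗[R']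
        ((R' ⊗[R] C) ⧸ (nilradical (AlgebraicClosure (FractionRing R) ⊗[R] C)).comap
          (inclBase R R' (AlgebraicClosure (FractionRing R)) C)))) :=
      isReduced_of_injective (Algebra.TensorProduct.cancelBaseChange R' (FractionRing R')
        (AlgebraicClosure (FractionRing R)) (AlgebraicClosure (FractionRing R)) _)
        (Algebra.TensorProduct.cancelBaseChange R' (FractionRing R') (AlgebraicClosure (FractionRing R))
          (AlgebraicClosure (FractionRing R)) _).injective
    exact GrothLib.FBase7.isGeometricallyReduced_descend (FractionRing R') (AlgebraicClosure (FractionRing R))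
      (FractionRing R' ⊗[R'] ((R' ⊗[R] C) ⧸ (nilradical (AlgebraicClosure (FractionRing R) ⊗[R] C)).comap
        (inclBase R R' (AlgebraicClosure (FractionRing R)) C)))
  · obtain ⟨n, hn⟩ := mem_nilradical.1 (Ideal.mem_comap.1 hz)
    have h1 : (1 : AlgebraicClosure (FractionRing R)) ⊗ₜ[R'] (z ^ n) = 0 := by
      refine (Algebra.TensorProduct.cancelBaseChange R R' (AlgebraicClosure (FractionRing R)) (AlgebraicClosure (FractionRing R)) C).injective ?_
      rw [map_zero, cancelBaseChange_one_tmul, map_pow, hn]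
    obtain ⟨m, hm, hmz⟩ := injective_baseChange_smul R' (FractionRing R')
      (AlgebraicClosure (FractionRing R)) (z ^ n) h1
    exact ⟨m, n, hm, (Algebra.smul_def m (z ^ n)).symm.trans hmz⟩

/-- Homomorphisms to normal domains with algebraically closed fraction field extend to integral extensions. -/
theorem exists_lift_of_isIntegral {R R' A F : Type u} [CommRing R] [CommRing R'] [Algebra R R']
    [Algebra.IsIntegral R R'] (hinj : Function.Injective (algebraMap R R')) [CommRing A] [IsDomain A]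
    [IsIntegrallyClosed A] [Field F] [IsAlgClosed F] [Algebra A F] [IsFractionRing A F] (φ : R →+* A) :
    ∃ ψ : R' →+* A, ψ.comp (algebraMap R R') = φ := by
  let φF : R →+* F := (algebraMap A F).comp φ
  let p := RingHom.ker φF
  haveI : p.IsPrime := RingHom.ker_isPrime _
  obtain ⟨Q, -, hQ, hQc⟩ := Ideal.exists_ideal_over_prime_of_isIntegral (S := R') p ⊥ (by
    rw [← RingHom.ker_eq_comap_bot, (RingHom.injective_iff_ker_eq_bot _).1 hinj]; exact bot_le)
  haveI : Q.LiesOver p := ⟨hQc.symm⟩
  letI : Algebra (R ⧸ p) F := (RingHom.kerLift φF).toAlgebra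
  haveI : FaithfulSMul (R ⧸ p) F := (faithfulSMul_iff_algebraMap_injective _ _).2 (RingHom.kerLift_injective φF)
  haveI : FaithfulSMul (R ⧸ p) (R' ⧸ Q) := (faithfulSMul_iff_algebraMap_injective _ _).2
    ((injective_iff_map_eq_zero _).2 fun x hx => by
      obtain ⟨x, rfl⟩ := Ideal.Quotient.mk_surjective x
      rw [Ideal.Quotient.algebraMap_mk_of_liesOver, Ideal.Quotient.eq_zero_iff_mem] at hx
      rw [Ideal.Quotient.eq_zero_iff_mem, ← hQc]
      exact hx)
  haveI : Algebra.IsAlgebraic (R ⧸ p) (R' ⧸ Q) := Algebra.IsIntegral.isAlgebraic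
  let l : R' ⧸ Q →ₐ[R ⧸ p] F := IsAlgClosed.lift
  let ψF : R' →+* F := l.toRingHom.comp (Ideal.Quotient.mk Q)
  have hψF : ∀ r : R, ψF (algebraMap R R' r) = φF r := fun r => by
    show l (Ideal.Quotient.mk Q (algebraMap R R' r)) = _
    rw [← Ideal.Quotient.algebraMap_mk_of_liesOver Q p r]
    exact l.commutes _
  have hmem : ∀ z : R', ψF z ∈ (algebraMap A F).range := fun z => by
    refine IsIntegrallyClosed.algebraMap_eq_of_integral (K := F) ?_
    obtain ⟨P, hP, hP0⟩ := Algebra.IsIntegral.isIntegral (R := R) z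
    refine ⟨P.map φ, hP.map φ, ?_⟩
    rw [Polynomial.eval₂_map, show (algebraMap A F).comp φ = ψF.comp (algebraMap R R') from
      RingHom.ext fun r => (hψF r).symm, ← Polynomial.hom_eval₂, hP0, map_zero]
  let eA : A ≃+* (algebraMap A F).range :=
    RingEquiv.ofBijective (algebraMap A F).rangeRestrict
      ⟨fun a a' h => IsFractionRing.injective A F (congrArg Subtype.val h), (algebraMap A F).rangeRestrict_surjective⟩
  refine ⟨eA.symm.toRingHom.comp (ψF.codRestrict (algebraMap A F).range hmem), RingHom.ext fun r => ?_⟩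
  refine IsFractionRing.injective A F ?_
  exact (congrArg Subtype.val (eA.apply_symm_apply ⟨ψF (algebraMap R R' r), hmem _⟩)).trans (hψF r)

/-- Over a dense open of a Noetherian domain, base changes to normal domains with algebraically closed fraction
field are nil-divisible. -/
theorem exists_nilDivisible (R C : Type u) [CommRing R] [IsDomain R] [IsNoetherianRing R] [CommRing C] [Algebra R C]
    [Algebra.FiniteType R C] :
    ∃ r : R, r ≠ 0 ∧ ∀ (A : Type u) [CommRing A] [IsDomain A] [IsIntegrallyClosed A] (F : Type u) [Field F]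
      [IsAlgClosed F] [Algebra A F] [IsFractionRing A F] [Algebra R A], IsUnit (algebraMap R A r) →
      NilDivisible (Algebra.TensorProduct.includeLeftRingHom : A →+* A ⊗[R] C) := by
  classical
  obtain ⟨R', _, _, _, _, _, hinj, J, hgr, hnil⟩ := exists_generic_model R C
  haveI : IsNoetherianRing R' := Algebra.FiniteType.isNoetherianRing R R'
  haveI : IsNoetherianRing (R' ⊗[R] C) := Algebra.FiniteType.isNoetherianRing R' _
  haveI : Algebra.FiniteType R' ((R' ⊗[R] C) ⧸ J) :=
    Algebra.FiniteType.of_surjective (Ideal.Quotient.mkₐ R' J) Ideal.Quotient.mk_surjective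
  haveI : Algebra.FinitePresentation R' ((R' ⊗[R] C) ⧸ J) :=
    Algebra.FinitePresentation.of_finiteType.1 inferInstance
  haveI := hgr
  obtain ⟨r₁, hr₁, hdiv⟩ := exists_divisible_generic (R' := R') (C₁ := (R' ⊗[R] C) ⧸ J) (L := FractionRing R')
  obtain ⟨G, hG⟩ := IsNoetherian.noetherian J
  choose m n hm hmn using fun z : G => hnil z.1 (hG ▸ Ideal.subset_span z.2)
  let r' := r₁ * ∏ z : G, m z
  have hr' : r' ≠ 0 := mul_ne_zero hr₁ (Finset.prod_ne_zero_iff.2 fun z _ => hm z)
  obtain ⟨r, hrmem, hr⟩ := (Submodule.ne_bot_iff _).1 (Ideal.comap_ne_bot_of_integral_mem (R := R)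
    (I := Ideal.span {r'}) hr' (Ideal.mem_span_singleton_self r') (Algebra.IsIntegral.isIntegral r'))
  refine ⟨r, hr, fun A _ _ _ F _ _ _ _ _ hu => ?_⟩
  obtain ⟨ψ, hψ⟩ := exists_lift_of_isIntegral (R' := R') (F := F) hinj (algebraMap R A)
  letI : Algebra R' A := ψ.toAlgebra
  haveI : IsScalarTower R R' A := IsScalarTower.of_algebraMap_eq fun x => (RingHom.congr_fun hψ x).symm
  obtain ⟨c, hc⟩ := Ideal.mem_span_singleton'.1 (Ideal.mem_comap.1 hrmem)
  have hr'u : IsUnit (algebraMap R' A r') := by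
    refine isUnit_of_mul_isUnit_right (x := algebraMap R' A c) ?_
    rwa [← map_mul, hc, ← IsScalarTower.algebraMap_apply]
  rw [map_mul, IsUnit.mul_iff, map_prod, IsUnit.prod_iff] at hr'u
  let C₁ := (R' ⊗[R] C) ⧸ J
  let π₁ : A ⊗[R'] (R' ⊗[R] C) →ₐ[A] A ⊗[R'] C₁ :=
    Algebra.TensorProduct.map (AlgHom.id A A) (Ideal.Quotient.mkₐ R' J)
  let e := Algebra.TensorProduct.cancelBaseChange R R' A A C
  refine ⟨A ⊗[R'] C₁, inferInstance, π₁.toRingHom.comp e.symm.toAlgHom.toRingHom,
    (Algebra.TensorProduct.map_surjective (AlgHom.id A A) _ Function.surjective_id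
      Ideal.Quotient.mk_surjective).comp e.symm.surjective, fun x hx => ?_, ?_⟩
  · have hker : RingHom.ker (Algebra.TensorProduct.map (AlgHom.id R' A) (Ideal.Quotient.mkₐ R' J)) =
        Ideal.span ((fun z => (1 : A) ⊗ₜ[R'] z) '' (G : Set (R' ⊗[R] C))) := by
      rw [Algebra.TensorProduct.lTensor_ker _ Ideal.Quotient.mk_surjective,
        show RingHom.ker (Ideal.Quotient.mkₐ R' J) = J from Ideal.mk_ker, ← hG, Ideal.map_span]
      rfl
    have hy : e.symm x ∈ Ideal.span ((fun z => (1 : A) ⊗ₜ[R'] z) '' (G : Set (R' ⊗[R] C))) := hker ▸ hx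
    have hle : Ideal.span ((fun z => (1 : A) ⊗ₜ[R'] z) '' (G : Set (R' ⊗[R] C))) ≤
        nilradical (A ⊗[R'] (R' ⊗[R] C)) := by
      rw [Ideal.span_le]
      rintro _ ⟨z, hz, rfl⟩
      refine mem_nilradical.2 ⟨n ⟨z, hz⟩, ?_⟩
      have hu1 := (hr'u.2 ⟨z, hz⟩ (Finset.mem_univ _)).map
        (Algebra.TensorProduct.includeLeftRingHom : A →+* A ⊗[R'] (R' ⊗[R] C))
      refine hu1.mul_right_eq_zero.1 ?_
      show ((algebraMap R' A (m ⟨z, hz⟩)) ⊗ₜ[R'] (1 : R' ⊗[R] C)) * ((1 : A) ⊗ₜ[R'] z) ^ _ = 0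
      rw [Algebra.TensorProduct.tmul_pow, one_pow, Algebra.TensorProduct.tmul_mul_tmul, mul_one, one_mul,
        Algebra.algebraMap_eq_smul_one, TensorProduct.smul_tmul, Algebra.smul_def, hmn ⟨z, hz⟩, TensorProduct.tmul_zero]
    simpa using (mem_nilradical.1 (hle hy)).map e.toAlgHom.toRingHom
  · convert hdiv A hr'u.1 using 1
    refine RingHom.ext fun a => ?_
    show π₁ (e.symm (algebraMap A (A ⊗[R] C) a)) = a ⊗ₜ[R'] (1 : C₁)
    rw [e.symm.commutes, π₁.commutes]
    rfl

end GrothLib.LocAcyc
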