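import Groth.Agent.Lib.LocAcyc.GenericModel
import Groth.Agent.Lib.LocAcyc.LocConn
import Groth.Agent.Lib.RedSub.Basic
import Groth.Agent.S0414

/-!
# Generic universal local zero-acyclicity
-/

universe u

open CategoryTheory CategoryTheory.Limits AlgebraicGeometry Opposite TopologicalSpace
open GrothLib.EtSec
open scoped TensorProduct

set_option backward.isDefEq.respectTransparency.types false

noncomputable section

namespace GrothLib.LocAcyc

theorem NilDivisible.of_ringEquiv {A P Q : Type u} [CommRing A] [CommRing P] [CommRing Q] {iA : A →+* P}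
    (h : NilDivisible iA) (e : P ≃+* Q) : NilDivisible (e.toRingHom.comp iA) := by
  obtain ⟨P', _, π, hs, hk, hdiv⟩ := h
  refine ⟨P', inferInstance, π.comp e.symm.toRingHom, hs.comp e.symm.surjective,
    fun x hx => by simpa using (hk _ hx).map e.toRingHom, ?_⟩
  convert hdiv using 1
  exact RingHom.ext fun a => congrArg π (e.symm_apply_apply (iA a))

/-- Nil-divisibility over a basic open of an irreducible Noetherian affine base. -/
theorem exists_nilDivisible_of_prime_nilradical (R C : Type u) [CommRing R] [IsNoetherianRing R]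
    [(nilradical R).IsPrime] [CommRing C] [Algebra R C] [Algebra.FiniteType R C] :
    ∃ r : R, ¬ IsNilpotent r ∧ ∀ (A : Type u) [CommRing A] [IsDomain A] [IsIntegrallyClosed A] (F : Type u) [Field F]
      [IsAlgClosed F] [Algebra A F] [IsFractionRing A F] [Algebra R A], IsUnit (algebraMap R A r) →
      NilDivisible (Algebra.TensorProduct.includeLeftRingHom : A →+* A ⊗[R] C) := by
  obtain ⟨r₀, hr₀, H⟩ := exists_nilDivisible (R ⧸ nilradical R) ((R ⧸ nilradical R) ⊗[R] C)
  obtain ⟨r, rfl⟩ := Ideal.Quotient.mk_surjective r₀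
  refine ⟨r, fun h => hr₀ (Ideal.Quotient.eq_zero_iff_mem.2 (mem_nilradical.2 h)), fun A _ _ _ F _ _ _ _ _ hu => ?_⟩
  let φ : R ⧸ nilradical R →+* A := Ideal.Quotient.lift _ (algebraMap R A) fun x hx =>
    ((mem_nilradical.1 hx).map (algebraMap R A)).eq_zero
  letI : Algebra (R ⧸ nilradical R) A := φ.toAlgebra
  haveI : IsScalarTower R (R ⧸ nilradical R) A := IsScalarTower.of_algebraMap_eq fun _ => rfl
  have h1 := (H A F (show IsUnit (algebraMap (R ⧸ nilradical R) A (Ideal.Quotient.mk _ r)) from hu)).of_ringEquiv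
    (Algebra.TensorProduct.cancelBaseChange R (R ⧸ nilradical R) A A C).toRingEquiv
  convert h1 using 1
  refine RingHom.ext fun a => ?_
  show a ⊗ₜ[R] (1 : C) = Algebra.TensorProduct.cancelBaseChange R (R ⧸ nilradical R) A A C
    (a ⊗ₜ[R ⧸ nilradical R] (1 : (R ⧸ nilradical R) ⊗[R] C))
  rw [Algebra.TensorProduct.one_def, Algebra.TensorProduct.cancelBaseChange_tmul, one_smul]

/-- Charts given by open immersions of spectra. -/
theorem hasDivisibleCharts_of_specCharts {X Y : Scheme.{u}} (g : X ⟶ Y)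
    (h : ∀ x : X, ∃ (R C : Type u) (_ : CommRing R) (_ : CommRing C) (_ : Algebra R C)
      (iV : Spec (CommRingCat.of R) ⟶ Y) (_ : IsOpenImmersion iV) (iU : Spec (CommRingCat.of C) ⟶ X)
      (_ : IsOpenImmersion iU), iU ≫ g = Spec.map (CommRingCat.ofHom (algebraMap R C)) ≫ iV ∧
        x ∈ Set.range iU.base ∧ ∀ (A : Type u) [CommRing A] [IsDomain A] [IsIntegrallyClosed A]
          (F : Type u) [Field F] [IsAlgClosed F] [Algebra A F] [IsFractionRing A F] [Algebra R A],
          NilDivisible (Algebra.TensorProduct.includeLeftRingHom : A →+* A ⊗[R] C)) :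
    HasDivisibleCharts g := by
  intro x
  obtain ⟨R, C, _, _, _, iV, _, iU, _, hcomm, hx, H⟩ := h x
  have hV : IsAffineOpen iV.opensRange := isAffineOpen_opensRange iV
  have hU : IsAffineOpen iU.opensRange := isAffineOpen_opensRange iU
  have hUV : iU.opensRange ≤ g ⁻¹ᵁ iV.opensRange := by
    rintro _ ⟨z, rfl⟩
    exact ⟨(Spec.map (CommRingCat.ofHom (algebraMap R C))).base z,
      (congrArg (fun k : Spec (CommRingCat.of C) ⟶ Y => k.base z) hcomm).symm⟩
  refine ⟨iV.opensRange, hV, iU.opensRange, hU, hUV, hx, fun A _ _ _ _ F _ _ _ _ φ => ?_⟩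
  let eV : Spec (CommRingCat.of R) ≅ Spec Γ(Y, iV.opensRange) :=
    IsOpenImmersion.isoOfRangeEq iV hV.fromSpec (by rw [hV.range_fromSpec]; rfl)
  let eU : Spec (CommRingCat.of C) ≅ Spec Γ(X, iU.opensRange) :=
    IsOpenImmersion.isoOfRangeEq iU hU.fromSpec (by rw [hU.range_fromSpec]; rfl)
  have heV : eV.hom ≫ hV.fromSpec = iV := IsOpenImmersion.isoOfRangeEq_hom_fac _ _ _
  have heU : eU.hom ≫ hU.fromSpec = iU := IsOpenImmersion.isoOfRangeEq_hom_fac _ _ _
  have hsq : IsPullback eU.hom (Spec.map (CommRingCat.ofHom (algebraMap R C)))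
      (Spec.map (g.appLE iV.opensRange iU.opensRange hUV)) eV.hom := IsPullback.of_horiz_isIso ⟨by
    rw [← cancel_mono hV.fromSpec, Category.assoc, Category.assoc, heV,
      IsAffineOpen.SpecMap_appLE_fromSpec g hV hU hUV, ← Category.assoc, heU, hcomm]⟩
  obtain ⟨φ', hφ'⟩ := Spec.map_surjective (Spec.map (CommRingCat.ofHom φ) ≫ eV.inv)
  letI : Algebra R A := φ'.hom.toAlgebra
  obtain ⟨j, hj⟩ := Spec.map_surjective (Spec.map (CommRingCat.ofHom
    (Algebra.TensorProduct.includeRight (R := R) (A := A) (B := C)).toRingHom) ≫ eU.hom)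
  refine ⟨A ⊗[R] C, inferInstance, j.hom, Algebra.TensorProduct.includeLeftRingHom, ?_, H A F⟩
  have sq := ((isPullback_SpecMap_of_isPushout _ _ _ _ (CommRingCat.isPushout_tensorProduct R A C)).flip).paste_horiz hsq
  rw [← hj, show CommRingCat.ofHom (algebraMap R A) = φ' from rfl, hφ', Category.assoc, Iso.inv_hom_id,
    Category.comp_id] at sq
  exact sq

/-- The universally generalizing property descends along surjections to the source. -/
theorem uGen_of_surjective_comp {X X' Y : Scheme.{u}} (i : X' ⟶ X) [Surjective i] (g : X ⟶ Y) (h : UGen (i ≫ g)) :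
    UGen g := fun X₁ Y₁ b' b g₁ sq => by
  have sq' : IsPullback (pullback.fst i b') (pullback.snd i b' ≫ g₁) (i ≫ g) b :=
    (IsPullback.of_hasPullback i b').paste_vert sq.flip
  have hg := (h.of_isPullback sq').generalizingMap
  intro x y hy
  obtain ⟨x', rfl⟩ := (pullback.snd i b').surjective x
  obtain ⟨x'', hs, hx''⟩ := hg (a := x') hy
  exact ⟨(pullback.snd i b').base x'', (hs : x'' ⤳ x').map (pullback.snd i b').continuous, hx''⟩

/-- Surjective closed immersions are universally generalizing. -/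
theorem uGen_of_surjective_closedImmersion {X Y : Scheme.{u}} (i : X ⟶ Y) [IsClosedImmersion i] [Surjective i] :
    UGen i := fun X₁ Y₁ b' b i₁ sq => by
  haveI : IsClosedImmersion i₁ := MorphismProperty.of_isPullback sq.flip ‹IsClosedImmersion i›
  haveI : Surjective i₁ := MorphismProperty.of_isPullback sq.flip ‹Surjective i›
  intro x y hy
  obtain ⟨x', rfl⟩ := i₁.surjective y
  exact ⟨x', i₁.isClosedEmbedding.toIsEmbedding.specializes_iff.1 hy, rfl⟩

/-- A morphism of finite type to a Noetherian scheme is universally generalizing over a dense open. -/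
theorem exists_dense_uGen {X S : Scheme.{u}} (a : X ⟶ S) [LocallyOfFiniteType a] [QuasiCompact a] :
    ∃ U : S.Opens, Dense (U : Set S) ∧ ∀ W : S.Opens, W ≤ U → UGen (a ∣_ W) := by
  let Z := Scheme.IdealSheafData.vanishingIdeal (X := S) ⊤
  let i := Z.subschemeι
  haveI : IsReduced Z.subscheme := RedSub.isReduced_subscheme_vanishingIdeal _
  have hi : Set.range i.base = Set.univ := RedSub.range_subschemeι_vanishingIdeal _
  haveI : Surjective i := ⟨Set.range_eq_univ.1 hi⟩
  let f := pullback.snd a i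
  obtain ⟨U', hU', hflat, -⟩ := Groth.Agent.S0414.result f
  haveI := hflat
  let hom := i.isClosedEmbedding.toIsEmbedding.toHomeomorphOfSurjective i.surjective
  let U : S.Opens := ⟨hom '' U', hom.isOpenMap _ U'.2⟩
  refine ⟨U, hom.surjective.denseRange.dense_image hom.continuous hU', fun W hW => ?_⟩
  have hle : i ⁻¹ᵁ W ≤ U' := fun z hz => by
    obtain ⟨z', hz', he⟩ := hW hz
    exact hom.injective he ▸ hz'
  haveI : Flat (f ∣_ (i ⁻¹ᵁ W)) := by
    have h1 : IsPullback ((f ⁻¹ᵁ (i ⁻¹ᵁ W)).ι) (f ∣_ (i ⁻¹ᵁ W)) f (i ⁻¹ᵁ W).ι := (isPullback_morphismRestrict f _).flip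
    let l := Z.subscheme.homOfLE hle
    have h2 : IsPullback (pullback.snd (f ∣_ U') l) (pullback.fst (f ∣_ U') l) l (f ∣_ U') :=
      (IsPullback.of_hasPullback (f ∣_ U') l).flip
    have h3 := h2.flip.paste_horiz (isPullback_morphismRestrict f U').flip
    rw [Scheme.homOfLE_ι] at h3
    haveI : Flat (pullback.snd (f ∣_ U') l) := inferInstance
    exact (MorphismProperty.arrow_mk_iso_iff @Flat
      (Arrow.isoMk (h1.isoIsPullback _ _ h3) (Iso.refl _)
        ((h1.isoIsPullback_hom_snd _ _ h3).trans (Category.comp_id _).symm))).2 ‹Flat (pullback.snd (f ∣_ U') l)›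
  let iX : (f ⁻¹ᵁ (i ⁻¹ᵁ W) : Scheme.{u}) ⟶ ((a ⁻¹ᵁ W : X.Opens) : Scheme.{u}) :=
    IsOpenImmersion.lift (a ⁻¹ᵁ W).ι ((f ⁻¹ᵁ (i ⁻¹ᵁ W)).ι ≫ pullback.fst a i) (by
      rw [Scheme.Opens.range_ι]
      rintro _ ⟨z, rfl⟩
      show a.base ((pullback.fst a i).base ((f ⁻¹ᵁ (i ⁻¹ᵁ W)).ι.base z)) ∈ W
      rw [show a.base ((pullback.fst a i).base ((f ⁻¹ᵁ (i ⁻¹ᵁ W)).ι.base z)) =
        i.base (f.base ((f ⁻¹ᵁ (i ⁻¹ᵁ W)).ι.base z)) from
        congrArg (fun k : pullback a i ⟶ S => k.base ((f ⁻¹ᵁ (i ⁻¹ᵁ W)).ι.base z)) pullback.condition]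
      exact z.2)
  have hiX : iX ≫ (a ⁻¹ᵁ W).ι = (f ⁻¹ᵁ (i ⁻¹ᵁ W)).ι ≫ pullback.fst a i := IsOpenImmersion.lift_fac _ _ _
  haveI : Surjective iX := ⟨fun x => by
    obtain ⟨z, hz⟩ := i.surjective (a.base x.1)
    obtain ⟨w, hw1, hw2⟩ := Scheme.Pullback.exists_preimage_pullback (f := a) (g := i) x.1 z hz.symm
    refine ⟨⟨w, show i.base (f.base w) ∈ W from ?_⟩, (a ⁻¹ᵁ W).ι.isOpenEmbedding.injective ?_⟩
    · rw [show f.base w = z from hw2, hz]; exact x.2
    · exact (congrArg (fun k : (f ⁻¹ᵁ (i ⁻¹ᵁ W) : Scheme.{u}) ⟶ X => k.base _) hiX).trans hw1⟩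
  refine uGen_of_surjective_comp iX _ ?_
  have heq : iX ≫ (a ∣_ W) = (f ∣_ (i ⁻¹ᵁ W)) ≫ (i ∣_ W) := by
    rw [← cancel_mono W.ι, Category.assoc, morphismRestrict_ι, ← Category.assoc, hiX, Category.assoc,
      pullback.condition, Category.assoc, morphismRestrict_ι]
    exact ((Category.assoc _ _ _).symm.trans (congrArg (· ≫ i) (morphismRestrict_ι f _).symm)).trans
      (Category.assoc _ _ _)
  rw [heq]
  haveI hcl : IsClosedImmersion i := inferInstance
  haveI : IsClosedImmersion (i ∣_ W) := IsZariskiLocalAtTarget.restrict hcl W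
  haveI : Surjective (i ∣_ W) := IsZariskiLocalAtTarget.restrict ‹Surjective i› W
  exact (uGen_of_flat _).comp (uGen_of_surjective_closedImmersion _)

/-- A Noetherian ring has an irreducible basic open. -/
theorem exists_away_prime_nilradical (R : Type u) [CommRing R] [IsNoetherianRing R] [Nontrivial R] :
    ∃ f : R, (nilradical (Localization.Away f)).IsPrime := by
  classical
  obtain ⟨M, hM⟩ := Ideal.exists_maximal R
  haveI : M.IsPrime := hM.isPrime
  obtain ⟨p₀, hp₀, -⟩ := Ideal.exists_minimalPrimes_le (I := (⊥ : Ideal R)) (J := M) bot_le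
  haveI : Ideal.IsPrime (p₀ : Ideal R) := hp₀.1.1
  have hfin := minimalPrimes.finite_of_isNoetherianRing R
  have hex : ∀ q : ↥(hfin.toFinset.erase p₀), ∃ z ∈ (q.1 : Ideal R), z ∉ p₀ := fun q => by
    have hq := Finset.mem_erase.1 q.2
    rw [Set.Finite.mem_toFinset] at hq
    exact Set.not_subset.1 fun hle => hq.1 (le_antisymm hle (hp₀.2 hq.2.1 hle))
  choose z hz hz' using hex
  obtain ⟨f, hf⟩ : ∃ f : R, f = ∏ q, z q := ⟨_, rfl⟩
  have hfp : f ∉ p₀ := fun h => by
    rw [hf] at h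
    obtain ⟨q, -, hq⟩ := (Ideal.IsPrime.prod_mem_iff (p := p₀)).1 h
    exact hz' q hq
  have hd : Disjoint (↑(Submonoid.powers f) : Set R) ↑p₀ := (Ideal.disjoint_powers_iff_notMem_of_isPrime f).2 hfp
  refine ⟨f, ?_⟩
  have hprime : (Ideal.map (algebraMap R (Localization.Away f)) p₀).IsPrime :=
    IsLocalization.isPrime_of_isPrime_disjoint (Submonoid.powers f) _ p₀ ‹_› hd
  rw [show nilradical (Localization.Away f) = Ideal.map (algebraMap R (Localization.Away f)) p₀ from
    le_antisymm (nilradical_le_prime _) ?_]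
  · exact hprime
  rw [nilradical_eq_sInf]
  refine le_sInf fun Q hQ => Ideal.map_le_iff_le_comap.2 ?_
  haveI : Ideal.IsPrime (Q : Ideal (Localization.Away f)) := hQ
  haveI : (Ideal.comap (algebraMap R (Localization.Away f)) Q).IsPrime := Ideal.IsPrime.comap _
  obtain ⟨p, hp, hle⟩ := Ideal.exists_minimalPrimes_le (I := (⊥ : Ideal R))
    (J := Ideal.comap (algebraMap R (Localization.Away f)) Q) bot_le
  by_cases h : p = p₀
  · exact h ▸ hle
  · refine absurd (Ideal.eq_top_of_isUnit_mem Q ?_ (IsLocalization.Away.algebraMap_isUnit f))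
      (Ideal.IsPrime.ne_top ‹Q.IsPrime›)
    refine hle ?_
    rw [hf]
    obtain ⟨q, hq⟩ : ∃ q : ↥(hfin.toFinset.erase p₀), q.1 = p :=
      ⟨⟨p, Finset.mem_erase.2 ⟨h, hfin.mem_toFinset.2 hp⟩⟩, rfl⟩
    exact hq ▸ Ideal.mem_of_dvd q.1 (Finset.dvd_prod_of_mem z (Finset.mem_univ q)) (hz q)

/-- Nonempty opens of a Noetherian scheme contain good basic opens. -/
theorem exists_good_open {X S : Scheme.{u}} (a : X ⟶ S) [IsNoetherian S] [LocallyOfFiniteType a] [QuasiCompact a]
    (O : S.Opens) (hO : (O : Set S).Nonempty) :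
    ∃ W : S.Opens, (W : Set S).Nonempty ∧ W ≤ O ∧ ∀ x : X, a.base x ∈ W →
      ∃ (R C : Type u) (_ : CommRing R) (_ : CommRing C) (_ : Algebra R C)
        (iV : Spec (CommRingCat.of R) ⟶ S) (_ : IsOpenImmersion iV) (iU : Spec (CommRingCat.of C) ⟶ X)
        (_ : IsOpenImmersion iU), iU ≫ a = Spec.map (CommRingCat.ofHom (algebraMap R C)) ≫ iV ∧
          Set.range iV.base = W ∧ x ∈ Set.range iU.base ∧
          ∀ (A : Type u) [CommRing A] [IsDomain A] [IsIntegrallyClosed A]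
            (F : Type u) [Field F] [IsAlgClosed F] [Algebra A F] [IsFractionRing A F] [Algebra R A],
            NilDivisible (Algebra.TensorProduct.includeLeftRingHom : A →+* A ⊗[R] C) := by
  classical
  obtain ⟨s, hs⟩ := hO
  obtain ⟨_, ⟨W₀, hW₀, rfl⟩, hsW, hWO⟩ := S.isBasis_affineOpens.exists_subset_of_mem_open hs O.2
  haveI : IsNoetherianRing Γ(S, W₀) := IsLocallyNoetherian.component_noetherian ⟨W₀, hW₀⟩
  haveI : Nonempty W₀ := ⟨⟨s, hsW⟩⟩
  -- an irreducible basic open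
  haveI : Nontrivial Γ(S, W₀) := inferInstance
  obtain ⟨f₀, hprime⟩ := exists_away_prime_nilradical Γ(S, W₀)
  let R₁ := Localization.Away f₀
  haveI : IsNoetherianRing R₁ := IsLocalization.isNoetherianRing (Submonoid.powers f₀) R₁ inferInstance
  haveI : (nilradical R₁).IsPrime := hprime
  let i₁ : Spec (CommRingCat.of R₁) ⟶ S :=
    Spec.map (CommRingCat.ofHom (algebraMap Γ(S, W₀) R₁)) ≫ hW₀.fromSpec
  haveI : IsOpenImmersion (Spec.map (CommRingCat.ofHom (algebraMap Γ(S, W₀) R₁))) :=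
    AlgebraicGeometry.IsOpenImmersion.of_isLocalization f₀
  haveI : IsOpenImmersion i₁ := inferInstance
  -- finitely many charts
  let X₁ := pullback a i₁
  haveI : CompactSpace ↥X₁ := QuasiCompact.compactSpace_of_compactSpace (pullback.snd a i₁)
  let 𝒰 := X₁.affineCover.finiteSubcover
  haveI : Fintype 𝒰.I₀ := Fintype.ofFinite _
  have hchart : ∀ j : 𝒰.I₀, ∃ (C : Type u) (_ : CommRing C) (_ : Algebra R₁ C) (_ : Algebra.FiniteType R₁ C)
      (k : Spec (CommRingCat.of C) ⟶ X₁) (_ : IsOpenImmersion k),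
      k ≫ pullback.snd a i₁ = Spec.map (CommRingCat.ofHom (algebraMap R₁ C)) ∧ Set.range k.base = Set.range (𝒰.f j).base := by
    intro j
    let k₀ := (𝒰.X j).isoSpec.inv ≫ 𝒰.f j
    let ρ := Spec.preimage (k₀ ≫ pullback.snd a i₁)
    letI : Algebra R₁ Γ(𝒰.X j, ⊤) := ρ.hom.toAlgebra
    have hft : ρ.hom.FiniteType := by
      rw [← HasRingHomProperty.Spec_iff (P := @LocallyOfFiniteType)]
      rw [Spec.map_preimage]
      infer_instance
    refine ⟨Γ(𝒰.X j, ⊤), inferInstance, ρ.hom.toAlgebra, hft, k₀, inferInstance,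
      (Spec.map_preimage _).symm, ?_⟩
    simp [k₀, Set.range_comp, (𝒰.X j).isoSpec.inv.surjective.range_eq]
  choose C hC₁ hC₂ hC₃ k hk hkc hkr using hchart
  choose r hr hdiv using fun j => exists_nilDivisible_of_prime_nilradical R₁ (C j)
  let r₁ := ∏ j, r j
  have hr₁ : ¬ IsNilpotent r₁ := fun h => by
    obtain ⟨j, -, hj⟩ := (Ideal.IsPrime.prod_mem_iff (p := nilradical R₁)).1 (mem_nilradical.2 h)
    exact hr j (mem_nilradical.1 hj)
  let R₂ := Localization.Away r₁
  let i₂ : Spec (CommRingCat.of R₂) ⟶ S := Spec.map (CommRingCat.ofHom (algebraMap R₁ R₂)) ≫ i₁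
  haveI : IsOpenImmersion (Spec.map (CommRingCat.ofHom (algebraMap R₁ R₂))) :=
    AlgebraicGeometry.IsOpenImmersion.of_isLocalization r₁
  haveI : IsOpenImmersion i₂ := inferInstance
  haveI : Nontrivial R₂ := by
    refine nontrivial_of_ne 1 0 fun h1 => hr₁ ?_
    obtain ⟨⟨_, n, rfl⟩, hn⟩ := (IsLocalization.map_eq_zero_iff (Submonoid.powers r₁) R₂ (1 : R₁)).1
      ((map_one _).trans h1)
    exact ⟨n, by simpa using hn⟩
  refine ⟨i₂.opensRange, Set.range_nonempty _, ?_, fun x hx => ?_⟩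
  · rintro _ ⟨z, rfl⟩
    refine hWO ?_
    show hW₀.fromSpec.base _ ∈ (W₀ : Set S)
    rw [← hW₀.range_fromSpec]
    exact ⟨_, rfl⟩
  obtain ⟨z₂, hz₂⟩ := hx
  obtain ⟨x₁, hx₁, hx₁'⟩ := Scheme.Pullback.exists_preimage_pullback (f := a) (g := i₁) x
    ((Spec.map (CommRingCat.ofHom (algebraMap R₁ R₂))).base z₂) hz₂.symm
  obtain ⟨j, hj⟩ : ∃ j, x₁ ∈ Set.range (k j).base :=
    ⟨𝒰.idx x₁, (hkr _).symm ▸ 𝒰.covers x₁⟩
  obtain ⟨y, hy⟩ := hj
  letI := hC₁ j; letI := hC₂ j; haveI := hk j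
  have sq := isPullback_SpecMap_of_isPushout _ _ _ _ (CommRingCat.isPushout_tensorProduct R₁ R₂ (C j))
  let l : Spec (CommRingCat.of (R₂ ⊗[R₁] C j)) ⟶ Spec (CommRingCat.of (C j)) :=
    Spec.map (CommRingCat.ofHom (Algebra.TensorProduct.includeRight (R := R₁) (A := R₂) (B := C j)).toRingHom)
  haveI : IsOpenImmersion l := MorphismProperty.of_isPullback sq ‹_›
  refine ⟨R₂, R₂ ⊗[R₁] C j, inferInstance, inferInstance, inferInstance, i₂, inferInstance,
    l ≫ k j ≫ pullback.fst a i₁, inferInstance, ?_, rfl, ?_, fun A _ _ _ F _ _ _ _ _ => ?_⟩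
  · rw [Category.assoc, Category.assoc, pullback.condition, ← Category.assoc (k j), hkc, ← Category.assoc]
    show (Spec.map _ ≫ Spec.map _) ≫ i₁ = Spec.map _ ≫ Spec.map _ ≫ i₁
    rw [← sq.w, Category.assoc]
  · obtain ⟨w, -, hw⟩ := Scheme.Pullback.exists_preimage_pullback
      (f := Spec.map (CommRingCat.ofHom (algebraMap R₁ R₂))) (g := Spec.map (CommRingCat.ofHom (algebraMap R₁ (C j))))
      z₂ y (by
        rw [← hx₁', ← hy]
        exact congrArg (fun q : Spec (CommRingCat.of (C j)) ⟶ _ => q.base y) (hkc j))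
    refine ⟨sq.isoPullback.inv.base w, ?_⟩
    show (k j ≫ pullback.fst a i₁).base (l.base (sq.isoPullback.inv.base w)) = x
    rw [show l.base (sq.isoPullback.inv.base w) = y from
      (congrArg (fun q : pullback _ _ ⟶ Spec (CommRingCat.of (C j)) => q.base w) sq.isoPullback_inv_snd).trans hw]
    show (pullback.fst a i₁).base ((k j).base y) = x
    rw [hy, hx₁]
  · letI : Algebra R₁ A := ((algebraMap R₂ A).comp (algebraMap R₁ R₂)).toAlgebra
    haveI : IsScalarTower R₁ R₂ A :=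
      IsScalarTower.of_algebraMap_eq (R := R₁) (S := R₂) (A := A) (fun _ => rfl)
    have hu : IsUnit (algebraMap R₁ A (r j)) :=
      (IsLocalization.Away.isUnit_of_dvd r₁ (Finset.dvd_prod_of_mem r (Finset.mem_univ j))).map (algebraMap R₂ A)
    convert (hdiv j A F hu).of_ringEquiv
      (Algebra.TensorProduct.cancelBaseChange R₁ R₂ A A (C j)).symm.toRingEquiv using 1
    exact RingHom.ext fun t => ((Algebra.TensorProduct.cancelBaseChange R₁ R₂ A A (C j)).symm.commutes t).symm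

/-- Generic universal local zero-acyclicity. -/
theorem exists_dense_open_isULocZeroAcyclic {X S : Scheme.{u}} (a : X ⟶ S) [IsNoetherian S]
    [LocallyOfFiniteType a] [QuasiCompact a] :
    ∃ U : S.Opens, Dense (U : Set S) ∧ EtAcyc.IsULocZeroAcyclic (a ∣_ U) := by
  obtain ⟨U₁, hU₁, hgen⟩ := exists_dense_uGen a
  let U : S.Opens := ⨆ (W : S.Opens) (_ : W ≤ U₁ ∧ ∀ x : X, a.base x ∈ W →
      ∃ (R C : Type u) (_ : CommRing R) (_ : CommRing C) (_ : Algebra R C)
        (iV : Spec (CommRingCat.of R) ⟶ S) (_ : IsOpenImmersion iV) (iU : Spec (CommRingCat.of C) ⟶ X)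
        (_ : IsOpenImmersion iU), iU ≫ a = Spec.map (CommRingCat.ofHom (algebraMap R C)) ≫ iV ∧
          Set.range iV.base = W ∧ x ∈ Set.range iU.base ∧
          ∀ (A : Type u) [CommRing A] [IsDomain A] [IsIntegrallyClosed A]
            (F : Type u) [Field F] [IsAlgClosed F] [Algebra A F] [IsFractionRing A F] [Algebra R A],
            NilDivisible (Algebra.TensorProduct.includeLeftRingHom : A →+* A ⊗[R] C)), W
  have hUle : U ≤ U₁ := iSup₂_le fun W hW => hW.1
  refine ⟨U, dense_iff_inter_open.2 fun O hO hne => ?_, isULocZeroAcyclic_of_charts (hgen U hUle)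
    (hasDivisibleCharts_of_specCharts _ fun x => ?_)⟩
  · obtain ⟨W, ⟨s, hs⟩, hWO, hW⟩ := exists_good_open a (⟨O, hO⟩ ⊓ U₁) (dense_iff_inter_open.1 hU₁ O hO hne)
    exact ⟨s, (hWO hs).1, TopologicalSpace.Opens.mem_iSup.2 ⟨W, TopologicalSpace.Opens.mem_iSup.2
      ⟨⟨fun t ht => (hWO ht).2, hW⟩, hs⟩⟩⟩
  · obtain ⟨W, hW⟩ := TopologicalSpace.Opens.mem_iSup.1 (x.2 : a.base x.1 ∈ U)
    obtain ⟨hWc, hxW⟩ := TopologicalSpace.Opens.mem_iSup.1 hW
    obtain ⟨R, C, _, _, _, iV, _, iU, _, hcomm, hrange, hx, H⟩ := hWc.2 x.1 hxW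
    have hle : (W : Set S) ⊆ U := fun t ht => TopologicalSpace.Opens.mem_iSup.2
      ⟨W, TopologicalSpace.Opens.mem_iSup.2 ⟨hWc, ht⟩⟩
    let iV' := IsOpenImmersion.lift U.ι iV (by rw [Scheme.Opens.range_ι, hrange]; exact hle)
    let iU' := IsOpenImmersion.lift (a ⁻¹ᵁ U).ι iU (by
      rw [Scheme.Opens.range_ι]
      rintro _ ⟨z, rfl⟩
      show a.base (iU.base z) ∈ U
      rw [show a.base (iU.base z) = iV.base ((Spec.map (CommRingCat.ofHom (algebraMap R C))).base z) from
        congrArg (fun k : Spec (CommRingCat.of C) ⟶ S => k.base z) hcomm]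
      exact hle (hrange ▸ ⟨_, rfl⟩))
    have hV' : iV' ≫ U.ι = iV := IsOpenImmersion.lift_fac _ _ _
    have hU' : iU' ≫ (a ⁻¹ᵁ U).ι = iU := IsOpenImmersion.lift_fac _ _ _
    haveI : IsOpenImmersion iV' := by
      haveI : IsOpenImmersion (iV' ≫ U.ι) := hV'.symm ▸ inferInstance
      exact IsOpenImmersion.of_comp iV' U.ι
    haveI : IsOpenImmersion iU' := by
      haveI : IsOpenImmersion (iU' ≫ (a ⁻¹ᵁ U).ι) := hU'.symm ▸ inferInstance
      exact IsOpenImmersion.of_comp iU' (a ⁻¹ᵁ U).ι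
    refine ⟨R, C, inferInstance, inferInstance, inferInstance, iV', inferInstance, iU', inferInstance, ?_, ?_, H⟩
    · rw [← cancel_mono U.ι, Category.assoc, morphismRestrict_ι, ← Category.assoc, hU', hcomm, Category.assoc, hV']
    · obtain ⟨z, hz⟩ := hx
      refine ⟨z, (a ⁻¹ᵁ U).ι.isOpenEmbedding.injective ?_⟩
      exact (congrArg (fun k : Spec (CommRingCat.of C) ⟶ X => k.base z) hU').trans hz

end GrothLib.LocAcyc

namespace GrothLib.LocAcyc

/-- Base changes landing in the good open. -/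
theorem isULocZeroAcyclic_of_range_subset {X S Z Z' : Scheme.{u}} {a : X ⟶ S} {U : S.Opens}
    (hU : EtAcyc.IsULocZeroAcyclic (a ∣_ U)) {c : Z ⟶ S} (hc : Set.range c.base ⊆ (U : Set S)) {p : Z' ⟶ Z}
    {q : Z' ⟶ X} (h : IsPullback q p a c) : EtAcyc.IsULocZeroAcyclic p := by
  let c' := IsOpenImmersion.lift U.ι c (by rw [Scheme.Opens.range_ι]; exact hc)
  have hc' : c' ≫ U.ι = c := IsOpenImmersion.lift_fac _ _ _
  have hq : Set.range q.base ⊆ Set.range (a ⁻¹ᵁ U).ι.base := by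
    rw [Scheme.Opens.range_ι]
    rintro _ ⟨z, rfl⟩
    show a.base (q.base z) ∈ U
    rw [show a.base (q.base z) = c.base (p.base z) from congrArg (fun k : Z' ⟶ S => k.base z) h.w]
    exact hc ⟨_, rfl⟩
  let q' := IsOpenImmersion.lift (a ⁻¹ᵁ U).ι q hq
  have hq' : q' ≫ (a ⁻¹ᵁ U).ι = q := IsOpenImmersion.lift_fac _ _ _
  have hp : q' ≫ (a ∣_ U) = p ≫ c' := by
    rw [← cancel_mono U.ι, Category.assoc, morphismRestrict_ι, ← Category.assoc, hq', Category.assoc, hc', h.w]
  have big : IsPullback (q' ≫ (a ⁻¹ᵁ U).ι) p a (c' ≫ U.ι) := by rw [hq', hc']; exact h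
  exact isULocZeroAcyclic_of_isPullback hU (big.of_right hp (isPullback_morphismRestrict a U).flip)

end GrothLib.LocAcyc
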