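import Groth.Agent.Lib.LocAcyc.SmoothDivide
import Groth.Agent.S0389

/-!
# Generic divisibility for algebras with geometrically reduced generic fibre
-/

universe u

open scoped TensorProduct

set_option backward.isDefEq.respectTransparency.types false

noncomputable section

namespace GrothLib.LocAcyc

theorem Divisible.of_ringEquiv {A P Q : Type u} [CommRing A] [CommRing P] [CommRing Q] {iA : A →+* P}
    (h : Divisible iA) (e : P ≃+* Q) : Divisible (e.toRingHom.comp iA) := fun t ht => by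
  obtain ⟨hreg, hmem⟩ := h t ht
  refine ⟨fun x y hxy => e.symm.injective (hreg ?_), fun E _ _ _ b hb => ?_⟩
  · show iA t * e.symm x = iA t * e.symm y
    rw [← e.symm_apply_apply (iA t), ← map_mul, ← map_mul]
    exact congrArg e.symm hxy
  · letI : Algebra P E := ((algebraMap Q E).comp e.toRingHom).toAlgebra
    letI : Algebra P Q := e.toRingHom.toAlgebra
    haveI : IsScalarTower P Q E := IsScalarTower.of_algebraMap_eq fun _ => rfl
    haveI : Algebra.Etale P Q := RingHom.etale_algebraMap.1 (RingHom.Etale.of_bijective e.bijective)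
    haveI : Algebra.Etale P E := Algebra.Etale.comp P Q E
    exact hmem E b hb

/-- A geometrically reduced algebra of finite type over a field has a regular element off which it is smooth. -/
theorem exists_regular_smooth {L D : Type u} [Field L] [CommRing D] [Algebra L D] [Algebra.FiniteType L D]
    [Algebra.IsGeometricallyReduced L D] :
    ∃ h : D, IsSMulRegular D h ∧
      ∀ (Q : Ideal D) [Q.IsPrime], h ∉ Q → Algebra.IsSmoothAt L Q := by
  haveI : IsNoetherianRing D := Algebra.FiniteType.isNoetherianRing L D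
  haveI : _root_.IsReduced D := Algebra.isReduced_of_isGeometricallyReduced L
  haveI : Algebra.FinitePresentation L D := Algebra.FinitePresentation.of_finiteType.1 inferInstance
  obtain ⟨I, hI⟩ := (PrimeSpectrum.isClosed_iff_zeroLocus_ideal _).1
    (Algebra.isOpen_smoothLocus (R := L) (A := D)).isClosed_compl
  have hmem : ∀ (Q : Ideal D) [Q.IsPrime], ¬ I ≤ Q → Algebra.IsSmoothAt L Q := fun Q _ h => by
    have : (⟨Q, ‹_›⟩ : PrimeSpectrum D) ∉ (Algebra.smoothLocus L D)ᶜ := hI ▸ h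
    exact not_not.1 this
  have hnot : ¬ ((I : Set D) ⊆ ⋃ p ∈ minimalPrimes D, (p : Set D)) := fun h => by
    obtain ⟨p, hp, hle⟩ := (Ideal.subset_union_prime_finite (minimalPrimes.finite_of_isNoetherianRing D) ⊥ ⊥
      (fun p hp _ _ => hp.1.1)).1 h
    haveI : Ideal.IsPrime (p : Ideal D) := hp.1.1
    have hQ : (⟨p, hp.1.1⟩ : PrimeSpectrum D) ∈ (Algebra.smoothLocus L D)ᶜ := hI.symm ▸ hle
    exact hQ (isSmoothAt_of_mem_minimalPrimes p hp)
  obtain ⟨h, hhI, hh⟩ := Set.not_subset.1 hnot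
  refine ⟨h, fun x y hxy => sub_eq_zero.1 (IsReduced.eq_zero _ (mem_nilradical.1 ?_)), fun Q _ hQ =>
    hmem Q fun hle => hQ (hle hhI)⟩
  rw [nilradical, ← Ideal.sInf_minimalPrimes (I := (0 : Ideal D))]
  refine Submodule.mem_sInf.2 fun p hp => ?_
  have hxy' : h * (x - y) = 0 := by rw [mul_sub, sub_eq_zero]; exact hxy
  exact ((hp.1.1 : Ideal.IsPrime (p : Ideal D)).mem_or_mem (show h * (x - y) ∈ p from
    hxy' ▸ Submodule.zero_mem _)).resolve_left fun hm => hh (Set.mem_biUnion hp hm)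

/-- Smoothness of the generic fibre spreads out. -/
theorem exists_smooth_away {R' C₁ L : Type u} [CommRing R'] [IsDomain R'] [CommRing C₁] [Algebra R' C₁]
    [Algebra.FinitePresentation R' C₁] [Field L] [Algebra R' L] [IsFractionRing R' L] (h : C₁)
    (hsm : ∀ (Q : Ideal (L ⊗[R'] C₁)) [Q.IsPrime], (1 : L) ⊗ₜ[R'] h ∉ Q → Algebra.IsSmoothAt L Q) :
    ∃ r : R', r ≠ 0 ∧ Algebra.Smooth R' (Localization.Away (algebraMap R' C₁ r * h)) := by
  letI : Algebra C₁ (L ⊗[R'] C₁) := Algebra.TensorProduct.rightAlgebra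
  obtain ⟨I, hI⟩ := (PrimeSpectrum.isClosed_iff_zeroLocus_ideal _).1
    (Algebra.isOpen_smoothLocus (R := R') (A := C₁)).isClosed_compl
  haveI : IsLocalization (Algebra.algebraMapSubmonoid C₁ (nonZeroDivisors R')) (L ⊗[R'] C₁) :=
    IsLocalization.tensorRight L (nonZeroDivisors R')
  have hrad : algebraMap C₁ (L ⊗[R'] C₁) h ∈ (I.map (algebraMap C₁ (L ⊗[R'] C₁))).radical := by
    rw [Ideal.radical_eq_sInf]
    refine Submodule.mem_sInf.2 fun Q ⟨hle, hQ⟩ => by_contra fun hnot => ?_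
    haveI := hQ
    haveI := hsm Q hnot
    haveI : (Ideal.comap (algebraMap C₁ (L ⊗[R'] C₁)) Q).IsPrime := Ideal.IsPrime.comap _
    have hq : (⟨Ideal.comap (algebraMap C₁ (L ⊗[R'] C₁)) Q, inferInstance⟩ : PrimeSpectrum C₁) ∈
        (Algebra.smoothLocus R' C₁)ᶜ := hI.symm ▸ Ideal.map_le_iff_le_comap.1 hle
    refine hq ?_
    haveI : IsLocalization.AtPrime (Localization.AtPrime Q) (Ideal.comap (algebraMap C₁ (L ⊗[R'] C₁)) Q) :=
      IsLocalization.isLocalization_isLocalization_atPrime_isLocalization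
        (Algebra.algebraMapSubmonoid C₁ (nonZeroDivisors R')) _ Q
    haveI : Algebra.FormallySmooth R' L := Algebra.FormallySmooth.of_isLocalization (nonZeroDivisors R')
    haveI : Algebra.FormallySmooth R' (Localization.AtPrime Q) := Algebra.FormallySmooth.comp R' L _
    exact Algebra.FormallySmooth.of_equiv
      ((IsLocalization.algEquiv (Ideal.comap (algebraMap C₁ (L ⊗[R'] C₁)) Q).primeCompl (Localization.AtPrime Q)
        (Localization.AtPrime (Ideal.comap (algebraMap C₁ (L ⊗[R'] C₁)) Q))).restrictScalars R')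
  obtain ⟨n, hn⟩ := hrad
  rw [← map_pow, IsLocalization.algebraMap_mem_map_algebraMap_iff
    (Algebra.algebraMapSubmonoid C₁ (nonZeroDivisors R'))] at hn
  obtain ⟨_, ⟨r, hr, rfl⟩, hrI⟩ := hn
  refine ⟨r, nonZeroDivisors.ne_zero hr, Algebra.basicOpen_subset_smoothLocus_iff_smooth.1 fun q hq => ?_⟩
  by_contra hbad
  have hIq : I ≤ q.asIdeal := by
    have : q ∈ PrimeSpectrum.zeroLocus (I : Set C₁) := hI ▸ hbad
    exact this
  rcases q.isPrime.mem_or_mem (hIq hrI) with h1 | h1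
  · exact hq (Ideal.mul_mem_right _ _ h1)
  · exact hq (Ideal.mul_mem_left _ _ (q.isPrime.mem_of_pow_mem n h1))

/-- Generic divisibility. -/
theorem exists_divisible_generic {R' C₁ L : Type u} [CommRing R'] [IsDomain R'] [CommRing C₁] [Algebra R' C₁]
    [Algebra.FinitePresentation R' C₁] [Field L] [Algebra R' L] [IsFractionRing R' L]
    [Algebra.IsGeometricallyReduced L (L ⊗[R'] C₁)] :
    ∃ r : R', r ≠ 0 ∧ ∀ (A : Type u) [CommRing A] [IsDomain A] [IsIntegrallyClosed A] [Algebra R' A],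
      IsUnit (algebraMap R' A r) → Divisible (Algebra.TensorProduct.includeLeftRingHom : A →+* A ⊗[R'] C₁) := by
  haveI : Algebra.FiniteType L (L ⊗[R'] C₁) := inferInstance
  obtain ⟨h₀, hreg₀, hsm₀⟩ := exists_regular_smooth (L := L) (D := L ⊗[R'] C₁)
  let Λ : C₁ →ₗ[R'] L ⊗[R'] C₁ := TensorProduct.mk R' L C₁ 1
  haveI : IsLocalizedModule (nonZeroDivisors R') Λ :=
    IsLocalization.tensorProduct_isLocalizedModule (nonZeroDivisors R') L
  obtain ⟨⟨h, m, hm⟩, hh₀⟩ := IsLocalizedModule.surj (nonZeroDivisors R') Λ h₀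
  have hh₁ : algebraMap R' (L ⊗[R'] C₁) m * h₀ = (1 : L) ⊗ₜ[R'] h := (Algebra.smul_def m h₀).symm.trans hh₀
  have hmu : IsUnit (algebraMap R' (L ⊗[R'] C₁) m) := by
    rw [IsScalarTower.algebraMap_apply R' L (L ⊗[R'] C₁)]
    exact (IsLocalization.map_units L (⟨m, hm⟩ : nonZeroDivisors R')).map _
  have hregh : IsSMulRegular (L ⊗[R'] C₁) ((1 : L) ⊗ₜ[R'] h) := by
    rw [← hh₁]; exact (hmu.isSMulRegular _).mul hreg₀
  obtain ⟨r₁, hr₁, hsm⟩ := exists_smooth_away (L := L) h fun Q _ hQ => hsm₀ Q fun hh => hQ (by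
    rw [← hh₁]; exact Ideal.mul_mem_left _ _ hh)
  obtain ⟨f, hf, hfreeM, hfreeS, -, -⟩ := Groth.Agent.S0389.result (R := R') (S := C₁) (M := C₁ ⧸ Ideal.span {h})
  refine ⟨r₁ * f, mul_ne_zero hr₁ hf, fun A _ _ _ _ hr => ?_⟩
  let R₂ := Localization.Away (r₁ * f)
  have hru : IsUnit (algebraMap R' R₂ (r₁ * f)) := IsLocalization.Away.algebraMap_isUnit (r₁ * f)
  rw [map_mul, IsUnit.mul_iff] at hru
  letI : Algebra (Localization.Away f) R₂ :=
    (IsLocalization.Away.lift f hru.2 : Localization.Away f →+* R₂).toAlgebra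
  haveI : IsScalarTower R' (Localization.Away f) R₂ := IsScalarTower.of_algebraMap_eq fun x =>
    (IsLocalization.Away.lift_eq f hru.2 x).symm
  haveI : Module.Flat R₂ (R₂ ⊗[R'] C₁) := Module.Flat.of_linearEquiv
    (Algebra.TensorProduct.cancelBaseChange R' (Localization.Away f) R₂ R₂ C₁).symm.toLinearEquiv
  haveI : Module.Flat R₂ (R₂ ⊗[R'] (C₁ ⧸ Ideal.span {h})) := Module.Flat.of_linearEquiv
    (Algebra.TensorProduct.cancelBaseChange R' (Localization.Away f) R₂ R₂ (C₁ ⧸ Ideal.span {h})).symm.toLinearEquiv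
  haveI : Module.Flat R₂ ((R₂ ⊗[R'] C₁) ⧸ Ideal.span {(1 : R₂) ⊗ₜ[R'] h}) := by
    have e := Algebra.TensorProduct.tensorQuotientEquiv (R := R') R₂ C₁ R₂ (Ideal.span {h})
    rw [Ideal.map_span, Set.image_singleton] at e
    exact Module.Flat.of_linearEquiv e.symm.toLinearEquiv
  letI : Algebra R₂ L := (IsLocalization.Away.lift (r₁ * f) (g := algebraMap R' L)
    (isUnit_iff_ne_zero.2 (by
      rw [map_ne_zero_iff _ (IsFractionRing.injective R' L)]
      exact mul_ne_zero hr₁ hf)) : R₂ →+* L).toAlgebra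
  haveI : IsScalarTower R' R₂ L := IsScalarTower.of_algebraMap_eq fun x =>
    (IsLocalization.Away.lift_eq (r₁ * f) _ x).symm
  haveI : IsFractionRing R₂ L :=
    IsFractionRing.isFractionRing_of_isDomain_of_isLocalization (Submonoid.powers (r₁ * f)) R₂ L
  have hregC : IsSMulRegular (R₂ ⊗[R'] C₁) ((1 : R₂) ⊗ₜ[R'] h) := by
    let ι : R₂ ⊗[R'] C₁ →+* L ⊗[R'] C₁ :=
      (Algebra.TensorProduct.map (IsScalarTower.toAlgHom R' R₂ L) (AlgHom.id R' C₁)).toRingHom
    have hι : Function.Injective ι := by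
      have h1 := Module.Flat.tensorProduct_mk_injective (R := R₂) (S := L) (M := R₂ ⊗[R'] C₁)
      intro x y hxy
      have key : ∀ z, Algebra.TensorProduct.cancelBaseChange R' R₂ L L C₁ ((1 : L) ⊗ₜ[R₂] z) = ι z := fun z => by
        induction z with
        | zero => simp
        | tmul a c =>
          rw [Algebra.TensorProduct.cancelBaseChange_tmul, Algebra.smul_def, mul_one]
          rfl
        | add a b ha hb => rw [TensorProduct.tmul_add, map_add, map_add, ha, hb]
      exact h1 ((Algebra.TensorProduct.cancelBaseChange R' R₂ L L C₁).injective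
        ((key x).trans (hxy.trans (key y).symm)))
    have hι1 : ι ((1 : R₂) ⊗ₜ[R'] h) = (1 : L) ⊗ₜ[R'] h :=
      (Algebra.TensorProduct.map_tmul _ _ _ _).trans (by rw [map_one]; rfl)
    intro x y hxy
    refine hι (hregh ?_)
    show (1 : L) ⊗ₜ[R'] h * ι x = (1 : L) ⊗ₜ[R'] h * ι y
    rw [← hι1, ← map_mul, ← map_mul]
    exact congrArg ι hxy
  haveI : Algebra.Smooth R₂ (Localization.Away ((1 : R₂) ⊗ₜ[R'] h)) := by
    haveI : IsLocalization.Away ((1 : R₂) ⊗ₜ[R'] h)
        (Localization.Away ((1 : R₂) ⊗ₜ[R'] (algebraMap R' C₁ r₁ * h))) := by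
      refine IsLocalization.Away.of_associated (r := (1 : R₂) ⊗ₜ[R'] (algebraMap R' C₁ r₁ * h)) ?_
      refine Associated.trans (Associated.of_eq ?_) (associated_unit_mul_left _ _ (hru.1.map
        (Algebra.TensorProduct.includeLeftRingHom : R₂ →+* R₂ ⊗[R'] C₁)))
      show (1 : R₂) ⊗ₜ[R'] (algebraMap R' C₁ r₁ * h) = (algebraMap R' R₂ r₁ ⊗ₜ[R'] (1 : C₁)) * ((1 : R₂) ⊗ₜ[R'] h)
      rw [Algebra.TensorProduct.tmul_mul_tmul, mul_one, one_mul, ← Algebra.smul_def, TensorProduct.tmul_smul,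
        TensorProduct.smul_tmul', Algebra.smul_def, mul_one]
    exact Algebra.Smooth.of_equiv
      ((IsLocalization.Away.tensorProductEquivTMulRight R' R₂ (algebraMap R' C₁ r₁ * h)
          (Localization.Away (algebraMap R' C₁ r₁ * h))).trans
        ((IsLocalization.algEquiv (Submonoid.powers ((1 : R₂) ⊗ₜ[R'] h)) _ _).restrictScalars R₂))
  letI : Algebra R₂ A := (IsLocalization.Away.lift (r₁ * f) hr : R₂ →+* A).toAlgebra
  haveI : IsScalarTower R' R₂ A := IsScalarTower.of_algebraMap_eq fun x =>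
    (IsLocalization.Away.lift_eq (r₁ * f) hr x).symm
  have H := (divisible_of_smooth_regular (R := R₂) (A := A) _ hregC).of_ringEquiv
    (Algebra.TensorProduct.cancelBaseChange R' R₂ A A C₁).toRingEquiv
  convert H using 1
  refine RingHom.ext fun a => ?_
  show a ⊗ₜ[R'] (1 : C₁) = Algebra.TensorProduct.cancelBaseChange R' R₂ A A C₁ (a ⊗ₜ[R₂] (1 : R₂ ⊗[R'] C₁))
  rw [Algebra.TensorProduct.one_def, Algebra.TensorProduct.cancelBaseChange_tmul, one_smul]

end GrothLib.LocAcyc
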