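import Groth.Agent.Lib.LocAcyc.GeomRed

/-!
# Divisibility from a relatively dense smooth principal open
-/

universe u

open scoped TensorProduct

set_option backward.isDefEq.respectTransparency.types false

noncomputable section

namespace GrothLib.LocAcyc

/-- Base change of a smooth principal localization. -/
theorem formallySmooth_tensor_away {R C A : Type u} [CommRing R] [CommRing C] [Algebra R C] [CommRing A]
    [Algebra R A] (h : C) [Algebra.Smooth R (Localization.Away h)] :
    Algebra.FormallySmooth A (Localization.Away ((1 : A) ⊗ₜ[R] h)) :=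
  Algebra.FormallySmooth.of_equiv (IsLocalization.Away.tensorProductEquivTMulRight R A h (Localization.Away h))

/-- Principal localizations of etale algebras over the base change are smooth. -/
theorem smooth_away_of_etale {R C A E : Type u} [CommRing R] [CommRing C] [Algebra R C]
    [Algebra.FinitePresentation R C] [CommRing A] [Algebra R A] [CommRing E] [Algebra (A ⊗[R] C) E] [Algebra A E]
    [IsScalarTower A (A ⊗[R] C) E] [Algebra.Etale (A ⊗[R] C) E]
    (h : C) [Algebra.Smooth R (Localization.Away h)] :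
    Algebra.Smooth A (Localization.Away (algebraMap (A ⊗[R] C) E ((1 : A) ⊗ₜ[R] h))) := by
  let H₀ := (1 : A) ⊗ₜ[R] h
  let H := algebraMap (A ⊗[R] C) E H₀
  let P₀ := Localization.Away H₀
  let E₀ := Localization.Away H
  letI : Algebra P₀ E₀ := (IsLocalization.Away.map P₀ E₀ (algebraMap (A ⊗[R] C) E) H₀).toAlgebra
  haveI : IsScalarTower (A ⊗[R] C) P₀ E₀ := IsScalarTower.of_algebraMap_eq fun x => by
    rw [RingHom.algebraMap_toAlgebra, IsLocalization.Away.map, IsLocalization.map_eq,
      ← IsScalarTower.algebraMap_apply]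
  haveI : IsScalarTower A P₀ E₀ := IsScalarTower.of_algebraMap_eq fun x =>
    (IsScalarTower.algebraMap_apply A (A ⊗[R] C) E₀ x).trans
      ((IsScalarTower.algebraMap_apply (A ⊗[R] C) P₀ E₀ _).trans
        (congrArg (algebraMap P₀ E₀) (IsScalarTower.algebraMap_apply A (A ⊗[R] C) P₀ x).symm))
  haveI : IsLocalization (Algebra.algebraMapSubmonoid (R := A ⊗[R] C) E (Submonoid.powers H₀)) E₀ := by
    rw [Algebra.algebraMapSubmonoid_powers]; infer_instance
  haveI : Algebra.FormallySmooth P₀ E₀ := Algebra.FormallySmooth.localization_map (R := A ⊗[R] C) (A := E)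
    (Submonoid.powers H₀)
  haveI : Algebra.FormallySmooth A P₀ := formallySmooth_tensor_away h
  haveI : Algebra.FinitePresentation A E := Algebra.FinitePresentation.trans A (A ⊗[R] C) E
  haveI : Algebra.FinitePresentation E E₀ := IsLocalization.Away.finitePresentation H
  exact ⟨Algebra.FormallySmooth.comp A P₀ E₀, Algebra.FinitePresentation.trans A E E₀⟩

/-- A regular element with flat cokernel stays regular modulo a parameter. -/
theorem mem_span_of_mul_mem {R C A : Type u} [CommRing R] [CommRing C] [Algebra R C] (h : C)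
    (hh : IsSMulRegular C h) [Module.Flat R (C ⧸ Ideal.span {h})] [CommRing A] [Algebra R A] (t : A)
    (p : A ⊗[R] C) (hp : ((1 : A) ⊗ₜ[R] h) * p ∈ Ideal.span {t ⊗ₜ[R] (1 : C)}) :
    p ∈ Ideal.span {t ⊗ₜ[R] (1 : C)} := by
  let π : A ⊗[R] C →ₐ[R] (A ⧸ Ideal.span {t}) ⊗[R] C :=
    Algebra.TensorProduct.map (Ideal.Quotient.mkₐ R (Ideal.span {t})) (AlgHom.id R C)
  have hker : RingHom.ker π = Ideal.span {t ⊗ₜ[R] (1 : C)} := by
    rw [Algebra.TensorProduct.rTensor_ker (R := R) (S := R) (C := C) _ Ideal.Quotient.mk_surjective,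
      show RingHom.ker (Ideal.Quotient.mkₐ R (Ideal.span {t})) = Ideal.span {t} from Ideal.mk_ker,
      Ideal.map_span, Set.image_singleton]
    rfl
  have hinj := LinearMap.lTensor_injective_of_exact_of_flat (Ideal.Quotient.mkₐ R (Ideal.span {h})).toLinearMap
    Ideal.Quotient.mk_surjective (LinearMap.mulLeft R h) hh (fun c => by
      refine ⟨fun hc => ?_, ?_⟩
      · obtain ⟨d, hd⟩ := Ideal.mem_span_singleton'.1 (Ideal.Quotient.eq_zero_iff_mem.1 hc)
        exact ⟨d, (mul_comm _ _).trans hd⟩
      · rintro ⟨d, rfl⟩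
        exact Ideal.Quotient.eq_zero_iff_mem.2 (Ideal.mul_mem_right d _ (Ideal.mem_span_singleton_self h)))
    (A ⧸ Ideal.span {t})
  have key : ∀ z : (A ⧸ Ideal.span {t}) ⊗[R] C,
      (LinearMap.mulLeft R h).lTensor (A ⧸ Ideal.span {t}) z = ((1 : A ⧸ Ideal.span {t}) ⊗ₜ[R] h) * z := fun z => by
    induction z with
    | zero => simp
    | tmul a c => simp
    | add x y hx hy => rw [map_add, hx, hy, mul_add]
  rw [← hker, RingHom.mem_ker] at hp ⊢
  refine hinj ?_
  rw [key, map_zero, ← hp, map_mul]
  exact congrArg (· * π p) ((Algebra.TensorProduct.map_tmul _ _ _ _).trans (by rw [map_one]; rfl)).symm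

/-- Base changes of flat algebras with a universally regular element off which they are smooth are divisible. -/
theorem divisible_of_smooth_regular {R C A : Type u} [CommRing R] [CommRing C] [Algebra R C] [Module.Flat R C]
    [Algebra.FinitePresentation R C] (h : C) (hh : IsSMulRegular C h) [Module.Flat R (C ⧸ Ideal.span {h})]
    [Algebra.Smooth R (Localization.Away h)] [CommRing A] [IsDomain A] [IsIntegrallyClosed A] [Algebra R A] :
    Divisible (Algebra.TensorProduct.includeLeftRingHom : A →+* A ⊗[R] C) := fun t ht =>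
  ⟨isSMulRegular_tmul_one ht, fun E _ _ _ b hb => by
    letI : Algebra A E := ((algebraMap (A ⊗[R] C) E).comp Algebra.TensorProduct.includeLeftRingHom).toAlgebra
    haveI : IsScalarTower A (A ⊗[R] C) E := IsScalarTower.of_algebraMap_eq fun _ => rfl
    haveI : Module.Flat A E := Module.Flat.trans A (A ⊗[R] C) E
    haveI : Algebra.FinitePresentation A E := Algebra.FinitePresentation.trans A (A ⊗[R] C) E
    let T := algebraMap A E t
    let Q := (A ⊗[R] C) ⧸ Ideal.span {t ⊗ₜ[R] (1 : C)}
    let H₀ := (1 : A) ⊗ₜ[R] h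
    let H := algebraMap (A ⊗[R] C) E H₀
    have hregQ : IsSMulRegular Q H₀ := fun x y hxy => by
      obtain ⟨x, rfl⟩ := Ideal.Quotient.mk_surjective x
      obtain ⟨y, rfl⟩ := Ideal.Quotient.mk_surjective y
      refine Ideal.Quotient.eq.2 (mem_span_of_mul_mem h hh t (x - y) ?_)
      rw [mul_sub]
      exact Ideal.Quotient.eq.1 hxy
    have hregE : ∀ e : E, H * e ∈ Ideal.span {T} → e ∈ Ideal.span {T} := fun e he => by
      have hI : (Ideal.span {t ⊗ₜ[R] (1 : C)} : Ideal (A ⊗[R] C)) • (⊤ : Submodule (A ⊗[R] C) E) =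
          (Ideal.span {T}).restrictScalars (A ⊗[R] C) := by
        rw [Ideal.smul_top_eq_map, Ideal.map_span, Set.image_singleton]
        rfl
      have hreg : IsSMulRegular (E ⊗[A ⊗[R] C] Q) (algebraMap (A ⊗[R] C) E H₀) :=
        hregQ.of_flat_of_isBaseChange (TensorProduct.isBaseChange (A ⊗[R] C) Q E)
      have h2 : ∀ d : E, d ⊗ₜ[A ⊗[R] C] (1 : Q) = 0 ↔ d ∈ Ideal.span {T} := fun d => by
        rw [← Submodule.restrictScalars_mem (A ⊗[R] C) (Ideal.span {T}), ← hI, ← Flatness.one_tmul_eq_zero_iff,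
          ← (TensorProduct.comm (A ⊗[R] C) E Q).map_eq_zero_iff, TensorProduct.comm_tmul]
      refine (h2 e).1 (hreg ?_)
      show H • (e ⊗ₜ[A ⊗[R] C] (1 : Q)) = H • (0 : E ⊗[A ⊗[R] C] Q)
      rw [smul_zero, TensorProduct.smul_tmul', smul_eq_mul, (h2 _).2 he]
    by_contra hbT
    let J : Ideal E := (Ideal.span {T}).colon (Ideal.span {b})
    have hJmem : ∀ s : E, s ∈ J ↔ s * b ∈ Ideal.span {T} := fun s => by
      refine ⟨fun hs => Submodule.mem_colon.1 hs b (Ideal.mem_span_singleton_self b), fun hs => ?_⟩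
      refine Submodule.mem_colon.2 fun p hp => ?_
      obtain ⟨c, rfl⟩ := Ideal.mem_span_singleton'.1 hp
      rw [smul_eq_mul, mul_left_comm]
      exact Ideal.mul_mem_left _ c hs
    have hpow : ∀ n : ℕ, H ^ n ∉ J := by
      intro n
      induction n with
      | zero => exact fun h1 => hbT (show b ∈ Ideal.span {T} by simpa using (hJmem _).1 h1)
      | succ n ih => exact fun h1 => ih ((hJmem _).2 (hregE _ (by
          have := (hJmem _).1 h1
          rwa [pow_succ', mul_assoc] at this)))
    obtain ⟨q, hq, hJq, hd⟩ := Ideal.exists_le_prime_disjoint J (Submonoid.powers H) (Set.disjoint_left.2 fun x hx hx' => by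
      obtain ⟨n, rfl⟩ := hx'
      exact hpow n hx)
    haveI := smooth_away_of_etale (R := R) (C := C) (A := A) (E := E) h
    haveI : Algebra.IsSmoothAt A q := Algebra.basicOpen_subset_smoothLocus_iff_smooth.2 ‹Algebra.Smooth A (Localization.Away H)›
      (show (⟨q, hq⟩ : PrimeSpectrum E) ∈ PrimeSpectrum.basicOpen H from
        fun hH => Set.disjoint_left.1 hd hH (Submonoid.mem_powers H))
    obtain ⟨s, hs, hsb⟩ := exists_notMem_mul_mem (A := A) (t := t) (E := E) hb q
    exact hs (hJq ((hJmem s).2 hsb))⟩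

end GrothLib.LocAcyc
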