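import Groth.Agent.Lib.EtSec.AbCompare
import Groth.Agent.Lib.LocConst.ConstGerm

/-!
# Bijective units and connectedness
-/

universe u

open CategoryTheory CategoryTheory.Limits AlgebraicGeometry Opposite
open GrothLib.EtSite

set_option backward.isDefEq.respectTransparency.types false

noncomputable section

namespace GrothLib.LocAcyc

open GrothLib.EtSec

variable {Z Y : Scheme.{u}} (p : Z ⟶ Y)

/-- If the unit is bijective on global sections, global relative sections descend uniquely. -/
theorem res_bijective_of_isIso_unit (F : EtDesc.Sh Y) [IsIso ((EtDesc.adjSh p).unit.app F)] :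
    Function.Bijective (fun s : Secs (EtCoh.top Y).hom F =>
      s.res (pullback.fst (EtCoh.top Y).hom p) (bc_cond p (EtCoh.top Y))) := by
  let α := (EtDesc.adjSh p).unit.app F
  have hα : Function.Bijective (α.hom.app (op (EtCoh.top Y))) := by
    haveI : IsIso ((sheafToPresheaf _ _).map α) := inferInstance
    haveI : IsIso (α.hom.app (op (EtCoh.top Y))) :=
      (inferInstance : IsIso (((sheafToPresheaf _ _).map α).app (op (EtCoh.top Y))))
    exact ConcreteCategory.bijective_of_isIso _
  have h := ((toSecs_bijective p F _).comp hα)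
  have e : (fun s : Secs (EtCoh.top Y).hom F => s.res (pullback.fst (EtCoh.top Y).hom p) (bc_cond p (EtCoh.top Y))) ∘
      secOf F = toSecs p F ∘ α.hom.app (op (EtCoh.top Y)) := funext fun t =>
    ((toSecs_unit p F t).trans (ofSect_eq F _ _ t)).symm
  rw [← e] at h
  exact (Function.Bijective.of_comp_iff _ (secOf_bijective F _)).1 h

/-- A morphism all of whose units are isomorphisms has connected source if the target is connected. -/
theorem connectedSpace_of_isIso_unit [ConnectedSpace ↥Y]
    (h : ∀ F : EtDesc.Sh Y, IsIso ((EtDesc.adjSh p).unit.app F)) : ConnectedSpace ↥Z := by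
  classical
  let M : AddCommGrpCat.{u + 1} := AddCommGrpCat.of (ULift.{u + 1} (ZMod 2))
  let G : EtCoh.Ab Y := (constantSheaf Y.smallEtaleTopology AddCommGrpCat.{u + 1}).obj M
  let F := forgetSh G
  let T : Y.Etale := EtCoh.top Y
  let c : M → EtCoh.sect G T := fun m => (EtCore.constAdj Y).unit.app M m
  let s : M → Secs T.hom F := fun m => secOf F (c m)
  have hval : ∀ (Ω : Type u) [Field Ω] [IsSepClosed Ω] (q : Spec (CommRingCat.of Ω) ⟶ T.left)
      (η : Spec (CommRingCat.of Ω) ⟶ Y) (hq : q ≫ T.hom = η),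
      Function.Bijective (fun m => (s m).val Ω q η hq) := fun Ω _ _ q η hq => by
    have h1 := LocConst.bijective_germ_const (X := Y) η M
    have hfib : fib η q hq = LocConst.topFib η :=
      Over.OverMorphism.ext (show q = η from (Category.comp_id q).symm.trans hq)
    refine (Function.Bijective.of_comp_iff' (stalkForget_bijective η G) _).1 ?_
    have e : (stalkForget η G : _ → _) ∘ (fun m => (s m).val Ω q η hq) = fun m => germ η G (LocConst.topFib η) (c m) := by
      funext m
      show stalkForget η G ((secOf F (c m)).val Ω q η hq) = _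
      rw [secOf_val, stalkForget_gSh, hfib]
    rw [e]
    exact h1
  let m₀ : M := ⟨0⟩
  let m₁ : M := ⟨1⟩
  have hm : m₀ ≠ m₁ := fun h => zero_ne_one (congrArg ULift.down h)
  have hM : ∀ m : M, m = m₀ ∨ m = m₁ := fun ⟨m⟩ => by
    fin_cases m
    · exact Or.inl rfl
    · exact Or.inr rfl
  have hdisj : ∀ (σ : Secs T.hom F) (y : T.left), y ∈ Secs.eqLocus σ (s m₀) → y ∉ Secs.eqLocus σ (s m₁) := by
    intro σ y h₀ h₁
    obtain ⟨Ω, _, _, q, rfl⟩ := Secs.exists_point y
    exact hm ((hval Ω q _ rfl).1 (((Secs.mem_eqLocus_iff _ _ q _ rfl).1 h₀).symm.trans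
      ((Secs.mem_eqLocus_iff _ _ q _ rfl).1 h₁)))
  have hcover : ∀ (σ : Secs T.hom F) (y : T.left), y ∈ Secs.eqLocus σ (s m₀) ∨ y ∈ Secs.eqLocus σ (s m₁) := by
    intro σ y
    obtain ⟨Ω, _, _, q, rfl⟩ := Secs.exists_point y
    obtain ⟨m, hm'⟩ := (hval Ω q _ rfl).2 (σ.val Ω q _ rfl)
    rcases hM m with rfl | rfl
    · exact Or.inl ((Secs.mem_eqLocus_iff _ _ q _ rfl).2 hm'.symm)
    · exact Or.inr ((Secs.mem_eqLocus_iff _ _ q _ rfl).2 hm'.symm)
  haveI : ConnectedSpace ↥T.left := (inferInstance : ConnectedSpace ↥Y)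
  haveI := h F
  have hb := res_bijective_of_isIso_unit p F
  let W := pullback T.hom p
  let π : W ⟶ T.left := pullback.fst T.hom p
  let a : W ⟶ Y := ((EtCoh.bc p).obj T).hom ≫ p
  let r : Secs T.hom F → Secs a F := fun σ => σ.res π (bc_cond p T)
  obtain ⟨y₀⟩ : Nonempty ↥T.left := inferInstance
  haveI : Nonempty ↥W := by
    by_contra hW
    have h0 : r (s m₀) = r (s m₁) := Secs.eq_of_eqLocus _ _ fun z => (hW ⟨z⟩).elim
    exact hdisj (s m₀) y₀ (by rw [Secs.eqLocus_eq_univ rfl]; exact Set.mem_univ _)
      (by rw [Secs.eqLocus_eq_univ (hb.1 h0)]; exact Set.mem_univ _)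
  haveI : PreconnectedSpace ↥W := by
    rw [preconnectedSpace_iff_clopen]
    intro E hE
    let O : Bool → W.Opens := fun b => cond b ⟨E, hE.2⟩ ⟨Eᶜ, hE.1.isOpen_compl⟩
    let mb : Bool → M := fun b => cond b m₀ m₁
    obtain ⟨σ, hσ⟩ := Secs.exists_glue (a := a) (F := F) (fun b => (O b : Scheme.{u})) (fun b => (O b).ι)
      (fun b => inferInstance)
      (fun z => by
        by_cases hz : z ∈ E
        · exact ⟨true, ⟨z, hz⟩, rfl⟩
        · exact ⟨false, ⟨z, hz⟩, rfl⟩)
      (fun b => (r (s (mb b))).res (O b).ι rfl)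
      (fun b b' Ω _ _ q q' η hq hq' heq => by
        have hb' : b = b' := by
          have e : (O b).ι.base (q.base default) = (O b').ι.base (q'.base default) :=
            congrArg (fun k : Spec (CommRingCat.of Ω) ⟶ W => k.base default) heq
          have h₁ := (q.base default).2
          have h₂ := (q'.base default).2
          simp only [Scheme.Opens.ι_apply] at e
          cases b <;> cases b' <;> first
            | rfl
            | exact absurd (e ▸ h₂ : (q.base default).1 ∈ E) h₁
            | exact absurd (e ▸ h₁ : (q'.base default).1 ∈ E) h₂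
        subst hb'
        exact (r (s (mb b))).val_congr heq ((Category.assoc _ _ _).trans hq) ((Category.assoc _ _ _).trans hq'))
    obtain ⟨σ', hσ'⟩ := hb.2 σ
    have hloc : ∀ (b : Bool) (z : W), z ∈ O b → π.base z ∈ Secs.eqLocus σ' (s (mb b)) := fun b z hz => by
      rw [← Secs.mem_eqLocus_res π (bc_cond p T)]
      show z ∈ Secs.eqLocus (r σ') (r (s (mb b)))
      rw [show r σ' = σ from hσ', show z = (O b).ι.base ⟨z, hz⟩ from rfl, ← Secs.mem_eqLocus_res (O b).ι rfl, hσ b,
        Secs.eqLocus_eq_univ rfl]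
      exact Set.mem_univ _
    have hclopen : IsClopen (Secs.eqLocus σ' (s m₀)) := by
      refine ⟨⟨?_⟩, Secs.isOpen_eqLocus _ _⟩
      rw [show (Secs.eqLocus σ' (s m₀))ᶜ = Secs.eqLocus σ' (s m₁) from Set.ext fun y =>
        ⟨(hcover σ' y).resolve_left, fun h₁ h₀ => hdisj σ' y h₀ h₁⟩]
      exact Secs.isOpen_eqLocus _ _
    haveI : PreconnectedSpace ↥T.left := (inferInstance : PreconnectedSpace ↥Y)
    rcases (@isClopen_iff _ _ (show PreconnectedSpace _ from (inferInstance : PreconnectedSpace ↥Y)) _).1 hclopen with h0 | h1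
    · refine Or.inl (Set.eq_empty_of_forall_notMem fun z hz => ?_)
      have := hloc true z hz
      rw [show mb true = m₀ from rfl, h0] at this
      exact this
    · refine Or.inr (Set.eq_univ_of_forall fun z => ?_)
      by_contra hz
      exact hdisj σ' (π.base z) (h1.symm ▸ Set.mem_univ _) (hloc false z hz)
  haveI : ConnectedSpace ↥W := { toPreconnectedSpace := ‹PreconnectedSpace ↥W›, toNonempty := ‹Nonempty ↥W› }
  haveI : IsIso T.hom := (inferInstance : IsIso (𝟙 Y))
  exact (pullback.snd T.hom p).homeomorph.surjective.connectedSpace (pullback.snd T.hom p).continuous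

end GrothLib.LocAcyc
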